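import Cfsg.Agent.Recog.OddInvolution

/-!
An involutive automorphism of a finite group of odd order: inverted elements, the twisted
conjugation on them, and stable Sylow subgroups.
-/

set_option autoImplicit false
set_option linter.unusedSectionVars false
set_option linter.style.haveILetI false

namespace CfsgLib.RankThreeInv

open CfsgLib.Recog

universe u

/-- An involutive automorphism of a group of odd order. -/
structure OddInv (K : Type u) [Group K] where
  σ : K ≃* K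
  invol : ∀ k, σ (σ k) = k
  odd : Odd (Nat.card K)

variable {K : Type u} [Group K] [Finite K]

theorem exists_fixed_of_odd {α : Type*} [Finite α] (h : Odd (Nat.card α)) (f : α → α)
    (hf : Function.Involutive f) : ∃ a, f a = a := by
  classical
  have := Fintype.ofFinite α
  haveI : Fact (Nat.Prime 2) := ⟨Nat.prime_two⟩
  refine Equiv.Perm.exists_fixed_point_of_prime (p := 2) (n := 1) (σ := hf.toPerm f) ?_ ?_
  · rw [← Nat.card_eq_fintype_card]; exact h.not_two_dvd_nat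
  · ext a; simp [pow_two, Equiv.Perm.mul_apply, hf a]

/-- `P` is a maximal `p`-subgroup of `H`. -/
def IsSyl (p : ℕ) (H P : Subgroup K) : Prop :=
  P ≤ H ∧ IsPGroup p P ∧ ∀ W : Subgroup K, W ≤ H → IsPGroup p W → P ≤ W → W = P

theorem IsSyl.card_eq {p : ℕ} [Fact p.Prime] {H P : Subgroup K} (h : IsSyl p H P) :
    Nat.card P = p ^ (Nat.card H).factorization p := by
  obtain ⟨hle, hp, hmax⟩ := h
  obtain ⟨S, hS⟩ := (hp.of_equiv (Subgroup.subgroupOfEquivOfLe hle).symm).exists_le_sylow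
  have e : (S : Subgroup H).map H.subtype = P := by
    refine hmax _ (Subgroup.map_subtype_le _) (S.2.map _) fun x hx => ?_
    exact ⟨⟨x, hle hx⟩, hS hx, rfl⟩
  rw [← e, Subgroup.card_map_of_injective H.subtype_injective]
  exact S.card_eq_multiplicity

namespace OddInv

variable (D : OddInv K)
include D

theorem odd_ord (k : K) : Odd (orderOf k) := D.odd.of_dvd_nat (orderOf_dvd_natCard k)

theorem odd_sub (H : Subgroup K) : Odd (Nat.card H) :=
  D.odd.of_dvd_nat (Subgroup.card_subgroup_dvd_card H)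

theorem sq_inj {x y : K} (h : x * x = y * y) : x = y :=
  (eq_oddRoot (D.odd_ord x) rfl).symm.trans (h ▸ eq_oddRoot (D.odd_ord y) rfl)

theorem root_sq (x : K) : oddRoot x * oddRoot x = x := oddRoot_sq (D.odd_ord x)

theorem commute_sq {x g : K} (h : Commute g (x * x)) : Commute g x := commute_of_sq (D.odd_ord x) h

theorem eq_one_of_sq {x : K} (h : x * x = 1) : x = 1 := D.sq_inj (by rw [h, mul_one])

theorem eq_one_of_conj_inv {x g : K} (h : g * x * g⁻¹ = x⁻¹) : x = 1 :=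
  CfsgLib.Recog.eq_one_of_conj_inv (H := ⊤) (D.odd_sub ⊤) (Subgroup.mem_top x) (Subgroup.mem_top g) h

/-- The fixed subgroup. -/
def fix : Subgroup K := D.σ.toMonoidHom.eqLocus (MonoidHom.id K)

@[simp] theorem mem_fix {k : K} : k ∈ D.fix ↔ D.σ k = k := Iff.rfl

/-- The inverted elements of a subgroup. -/
def inv (H : Subgroup K) : Set K := {h | h ∈ H ∧ D.σ h = h⁻¹}

@[simp] theorem mem_inv {H : Subgroup K} {h : K} : h ∈ D.inv H ↔ h ∈ H ∧ D.σ h = h⁻¹ := Iff.rfl

/-- Stability of a subgroup. -/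
def Stable (H : Subgroup K) : Prop := ∀ k ∈ H, D.σ k ∈ H

theorem stable_top : D.Stable ⊤ := fun _ _ => Subgroup.mem_top _

theorem stable_inf {H H' : Subgroup K} (h : D.Stable H) (h' : D.Stable H') : D.Stable (H ⊓ H') :=
  fun k hk => ⟨h k hk.1, h' k hk.2⟩

theorem stable_fix : D.Stable D.fix := fun k hk => by rw [D.mem_fix.1 hk]; exact hk

theorem stable_closure {S : Set K} (h : ∀ x ∈ S, D.σ x ∈ Subgroup.closure S) :
    D.Stable (Subgroup.closure S) := by
  intro k hk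
  have : Subgroup.closure S ≤ (Subgroup.closure S).comap D.σ.toMonoidHom :=
    (Subgroup.closure_le _).2 h
  exact this hk

theorem stable_zpowers {i : K} (h : D.σ i = i⁻¹ ∨ D.σ i = i) : D.Stable (Subgroup.zpowers i) := by
  rintro _ ⟨n, rfl⟩
  rcases h with h | h
  · exact ⟨-n, by simp [map_zpow, h]⟩
  · exact ⟨n, by simp [map_zpow, h]⟩

theorem stable_centralizer {S : Set K} (h : ∀ x ∈ S, D.σ x ∈ S) :
    D.Stable (Subgroup.centralizer S) := by
  intro k hk
  rw [Subgroup.mem_centralizer_iff] at hk ⊢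
  intro x hx
  have := congrArg D.σ (hk _ (h x hx))
  simpa [map_mul, D.invol] using this

theorem stable_normalizer {H : Subgroup K} (h : D.Stable H) :
    D.Stable (Subgroup.normalizer (H : Set K)) := by
  intro k hk
  rw [Subgroup.mem_normalizer_iff] at hk ⊢
  intro x
  have hx : ∀ y, D.σ y ∈ H ↔ y ∈ H := fun y => ⟨fun hy => by simpa [D.invol] using h _ hy, h y⟩
  rw [← hx x, hk, ← hx (k * D.σ x * k⁻¹)]
  simp [map_mul, D.invol]

theorem one_mem_inv (H : Subgroup K) : (1 : K) ∈ D.inv H := ⟨H.one_mem, by simp⟩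

theorem inv_mono {H H' : Subgroup K} (h : H ≤ H') : D.inv H ⊆ D.inv H' := fun _ hx => ⟨h hx.1, hx.2⟩

theorem inv_inv_mem {H : Subgroup K} {i : K} (hi : i ∈ D.inv H) : i⁻¹ ∈ D.inv H :=
  ⟨H.inv_mem hi.1, by rw [map_inv, hi.2]⟩

theorem inv_fix_eq_one {i : K} (h : D.σ i = i⁻¹) (h' : D.σ i = i) : i = 1 := by
  refine D.eq_one_of_sq ?_
  nth_rw 1 [← h']
  rw [h, inv_mul_cancel]

theorem root_inv {i : K} (h : D.σ i = i⁻¹) : D.σ (oddRoot i) = (oddRoot i)⁻¹ := by
  refine D.sq_inj ?_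
  rw [← map_mul, D.root_sq, ← mul_inv_rev, D.root_sq, h]

theorem root_mem_inv {H : Subgroup K} {i : K} (h : i ∈ D.inv H) : oddRoot i ∈ D.inv H :=
  ⟨oddRoot_mem h.1, D.root_inv h.2⟩

theorem decomp {H : Subgroup K} (hH : D.Stable H) {x : K} (hx : x ∈ H) :
    ∃ i ∈ D.inv H, ∃ c ∈ H ⊓ D.fix, i * c = x := by
  have hy : x * (D.σ x)⁻¹ ∈ H := H.mul_mem hx (H.inv_mem (hH x hx))
  have hi : oddRoot (x * (D.σ x)⁻¹) ∈ D.inv H :=
    D.root_mem_inv ⟨hy, by rw [map_mul, map_inv, D.invol, mul_inv_rev, inv_inv]⟩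
  refine ⟨_, hi, (oddRoot (x * (D.σ x)⁻¹))⁻¹ * x,
    ⟨H.mul_mem (H.inv_mem hi.1) hx, ?_⟩, by rw [mul_inv_cancel_left]⟩
  show D.σ _ = (_ : K)
  rw [map_mul, map_inv, hi.2, inv_inv]
  show _ = (oddRoot (x * (D.σ x)⁻¹))⁻¹ * x
  rw [eq_inv_mul_iff_mul_eq, ← mul_assoc, D.root_sq, inv_mul_cancel_right]

theorem decomp_unique {i i' c c' : K} (hi : D.σ i = i⁻¹) (hi' : D.σ i' = i'⁻¹)
    (hc : D.σ c = c) (hc' : D.σ c' = c') (h : i * c = i' * c') : i = i' := by
  refine D.sq_inj ?_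
  have h1 : i * c * (D.σ (i * c))⁻¹ = i * i := by simp [map_mul, hi, hc, mul_assoc]
  have h2 : i' * c' * (D.σ (i' * c'))⁻¹ = i' * i' := by simp [map_mul, hi', hc', mul_assoc]
  rw [← h1, ← h2, h]

theorem card_decomp {H : Subgroup K} (hH : D.Stable H) :
    Nat.card H = Nat.card (D.inv H) * Nat.card (H ⊓ D.fix : Subgroup K) := by
  rw [← Nat.card_prod]
  refine (Nat.card_congr (Equiv.ofBijective
    (fun p : D.inv H × (H ⊓ D.fix : Subgroup K) => (⟨p.1 * p.2, H.mul_mem p.1.2.1 p.2.2.1⟩ : H))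
    ⟨?_, ?_⟩)).symm
  · rintro ⟨⟨i, hi⟩, ⟨c, hc⟩⟩ ⟨⟨i', hi'⟩, ⟨c', hc'⟩⟩ h
    have h' : i * c = i' * c' := congrArg Subtype.val h
    obtain rfl := D.decomp_unique hi.2 hi'.2 hc.2 hc'.2 h'
    obtain rfl := mul_left_cancel h'
    rfl
  · rintro ⟨x, hx⟩
    obtain ⟨i, hi, c, hc, rfl⟩ := D.decomp hH hx
    exact ⟨(⟨i, hi⟩, ⟨c, hc⟩), rfl⟩

/-- A nonempty stable translate of a subgroup contains a fixed element. -/
theorem exists_fixed_mem {S : Set K} (N : Subgroup K) {k : K}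
    (hS : ∀ x, x ∈ S ↔ k⁻¹ * x ∈ N) (hσ : ∀ x ∈ S, D.σ x ∈ S) : ∃ c ∈ S, D.σ c = c := by
  have hodd : Odd (Nat.card S) := by
    rw [Nat.card_congr (Equiv.subtypeEquiv (Equiv.mulLeft k⁻¹) hS : S ≃ N)]
    exact D.odd_sub N
  obtain ⟨⟨c, hc⟩, h⟩ := exists_fixed_of_odd hodd (fun x : S => (⟨D.σ x, hσ x x.2⟩ : S))
    fun x => Subtype.ext (D.invol x)
  exact ⟨c, hc, congrArg Subtype.val h⟩

variable {p : ℕ} [Fact p.Prime]

/-- A stable `p`-subgroup lies in a stable maximal `p`-subgroup. -/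
theorem exists_stable_syl {H W : Subgroup K} (hH : D.Stable H) (hW : D.Stable W) (hle : W ≤ H)
    (hp : IsPGroup p W) : ∃ P, W ≤ P ∧ IsSyl p H P ∧ D.Stable P := by
  obtain ⟨P, ⟨hWP, hPH, hPp, hPs⟩, hmax⟩ := Set.Finite.exists_maximal
    (Set.toFinite {P : Subgroup K | W ≤ P ∧ P ≤ H ∧ IsPGroup p P ∧ D.Stable P})
    ⟨W, le_rfl, hle, hp, hW⟩
  refine ⟨P, hWP, ⟨hPH, hPp, ?_⟩, hPs⟩
  set M := H ⊓ Subgroup.normalizer (P : Set K) with hM
  have hMs : D.Stable M := D.stable_inf hH (D.stable_normalizer hPs)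
  let τ : MulAut M :=
    { toFun := fun x => ⟨D.σ x, hMs x x.2⟩
      invFun := fun x => ⟨D.σ x, hMs x x.2⟩
      left_inv := fun x => Subtype.ext (D.invol x)
      right_inv := fun x => Subtype.ext (D.invol x)
      map_mul' := fun x y => Subtype.ext (map_mul D.σ (x : K) y) }
  have hττ : τ * τ = 1 := MulEquiv.ext fun x => Subtype.ext (D.invol x)
  have hodd : Odd (Nat.card (Sylow p M)) := by
    obtain ⟨S⟩ : Nonempty (Sylow p M) := inferInstance
    exact (D.odd_sub M).of_dvd_nat (S.card_dvd_index.trans (Subgroup.index_dvd_card _))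
  obtain ⟨S, hS⟩ := exists_fixed_of_odd hodd (fun S : Sylow p M => τ • S)
    fun S => by show τ • τ • S = S; rw [← mul_smul, hττ, one_smul]
  have hPM : P ≤ M := le_inf hPH Subgroup.le_normalizer
  haveI : (P.subgroupOf M).Normal := Subgroup.normal_subgroupOf_of_le_normalizer inf_le_right
  have hPS : P.subgroupOf M ≤ (S : Subgroup M) :=
    (hPp.of_equiv (Subgroup.subgroupOfEquivOfLe hPM).symm).le_sylow_of_normal S
  have hPS' : P ≤ (S : Subgroup M).map M.subtype := fun x hx => ⟨⟨x, hPM hx⟩, hPS hx, rfl⟩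
  have hSs : D.Stable ((S : Subgroup M).map M.subtype) := by
    rintro _ ⟨x, hx, rfl⟩
    refine ⟨τ x, ?_, rfl⟩
    rw [← hS]
    exact Subgroup.smul_mem_pointwise_smul x τ _ hx
  have hSP : (S : Subgroup M).map M.subtype = P :=
    le_antisymm (hmax ⟨hWP.trans hPS', (Subgroup.map_subtype_le _).trans inf_le_left, S.2.map _, hSs⟩
      hPS') hPS'
  intro Q hQH hQp hPQ
  by_contra hne
  haveI := hQp.isNilpotent
  have hlt : P.subgroupOf Q < ⊤ :=
    lt_top_iff_ne_top.2 fun h => hne (le_antisymm (Subgroup.subgroupOf_eq_top.1 h) hPQ)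
  obtain ⟨⟨y, hyQ⟩, hy, hyP⟩ :=
    SetLike.exists_of_lt (normalizerCondition_of_isNilpotent (G := Q) _ hlt)
  have hyn : y ∈ Subgroup.normalizer (P : Set K) := by
    rw [Subgroup.mem_normalizer_iff] at hy ⊢
    intro x
    constructor
    · intro hx; exact (hy ⟨x, hPQ hx⟩).1 hx
    · intro hx
      have hxQ : x ∈ Q := by
        simpa [mul_assoc] using Q.mul_mem (Q.mul_mem (Q.inv_mem hyQ) (hPQ hx)) hyQ
      exact (hy ⟨x, hxQ⟩).2 hx
  have hyM : y ∈ M := ⟨hQH hyQ, hyn⟩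
  -- `P` is a Sylow subgroup of its normaliser, so a `p`-element normalising it lies in it
  have hzp : IsPGroup p (Subgroup.zpowers (⟨y, hyM⟩ : M)) := by
    refine IsPGroup.iff_orderOf.2 fun z => ?_
    obtain ⟨k, hk⟩ := IsPGroup.iff_orderOf.1 hQp ⟨((z : M) : K), by
      obtain ⟨n, hn⟩ := z.2
      rw [← hn]; exact Q.zpow_mem hyQ n⟩
    exact ⟨k, by rw [← hk, ← Subgroup.orderOf_coe, ← Subgroup.orderOf_coe, ← Subgroup.orderOf_coe]⟩
  have hle' : Subgroup.zpowers (⟨y, hyM⟩ : M) ⊔ P.subgroupOf M = (S : Subgroup M) := by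
    have h1 : (S : Subgroup M) = P.subgroupOf M := by
      refine le_antisymm (fun x hx => ?_) hPS
      rw [Subgroup.mem_subgroupOf, ← hSP]; exact ⟨x, hx, rfl⟩
    refine S.3 (hzp.to_sup_of_normal_right ?_) ?_
    · exact h1 ▸ S.2
    · rw [h1]; exact le_sup_right
  have : (⟨y, hyM⟩ : M) ∈ (S : Subgroup M) :=
    hle' ▸ Subgroup.mem_sup_left (Subgroup.mem_zpowers _)
  exact hyP (Subgroup.mem_subgroupOf.2 (hSP ▸ ⟨_, this, rfl⟩))

/-- Stable maximal `p`-subgroups are conjugate under fixed elements. -/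
theorem syl_conj {H P Q : Subgroup K} (hH : D.Stable H) (hP : IsSyl p H P) (hPs : D.Stable P)
    (hQ : IsSyl p H Q) (hQs : D.Stable Q) :
    ∃ c ∈ H ⊓ D.fix, ∀ x, x ∈ Q ↔ c⁻¹ * x * c ∈ P := by
  have mk : ∀ {R : Subgroup K}, IsSyl p H R → ∃ S : Sylow p H, (S : Subgroup H) = R.subgroupOf H := by
    rintro R ⟨hle, hp, hmax⟩
    obtain ⟨S, hS⟩ := (hp.of_equiv (Subgroup.subgroupOfEquivOfLe hle).symm).exists_le_sylow
    refine ⟨S, le_antisymm (fun x hx => ?_) hS⟩
    have e : (S : Subgroup H).map H.subtype = R :=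
      hmax _ (Subgroup.map_subtype_le _) (S.2.map _) fun x hx => ⟨⟨x, hle hx⟩, hS hx, rfl⟩
    rw [Subgroup.mem_subgroupOf, ← e]; exact ⟨x, hx, rfl⟩
  obtain ⟨SP, hSP⟩ := mk hP
  obtain ⟨SQ, hSQ⟩ := mk hQ
  obtain ⟨g, hg⟩ := MulAction.exists_smul_eq H SP SQ
  have key : ∀ x : H, x ∈ (SQ : Subgroup H) ↔ g⁻¹ * x * g ∈ (SP : Subgroup H) := by
    intro x
    rw [← hg, Sylow.smul_def, Sylow.pointwise_smul_def, Subgroup.mem_pointwise_smul_iff_inv_smul_mem]
    simp [mul_assoc]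
  have key' : ∀ x, x ∈ Q ↔ (g : K)⁻¹ * x * g ∈ P := by
    intro x
    by_cases hx : x ∈ H
    · have := key ⟨x, hx⟩
      rw [hSQ, hSP, Subgroup.mem_subgroupOf, Subgroup.mem_subgroupOf] at this
      exact this
    · refine iff_of_false (fun h => hx (hQ.1 h)) fun h => hx ?_
      simpa [mul_assoc] using H.mul_mem (H.mul_mem g.2 (hP.1 h)) (H.inv_mem g.2)
  refine (D.exists_fixed_mem
    (S := {c | c ∈ H ∧ ∀ x, x ∈ Q ↔ c⁻¹ * x * c ∈ P})
    (H ⊓ Subgroup.normalizer (P : Set K)) (k := (g : K)) (fun c => ?_) (fun c hc => ?_)).elim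
    fun c hc => ⟨c, ⟨hc.1.1, hc.2⟩, hc.1.2⟩
  · rw [Set.mem_ofPred_eq, Subgroup.mem_inf, Subgroup.mem_normalizer_iff]
    constructor
    · rintro ⟨hcH, hc⟩
      refine ⟨H.mul_mem (H.inv_mem g.2) hcH, fun x => ?_⟩
      have h1 := hc (c * x * c⁻¹)
      rw [key'] at h1
      rw [show c⁻¹ * (c * x * c⁻¹) * c = x by group] at h1
      rw [← h1]
      exact iff_of_eq (congrArg (· ∈ P) (by group))
    · rintro ⟨hcH, hc⟩
      refine ⟨by simpa [mul_assoc] using H.mul_mem g.2 hcH, fun x => ?_⟩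
      rw [key', hc (c⁻¹ * x * c)]
      exact iff_of_eq (congrArg (· ∈ P) (by group))
  · refine ⟨hH c hc.1, fun x => ?_⟩
    have hQ' : ∀ y, D.σ y ∈ Q ↔ y ∈ Q := fun y => ⟨fun h => by simpa [D.invol] using hQs _ h, hQs y⟩
    have hP' : ∀ y, D.σ y ∈ P ↔ y ∈ P := fun y => ⟨fun h => by simpa [D.invol] using hPs _ h, hPs y⟩
    rw [← hQ' x, hc.2, ← hP' _]
    simp [map_mul, D.invol]

theorem card_inv_conj {c : K} (hc : D.σ c = c) {P Q : Subgroup K}
    (h : ∀ x, x ∈ Q ↔ c⁻¹ * x * c ∈ P) : Nat.card (D.inv Q) = Nat.card (D.inv P) := by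
  refine Nat.card_congr (Equiv.subtypeEquiv (MulAut.conj c⁻¹).toEquiv fun x => ?_)
  show x ∈ D.inv Q ↔ c⁻¹ * x * (c⁻¹)⁻¹ ∈ D.inv P
  rw [inv_inv, mem_inv, mem_inv, h]
  refine and_congr_right fun _ => ?_
  rw [map_mul, map_mul, map_inv, hc]
  simp [mul_assoc]

/-- The `p`-part of the number of inverted elements. -/
theorem factorization_inv {H P : Subgroup K} (hH : D.Stable H) (hP : IsSyl p H P) (hPs : D.Stable P) :
    p ^ (Nat.card (D.inv H)).factorization p = Nat.card (D.inv P) := by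
  have hp : p.Prime := Fact.out
  have h1 := D.card_decomp hH
  have h2 := D.card_decomp hPs
  have hI : Nat.card (D.inv H) ≠ 0 := by
    haveI : Nonempty (D.inv H) := ⟨⟨1, D.one_mem_inv H⟩⟩
    exact Nat.card_pos.ne'
  have hC : Nat.card (H ⊓ D.fix : Subgroup K) ≠ 0 := Nat.card_pos.ne'
  have h3 : Nat.card (P ⊓ D.fix : Subgroup K) =
      p ^ (Nat.card (H ⊓ D.fix : Subgroup K)).factorization p := by
    obtain ⟨S, hPS, hS, hSs⟩ := D.exists_stable_syl (W := P ⊓ D.fix) (D.stable_inf hH D.stable_fix)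
      (D.stable_inf hPs D.stable_fix) (inf_le_inf_right _ hP.1) (hP.2.1.to_le inf_le_left)
    obtain ⟨Q, hSQ, hQ, hQs⟩ := D.exists_stable_syl (W := S) hH hSs (hS.1.trans inf_le_left) hS.2.1
    obtain ⟨c, hc, hcQ⟩ := D.syl_conj hH hP hPs hQ hQs
    have h4 : Nat.card (Q ⊓ D.fix : Subgroup K) = Nat.card (P ⊓ D.fix : Subgroup K) := by
      have h6 := D.card_decomp hQs
      have e : Nat.card Q = Nat.card P := by rw [hQ.card_eq, hP.card_eq]
      have e' : Nat.card (D.inv Q) = Nat.card (D.inv P) := D.card_inv_conj hc.2 hcQ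
      haveI : Nonempty (D.inv P) := ⟨⟨1, D.one_mem_inv P⟩⟩
      refine Nat.eq_of_mul_eq_mul_left (show 0 < Nat.card (D.inv P) from Nat.card_pos) ?_
      rw [← h2, ← e, ← e', ← h6]
    rw [← hS.card_eq]
    refine le_antisymm (Nat.card_le_card_of_injective _ (Subgroup.inclusion_injective hPS)) ?_
    rw [← h4]
    exact Nat.card_le_card_of_injective _ (Subgroup.inclusion_injective
      (le_inf hSQ (hS.1.trans inf_le_right)))
  have h5 : (Nat.card H).factorization p = (Nat.card (D.inv H)).factorization p +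
      (Nat.card (H ⊓ D.fix : Subgroup K)).factorization p := by
    rw [h1, Nat.factorization_mul hI hC, Finsupp.add_apply]
  rw [hP.card_eq, h3, h5, pow_add] at h2
  exact Nat.eq_of_mul_eq_mul_right (pow_pos hp.pos _) h2

theorem exists_syl_of_inverted {H : Subgroup K} (hH : D.Stable H) {i : K} (hi : i ∈ D.inv H)
    {r : ℕ} (hr : i ^ p ^ r = 1) : ∃ P, i ∈ P ∧ IsSyl p H P ∧ D.Stable P := by
  have hz : IsPGroup p (Subgroup.zpowers i) := by
    rintro ⟨_, n, rfl⟩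
    refine ⟨r, Subtype.ext ?_⟩
    show (i ^ n) ^ p ^ r = 1
    rw [← zpow_natCast, zpow_comm, zpow_natCast, hr, one_zpow]
  obtain ⟨P, hP, hS, hs⟩ :=
    D.exists_stable_syl hH (D.stable_zpowers (Or.inl hi.2)) (Subgroup.zpowers_le.2 hi.1) hz
  exact ⟨P, hP (Subgroup.mem_zpowers i), hS, hs⟩

/-- Twisted conjugation. -/
def act (k i : K) : K := k * i * (D.σ k)⁻¹

theorem act_act (k l i : K) : D.act k (D.act l i) = D.act (k * l) i := by
  simp [act, map_mul, mul_assoc]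

@[simp] theorem act_one (i : K) : D.act 1 i = i := by simp [act]

theorem act_inverted {k i : K} (hi : D.σ i = i⁻¹) : D.σ (D.act k i) = (D.act k i)⁻¹ := by
  simp [act, map_mul, hi, D.invol, mul_assoc]

theorem act_mem_inv {H : Subgroup K} (hH : D.Stable H) {k i : K} (hk : k ∈ H) (hi : i ∈ D.inv H) :
    D.act k i ∈ D.inv H :=
  ⟨H.mul_mem (H.mul_mem hk hi.1) (H.inv_mem (hH k hk)), D.act_inverted hi.2⟩

theorem act_one_eq_one {k : K} : D.act k 1 = 1 ↔ k ∈ D.fix := by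
  rw [act, mul_one, mul_inv_eq_one, mem_fix, eq_comm]

theorem act_fix {c i : K} (hc : D.σ c = c) : D.act c i = c * i * c⁻¹ := by rw [act, hc]

theorem act_inv {j i : K} (hj : D.σ j = j⁻¹) : D.act j i = j * i * j := by rw [act, hj, inv_inv]

theorem act_rel (k i j : K) : (D.act k i)⁻¹ * D.act k j = D.σ k * (i⁻¹ * j) * (D.σ k)⁻¹ := by
  simp [act, mul_assoc]

theorem act_injective (k : K) : Function.Injective (D.act k) := fun i j h => by
  simpa [act] using h

theorem σ_act (k i : K) (hi : D.σ i = i⁻¹) : D.σ (D.act k i) = D.act (D.σ k) i⁻¹ := by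
  simp [act, map_mul, hi]

end OddInv

end CfsgLib.RankThreeInv
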