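import Cfsg.Agent.RankThreeInv.Counts

/-!
The first prime cannot give a system of blocks.
-/

set_option autoImplicit false
set_option linter.unusedSectionVars false
set_option linter.style.haveILetI false

namespace CfsgLib.RankThreeInv

open CfsgLib.Recog

universe u

namespace TwoPrime

variable {K : Type u} [Group K] [Finite K] (D : TwoPrime K)
include D

/-- Equal or related by the first prime. -/
def Same (i j : K) : Prop := i = j ∨ orderOf (i⁻¹ * j) = D.p

theorem same_refl (i : K) : D.Same i i := Or.inl rfl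

theorem same_symm {i j : K} (h : D.Same i j) : D.Same j i :=
  h.imp Eq.symm fun h => (D.orderOf_rel_symm i j).trans h

theorem same_act {i j : K} (k : K) (h : D.Same i j) : D.Same (D.act k i) (D.act k j) :=
  h.imp (congrArg _) fun h => (D.orderOf_rel_act k i j).trans h

theorem same_inv {i j : K} (h : D.Same i j) : D.Same i⁻¹ j⁻¹ :=
  h.imp (congrArg _) fun h => D.orderOf_rel_inv.trans h

theorem same_one {j : K} (h : orderOf j = D.p) : D.Same 1 j := Or.inr (by rw [inv_one, one_mul, h])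

theorem same_X {i j : K} (hi : i ∈ D.X) (hj : j ∈ D.X) : D.Same i j := by
  rcases D.rel_cases hi.2 hj.2 with h | h | h
  · exact Or.inl h
  · exact Or.inr h
  · exact absurd h (D.rel_X hi hj)

variable (ht : D.t = 1)
include ht

theorem mem_X_of_ord {h : K} (hh : D.σ h = h⁻¹) (ho : orderOf h = D.p) : h ∈ D.X := by
  have hsub : D.X \ {1} ⊆ D.ordP := by
    rintro x ⟨hx, hx1⟩
    refine ⟨hx.2, ?_⟩
    haveI := Fact.mk D.hp
    exact orderOf_eq_prime (D.pow_X hx) hx1
  have hc : (D.ordP).ncard ≤ (D.X \ {1}).ncard := by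
    rw [Set.ncard_sdiff (Set.singleton_subset_iff.2 D.one_mem_X), Set.ncard_singleton,
      ← Nat.card_coe_set_eq, ← Nat.card_coe_set_eq, D.card_ordP, ht, mul_one]
    rfl
  have e := Set.eq_of_subset_of_ncard_le hsub hc (Set.toFinite _)
  exact (e.symm ▸ (show h ∈ D.ordP from ⟨hh, ho⟩) : h ∈ D.X \ {1}).1

theorem same_trans {i j k : K} (hi : D.σ i = i⁻¹) (hj : D.σ j = j⁻¹) (hk : D.σ k = k⁻¹)
    (h1 : D.Same i j) (h2 : D.Same i k) : D.Same j k := by
  obtain ⟨e1, e2⟩ := D.sq_root hi
  have mem : ∀ {j : K}, D.σ j = j⁻¹ → D.Same i j → D.act (oddRoot i)⁻¹ j ∈ D.X := by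
    intro j hj h
    rcases D.same_act (oddRoot i)⁻¹ h with h | h
    · rw [← h, e2]; exact D.one_mem_X
    · rw [e2, inv_one, one_mul] at h
      exact D.mem_X_of_ord ht (D.act_inverted hj) h
  have := D.same_act (oddRoot i) (D.same_X (mem hj h1) (mem hk h2))
  rwa [D.act_act, D.act_act, mul_inv_cancel, D.act_one, D.act_one] at this

/-- The stabiliser of a pair of blocks exchanged by the automorphism. -/
def pairStab (a : K) (ha : D.σ a = a⁻¹) : Subgroup K where
  carrier := {k | D.Same a (D.act k a) ∧ D.Same a⁻¹ (D.act k a⁻¹)}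
  one_mem' := by simp [D.same_refl]
  mul_mem' := by
    rintro k l ⟨h1, h2⟩ ⟨h3, h4⟩
    have ha' : D.σ a⁻¹ = (a⁻¹)⁻¹ := by rw [map_inv, ha]
    constructor
    · rw [← D.act_act]
      exact D.same_trans ht (D.act_inverted ha) ha (D.act_inverted (D.act_inverted ha))
        (D.same_symm h1) (D.same_act k h3)
    · rw [← D.act_act]
      exact D.same_trans ht (D.act_inverted ha') ha' (D.act_inverted (D.act_inverted ha'))
        (D.same_symm h2) (D.same_act k h4)
  inv_mem' := by
    rintro k ⟨h1, h2⟩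
    constructor
    · simpa [D.act_act] using D.same_symm (D.same_act k⁻¹ h1)
    · simpa [D.act_act] using D.same_symm (D.same_act k⁻¹ h2)

theorem mem_pairStab_of_mem_X {a x : K} (ha : D.σ a = a⁻¹) (haX : a ∉ D.X) (hx : x ∈ D.X) :
    D.Same a (D.act x a) := by
  set H := D.pairStab ht a ha
  have hHs : D.Stable H := by
    rintro k ⟨h1, h2⟩
    have ha' : D.σ a⁻¹ = (a⁻¹)⁻¹ := by rw [map_inv, ha]
    constructor
    · have := D.same_inv h2
      rwa [inv_inv, ← D.act_inverted ha', D.σ_act k a⁻¹ ha', inv_inv] at this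
    · have := D.same_inv h1
      rwa [← D.act_inverted ha, D.σ_act k a ha] at this
  have hbij : Nat.card (D.inv H) = D.n := by
    have ha' : D.σ a⁻¹ = (a⁻¹)⁻¹ := by rw [map_inv, ha]
    have h1 : Nat.card (D.inv H) = Nat.card {b : K // D.σ b = b⁻¹ ∧ D.Same a⁻¹ b} := by
      refine Nat.card_congr (Equiv.ofBijective
        (fun j => ⟨D.act (j : K) a⁻¹, D.act_inverted ha', j.2.1.2⟩) ⟨?_, ?_⟩)
      · rintro ⟨j, hj⟩ ⟨j', hj'⟩ h
        have h' := congrArg Subtype.val h
        simp only [D.act_inv hj.2, D.act_inv hj'.2] at h'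
        have h2 : j * a⁻¹ = j' * a⁻¹ := D.sq_inj (by rw [← mul_assoc, h', mul_assoc])
        exact Subtype.ext (mul_right_cancel h2)
      · rintro ⟨b, hb, hab⟩
        set j := oddRoot (b * a⁻¹) * a with hj
        have hjb : j * a⁻¹ * j = b := by
          rw [hj, mul_inv_cancel_right, ← mul_assoc, D.root_sq, inv_mul_cancel_right]
        have hjσ : D.σ j = j⁻¹ := by
          have h2 : (D.σ j)⁻¹ * a⁻¹ * (D.σ j)⁻¹ = b := by
            have := congrArg D.σ hjb
            rw [map_mul, map_mul, map_inv, ha, inv_inv, hb] at this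
            rw [← inv_inv b, ← this]
            simp [mul_assoc]
          rw [← inv_inv (D.σ j)]
          refine congrArg _ (mul_right_cancel (b := a⁻¹) (D.sq_inj ?_))
          rw [← mul_assoc, h2, ← mul_assoc, hjb]
        refine ⟨⟨j, ⟨?_, ?_⟩, hjσ⟩, Subtype.ext ?_⟩
        · have e : D.σ (D.act j a⁻¹) = D.act (D.σ j) a := by rw [D.σ_act j a⁻¹ ha', inv_inv]
          rw [D.act_inverted ha', D.act_inv hjσ, hjb, hjσ] at e
          have := D.same_inv hab
          rw [inv_inv, e] at this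
          simpa [D.act_act] using D.same_symm (D.same_act j this)
        · rw [D.act_inv hjσ, hjb]; exact hab
        · show D.act j a⁻¹ = b
          rw [D.act_inv hjσ, hjb]
    rw [h1, n]
    obtain ⟨e1, e2⟩ := D.sq_root ha'
    refine Nat.card_congr (Equiv.ofBijective
      (fun b => ⟨D.act (oddRoot a⁻¹)⁻¹ b, ?_⟩) ⟨?_, ?_⟩)
    · rcases D.same_act (oddRoot a⁻¹)⁻¹ b.2.2 with h | h
      · rw [← h, e2]; exact D.one_mem_X
      · rw [e2, inv_one, one_mul] at h
        exact D.mem_X_of_ord ht (D.act_inverted b.2.1) h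
    · exact fun b c h => Subtype.ext (D.act_injective _ (congrArg Subtype.val h))
    · rintro ⟨y, hy⟩
      refine ⟨⟨D.act (oddRoot a⁻¹) y, D.act_inverted hy.2, ?_⟩, Subtype.ext ?_⟩
      · nth_rw 1 [← e1]
        exact D.same_act _ (D.same_X D.one_mem_X hy)
      · simp [D.act_act]
  haveI := Fact.mk D.hp
  haveI := Fact.mk D.hq
  have hb : D.Stable ⊥ := fun k hk => by rw [Subgroup.mem_bot] at hk ⊢; rw [hk, map_one]
  obtain ⟨P, -, hP, hPs⟩ := D.exists_stable_syl (p := D.p) hHs hb bot_le IsPGroup.of_bot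
  obtain ⟨Q, -, hQ, hQs⟩ := D.exists_stable_syl (p := D.q) hHs hb bot_le IsPGroup.of_bot
  have hc := D.card_inv hHs hP hPs hQ hQs
  have hQ1 : Nat.card (D.inv Q) = 1 := by
    obtain ⟨a, ha⟩ := D.n_eq_pow
    refine Nat.eq_one_of_dvd_coprimes (((Nat.coprime_primes D.hq D.hp).2 D.hpq.symm).pow_left
      ((Nat.card (D.inv H)).factorization D.q) |>.pow_right a) ?_ ?_
    · rw [D.factorization_inv hHs hQ hQs]
    · rw [← ha, ← hbij, hc]; exact dvd_mul_left _ _
  rw [hQ1, mul_one] at hc
  have e1 : D.inv P = D.inv H := Set.eq_of_subset_of_ncard_le (D.inv_mono hP.1)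
    (by rw [← Nat.card_coe_set_eq, ← Nat.card_coe_set_eq, hc]) (Set.toFinite _)
  have hsub : D.inv H ⊆ D.X := by
    intro h hh
    by_cases h1 : h = 1
    · exact h1 ▸ D.one_mem_X
    exact D.mem_X_of_ord ht hh.2 (orderOf_eq_prime
      (D.ord_of_isPGroup D.hp D.hpq hP.2.1 (e1 ▸ hh)) h1)
  have e2 : D.inv H = D.X := Set.eq_of_subset_of_ncard_le hsub
    (by rw [← Nat.card_coe_set_eq, ← Nat.card_coe_set_eq, hbij]; rfl) (Set.toFinite _)
  have hxH : x ∈ H := (e2.symm ▸ hx : x ∈ D.inv H).1
  exact hxH.1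

theorem no_blocks (hrad : ∀ N : Subgroup K, N.Normal → IsPGroup D.p N → N = ⊥) : False := by
  let M : Subgroup K :=
    { carrier := {k | ∀ i, D.σ i = i⁻¹ → D.Same i (D.act k i)}
      one_mem' := fun i _ => by simp [D.same_refl]
      mul_mem' := fun {k l} hk hl i hi => by
        rw [← D.act_act]
        exact D.same_trans ht (D.act_inverted hi) hi (D.act_inverted (D.act_inverted hi))
          (D.same_symm (hl i hi)) (hk _ (D.act_inverted hi))
      inv_mem' := fun {k} hk i hi => by
        simpa [D.act_act] using D.same_symm (hk _ (D.act_inverted (k := k⁻¹) hi)) }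
  have hnormal : ∀ k ∈ M, ∀ l : K, l * k * l⁻¹ ∈ M := by
    intro k hk l i hi
    rw [← D.act_act, ← D.act_act]
    have := D.same_act l (hk _ (D.act_inverted (k := l⁻¹) hi))
    rwa [D.act_act l l⁻¹ i, mul_inv_cancel, D.act_one] at this
  have hXM : D.X ⊆ M := by
    intro x hx i hi
    by_cases hiX : i ∈ D.X
    · exact D.same_X hiX (D.act_mem_inv D.sylP_spec.2 hx.1 hiX)
    · exact D.mem_pairStab_of_mem_X ht hi hiX hx
  set R := Subgroup.closure D.X with hR
  have hRP : R ≤ D.sylP := (Subgroup.closure_le _).2 fun x hx => hx.1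
  have hMR : ∀ k ∈ M, ∀ r ∈ R, k * r * k⁻¹ ∈ R := by
    intro k hk
    have h1 : D.act k 1 ∈ D.X := by
      rcases hk 1 (by simp) with h | h
      · rw [← h]; exact D.one_mem_X
      · rw [inv_one, one_mul] at h
        exact D.mem_X_of_ord ht (D.act_inverted (by simp)) h
    obtain ⟨e1, e2⟩ := D.sq_root h1.2
    set s := oddRoot (D.act k 1)
    have hc : D.σ (s⁻¹ * k) = s⁻¹ * k := D.act_one_eq_one.1 (by rw [← D.act_act, e2])
    have hs : s ∈ R := Subgroup.subset_closure (D.root_mem_inv h1)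
    intro r hr
    have hcr : (s⁻¹ * k) * r * (s⁻¹ * k)⁻¹ ∈ R := by
      have hle : R ≤ R.comap (MulAut.conj (s⁻¹ * k)).toMonoidHom := by
        refine (Subgroup.closure_le _).2 fun x hx => ?_
        show MulAut.conj (s⁻¹ * k) x ∈ R
        by_cases hx1 : x = 1
        · rw [hx1, map_one]; exact R.one_mem
        refine Subgroup.subset_closure (D.mem_X_of_ord ht ?_ ?_)
        · simp only [MulAut.conj_apply, map_mul (f := D.σ.toMonoidHom)]
          rw [map_mul D.σ, map_mul D.σ, map_inv, hc, hx.2]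
          simp [mul_assoc]
        · rw [MulEquiv.orderOf_eq]
          haveI := Fact.mk D.hp
          exact orderOf_eq_prime (D.pow_X hx) hx1
      exact hle hr
    have := R.mul_mem (R.mul_mem hs hcr) (R.inv_mem hs)
    simpa [mul_assoc] using this
  have hRp : IsPGroup D.p R := D.sylP_spec.1.2.1.to_le hRP
  let F : K → Subgroup M := fun l => (R.comap (MulAut.conj l).toMonoidHom).subgroupOf M
  haveI hFn : ∀ l, (F l).Normal := fun l => ⟨fun x hx k => by
    simp only [F, Subgroup.mem_subgroupOf, Subgroup.mem_comap, MulEquiv.coe_toMonoidHom,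
      MulAut.conj_apply, Subgroup.coe_mul, Subgroup.coe_inv] at hx ⊢
    have := hMR _ (hnormal _ k.2 l) _ hx
    simpa [mul_assoc] using this⟩
  have hF : IsPGroup D.p (⨆ l, F l : Subgroup M) := by
    haveI := Fact.mk D.hp
    refine Sylow.iSup_of_normal _ fun l => ?_
    refine IsPGroup.comap_of_injective ?_ M.subtype M.subtype_injective
    exact hRp.comap_of_injective _ (MulAut.conj l).injective
  have hle : Subgroup.normalClosure D.X ≤ (⨆ l, F l : Subgroup M).map M.subtype := by
    rw [Subgroup.normalClosure, Subgroup.closure_le]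
    intro y hy
    obtain ⟨x, hx, hxy⟩ := Group.mem_conjugatesOfSet_iff.1 hy
    obtain ⟨l, rfl⟩ := isConj_iff.1 hxy
    refine ⟨⟨_, hnormal x (hXM hx) l⟩, Subgroup.mem_iSup_of_mem l⁻¹ ?_, rfl⟩
    simp only [F, Subgroup.mem_subgroupOf, Subgroup.mem_comap, MulEquiv.coe_toMonoidHom,
      MulAut.conj_apply]
    simpa [mul_assoc] using Subgroup.subset_closure hx
  have h0 := hrad _ Subgroup.normalClosure_normal ((hF.map M.subtype).to_le hle)
  obtain ⟨h, hh, ho⟩ := D.exists_ord_X
  exact D.ne_of_ord_p ho ((Subgroup.mem_bot).1 (h0 ▸ Subgroup.subset_normalClosure hh))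

end TwoPrime

end CfsgLib.RankThreeInv
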