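import Cfsg.Agent.RankThreeInv.OddInv

/-!
Cliques and cocliques on the inverted elements in the two-prime configuration.
-/

set_option autoImplicit false
set_option linter.unusedSectionVars false
set_option linter.style.haveILetI false

namespace CfsgLib.RankThreeInv

open CfsgLib.Recog

universe u

/-- The two-prime configuration. -/
structure TwoPrime (K : Type u) [Group K] extends OddInv K where
  p : ℕ
  q : ℕ
  hp : p.Prime
  hq : q.Prime
  hpq : p ≠ q
  ord : ∀ h, σ h = h⁻¹ → h ^ p = 1 ∨ h ^ q = 1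
  exP : ∃ h, σ h = h⁻¹ ∧ orderOf h = p
  exQ : ∃ h, σ h = h⁻¹ ∧ orderOf h = q
  transP : ∀ h h', σ h = h⁻¹ → σ h' = h'⁻¹ → orderOf h = p → orderOf h' = p →
    ∃ c, σ c = c ∧ (c * h * c⁻¹ = h' ∨ c * h * c⁻¹ = h'⁻¹)
  transQ : ∀ h h', σ h = h⁻¹ → σ h' = h'⁻¹ → orderOf h = q → orderOf h' = q →
    ∃ c, σ c = c ∧ (c * h * c⁻¹ = h' ∨ c * h * c⁻¹ = h'⁻¹)

namespace TwoPrime

variable {K : Type u} [Group K] [Finite K] (D : TwoPrime K)
include D

/-- Exchange of the two primes. -/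
def swap : TwoPrime K :=
  { D.toOddInv with
    p := D.q, q := D.p, hp := D.hq, hq := D.hp, hpq := D.hpq.symm
    ord := fun h hh => (D.ord h hh).symm
    exP := D.exQ, exQ := D.exP, transP := D.transQ, transQ := D.transP }

theorem sq_root {i : K} (hi : D.σ i = i⁻¹) :
    D.act (oddRoot i) 1 = i ∧ D.act (oddRoot i)⁻¹ i = 1 := by
  have h1 : D.act (oddRoot i) 1 = i := by
    rw [D.act_inv (D.root_inv hi), mul_one, D.root_sq]
  refine ⟨h1, ?_⟩
  nth_rw 2 [← h1]
  rw [D.act_act, inv_mul_cancel, D.act_one]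

theorem orderOf_rel_act (k i j : K) :
    orderOf ((D.act k i)⁻¹ * D.act k j) = orderOf (i⁻¹ * j) := by
  rw [D.act_rel, ← MulAut.conj_apply, MulEquiv.orderOf_eq]

theorem orderOf_rel_symm (i j : K) : orderOf (j⁻¹ * i) = orderOf (i⁻¹ * j) := by
  rw [← orderOf_inv, mul_inv_rev, inv_inv]

theorem orderOf_rel_inv {i j : K} : orderOf ((i⁻¹)⁻¹ * j⁻¹) = orderOf (i⁻¹ * j) := by
  rw [inv_inv, ← orderOf_inv, mul_inv_rev, inv_inv, ← D.orderOf_rel_symm i j]
  exact (MulEquiv.orderOf_eq (MulAut.conj i⁻¹) (j * i⁻¹)).symm.trans (by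
    rw [MulAut.conj_apply, inv_inv, mul_assoc, mul_assoc, inv_mul_cancel, mul_one,
      ← orderOf_inv, mul_inv_rev, inv_inv])

theorem ord_cases {h : K} (hh : D.σ h = h⁻¹) : h = 1 ∨ orderOf h = D.p ∨ orderOf h = D.q := by
  by_cases h1 : h = 1
  · exact Or.inl h1
  right
  haveI := Fact.mk D.hp
  haveI := Fact.mk D.hq
  rcases D.ord h hh with e | e
  · exact Or.inl (orderOf_eq_prime e h1)
  · exact Or.inr (orderOf_eq_prime e h1)

theorem rel_cases {i j : K} (hi : D.σ i = i⁻¹) (hj : D.σ j = j⁻¹) :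
    i = j ∨ orderOf (i⁻¹ * j) = D.p ∨ orderOf (i⁻¹ * j) = D.q := by
  obtain ⟨-, h1⟩ := D.sq_root hi
  have h2 := D.orderOf_rel_act (oddRoot i)⁻¹ i j
  rw [h1, inv_one, one_mul] at h2
  rw [← h2]
  rcases D.ord_cases (D.act_inverted (k := (oddRoot i)⁻¹) hj) with h | h
  · exact Or.inl (D.act_injective _ (h1.trans h.symm))
  · exact Or.inr h

theorem ne_of_ord_p {h : K} (hh : orderOf h = D.p) : h ≠ 1 := by
  rintro rfl; exact D.hp.one_lt.ne (orderOf_one (G := K) ▸ hh)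

theorem not_both {h : K} (h1 : h ^ D.p = 1) (h2 : h ^ D.q = 1) : h = 1 :=
  orderOf_eq_one_iff.1 (Nat.eq_one_of_dvd_coprimes ((Nat.coprime_primes D.hp D.hq).2 D.hpq)
    (orderOf_dvd_of_pow_eq_one h1) (orderOf_dvd_of_pow_eq_one h2))

theorem ord_of_isPGroup {r : ℕ} (hr : r.Prime) (hrq : r ≠ D.q) {W : Subgroup K} (hW : IsPGroup r W)
    {h : K} (hh : h ∈ D.inv W) : h ^ D.p = 1 := by
  rcases D.ord h hh.2 with e | e
  · exact e
  · obtain ⟨k, hk⟩ := hW ⟨h, hh.1⟩
    have hk' : h ^ r ^ k = 1 := congrArg Subtype.val hk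
    have : h = 1 := orderOf_eq_one_iff.1 (Nat.eq_one_of_dvd_coprimes
      (((Nat.coprime_primes hr D.hq).2 hrq).pow_left k)
      (orderOf_dvd_of_pow_eq_one hk') (orderOf_dvd_of_pow_eq_one e))
    rw [this, one_pow]

/-- A chosen stable Sylow subgroup for the first prime. -/
noncomputable def sylP : Subgroup K :=
  haveI := Fact.mk D.hp
  (D.exists_stable_syl (p := D.p) (W := ⊥) D.stable_top
    (fun k hk => by rw [Subgroup.mem_bot] at hk ⊢; rw [hk, map_one]) bot_le IsPGroup.of_bot).choose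

theorem sylP_spec : IsSyl D.p ⊤ D.sylP ∧ D.Stable D.sylP :=
  haveI := Fact.mk D.hp
  (D.exists_stable_syl (p := D.p) (W := ⊥) D.stable_top
    (fun k hk => by rw [Subgroup.mem_bot] at hk ⊢; rw [hk, map_one]) bot_le IsPGroup.of_bot).choose_spec.2

/-- The base clique. -/
def X : Set K := D.inv D.sylP

/-- Its size. -/
noncomputable def n : ℕ := Nat.card D.X

theorem one_mem_X : (1 : K) ∈ D.X := D.one_mem_inv _

theorem inv_X {x : K} (hx : x ∈ D.X) : D.σ x = x⁻¹ := hx.2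

theorem pow_X {x : K} (hx : x ∈ D.X) : x ^ D.p = 1 :=
  D.ord_of_isPGroup D.hp D.hpq D.sylP_spec.1.2.1 hx

theorem rel_X {x y : K} (hx : x ∈ D.X) (hy : y ∈ D.X) : orderOf (x⁻¹ * y) ≠ D.q := by
  intro h
  haveI := Fact.mk D.hp
  obtain ⟨k, hk⟩ := IsPGroup.iff_orderOf.1 D.sylP_spec.1.2.1
    ⟨x⁻¹ * y, D.sylP.mul_mem (D.sylP.inv_mem hx.1) hy.1⟩
  rw [← Subgroup.orderOf_coe] at hk
  exact D.hq.one_lt.ne' (Nat.eq_one_of_dvd_coprimes
    (((Nat.coprime_primes D.hp D.hq).2 D.hpq).pow_left k) (hk ▸ h ▸ dvd_rfl) dvd_rfl)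

theorem exists_fixed_conj_mem_X {h : K} (hh : D.σ h = h⁻¹) (ho : orderOf h = D.p) :
    ∃ c, D.σ c = c ∧ c⁻¹ * h * c ∈ D.X := by
  haveI := Fact.mk D.hp
  obtain ⟨P, hP, hS, hs⟩ := D.exists_syl_of_inverted (p := D.p) (r := 1) D.stable_top
    (i := h) ⟨trivial, hh⟩ (by rw [pow_one, ← ho, pow_orderOf_eq_one])
  obtain ⟨c, hc, hcP⟩ := D.syl_conj D.stable_top D.sylP_spec.1 D.sylP_spec.2 hS hs
  refine ⟨c, hc.2, (hcP h).1 hP, ?_⟩
  simp [map_mul, map_inv, show D.σ c = c from hc.2, hh, mul_assoc]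

theorem exists_ord_X : ∃ h ∈ D.X, orderOf h = D.p := by
  obtain ⟨h, hh, ho⟩ := D.exP
  obtain ⟨c, -, hcX⟩ := D.exists_fixed_conj_mem_X hh ho
  refine ⟨_, hcX, ?_⟩
  rw [← ho, show c⁻¹ * h * c = MulAut.conj c⁻¹ h by simp, MulEquiv.orderOf_eq]

theorem one_lt_n : 1 < D.n := by
  obtain ⟨h, hh, ho⟩ := D.exists_ord_X
  rw [n, Finite.one_lt_card_iff_nontrivial]
  exact ⟨⟨⟨h, hh⟩, ⟨1, D.one_mem_X⟩, fun e => D.ne_of_ord_p ho (congrArg Subtype.val e)⟩⟩

theorem n_eq_pow : ∃ a, D.n = D.p ^ a := by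
  haveI := Fact.mk D.hp
  exact ⟨_, (D.factorization_inv D.stable_top D.sylP_spec.1 D.sylP_spec.2).symm⟩

/-- The number of inverted elements of a stable subgroup, from stable Sylow subgroups. -/
theorem card_inv {H P Q : Subgroup K} (hH : D.Stable H) (hP : IsSyl D.p H P) (hPs : D.Stable P)
    (hQ : IsSyl D.q H Q) (hQs : D.Stable Q) :
    Nat.card (D.inv H) = Nat.card (D.inv P) * Nat.card (D.inv Q) := by
  haveI := Fact.mk D.hp
  haveI := Fact.mk D.hq
  rw [← D.factorization_inv hH hP hPs, ← D.factorization_inv hH hQ hQs]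
  haveI : Nonempty (D.inv H) := ⟨⟨1, D.one_mem_inv H⟩⟩
  have h0 : Nat.card (D.inv H) ≠ 0 := Nat.card_pos.ne'
  have hp0 := D.hp.pos
  have hq0 := D.hq.pos
  refine Nat.eq_of_factorization_eq h0 (by positivity) fun r => ?_
  rw [Nat.factorization_mul (by positivity) (by positivity), Nat.factorization_pow, Nat.factorization_pow,
    D.hp.factorization, D.hq.factorization]
  rcases eq_or_ne r D.p with rfl | hrp
  · simp [D.hpq.symm]
  rcases eq_or_ne r D.q with rfl | hrq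
  · simp [D.hpq]
  simp only [Finsupp.add_apply, Finsupp.smul_apply, Finsupp.single_apply, if_neg hrp.symm,
    if_neg hrq.symm, smul_zero, add_zero]
  by_cases hr : r.Prime
  · haveI := Fact.mk hr
    obtain ⟨R, -, hR, hRs⟩ := D.exists_stable_syl (p := r) (W := ⊥) hH
      (fun k hk => by rw [Subgroup.mem_bot] at hk ⊢; rw [hk, map_one]) bot_le IsPGroup.of_bot
    have h1 : Nat.card (D.inv R) = 1 := by
      refine Nat.card_eq_one_iff_unique.2 ⟨⟨fun a b => ?_⟩, ⟨⟨1, D.one_mem_inv R⟩⟩⟩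
      have key : ∀ a : D.inv R, (a : K) = 1 := fun a =>
        D.not_both (D.ord_of_isPGroup hr hrq hR.2.1 a.2)
          (D.swap.ord_of_isPGroup hr hrp hR.2.1 a.2)
      exact Subtype.ext ((key a).trans (key b).symm)
    have h2 := D.factorization_inv hH hR hRs
    rw [h1] at h2
    rcases Nat.pow_eq_one.1 h2 with e | e
    · exact absurd e hr.one_lt.ne'
    · exact e
  · exact Nat.factorization_eq_zero_of_not_prime _ hr

/-- The number of inverted elements in the second clique. -/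
noncomputable def m : ℕ := D.swap.n

theorem card_top : Nat.card (D.inv ⊤) = D.n * D.m :=
  D.card_inv D.stable_top D.sylP_spec.1 D.sylP_spec.2 D.swap.sylP_spec.1 D.swap.sylP_spec.2

theorem coprime_n_m : D.n.Coprime D.m := by
  obtain ⟨a, ha⟩ := D.n_eq_pow
  obtain ⟨b, hb⟩ := D.swap.n_eq_pow
  rw [ha, m, hb]
  exact ((Nat.coprime_primes D.hp D.hq).2 D.hpq).pow a b

/-- The translates of the second clique containing a given point. -/
def cov (v : K) : Set K := {k | ∃ y ∈ D.swap.X, D.act k y = v}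

theorem card_cov {v : K} (hv : D.σ v = v⁻¹) :
    Nat.card (D.cov v) = D.m * Nat.card D.fix := by
  rw [m, n, ← Nat.card_prod]
  have hy : ∀ y ∈ D.swap.X, D.σ y = y⁻¹ := fun y hy => hy.2
  refine (Nat.card_congr (Equiv.ofBijective
    (fun z : D.swap.X × D.fix => (⟨oddRoot v * z.2 * (oddRoot (z.1 : K))⁻¹, z.1, z.1.2, ?_⟩ : D.cov v))
    ⟨?_, ?_⟩)).symm
  · rw [← D.act_act, (D.sq_root (hy _ z.1.2)).2, ← D.act_act, D.act_one_eq_one.2 z.2.2,
      (D.sq_root hv).1]
  · rintro ⟨⟨y, hy'⟩, ⟨c, hc⟩⟩ ⟨⟨y', hy''⟩, ⟨c', hc'⟩⟩ h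
    have h' : oddRoot v * c * (oddRoot y)⁻¹ = oddRoot v * c' * (oddRoot y')⁻¹ := congrArg Subtype.val h
    have e : ∀ {c y : K}, c ∈ D.fix → y ∈ D.swap.X → D.act (oddRoot v * c * (oddRoot y)⁻¹) y = v := by
      intro c y hc hy'
      rw [← D.act_act, (D.sq_root (hy _ hy')).2, ← D.act_act, D.act_one_eq_one.2 hc, (D.sq_root hv).1]
    have h2 := (e hc hy').trans (e hc' hy'').symm
    rw [← h'] at h2
    obtain rfl := D.act_injective _ h2
    obtain rfl := mul_left_cancel (mul_right_cancel h')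
    rfl
  · rintro ⟨k, y, hy', rfl⟩
    refine ⟨⟨⟨y, hy'⟩, ⟨(oddRoot (D.act k y))⁻¹ * k * oddRoot y, ?_⟩⟩, Subtype.ext ?_⟩
    · rw [← D.act_one_eq_one, ← D.act_act, (D.sq_root (hy y hy')).1, ← D.act_act,
        (D.sq_root (D.act_inverted (hy y hy'))).2]
    · simp [mul_assoc]

theorem cov_disjoint {x x' k : K} (hx : x ∈ D.X) (hx' : x' ∈ D.X) (h : k ∈ D.cov x) (h' : k ∈ D.cov x') :
    x = x' := by
  obtain ⟨y, hy, rfl⟩ := h
  obtain ⟨y', hy', rfl⟩ := h'
  have h1 := D.rel_X hx hx'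
  rw [D.orderOf_rel_act] at h1
  have h2 : orderOf (y⁻¹ * y') ≠ D.p := D.swap.rel_X hy hy'
  rcases D.rel_cases hy.2 hy'.2 with e | e | e
  · rw [e]
  · exact absurd e h2
  · exact absurd e h1

theorem cov_cover (k : K) : ∃ x ∈ D.X, k ∈ D.cov x := by
  let f : (Σ x : D.X, D.cov x) → K := fun z => z.2
  have hf : Function.Injective f := by
    rintro ⟨⟨x, hx⟩, k, hk⟩ ⟨⟨x', hx'⟩, k', hk'⟩ (rfl : k = k')
    obtain rfl := D.cov_disjoint hx hx' hk hk'
    rfl
  have hc : Nat.card (Σ x : D.X, D.cov x) = Nat.card K := by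
    have e := D.card_decomp D.stable_top
    rw [Subgroup.card_top, D.card_top, top_inf_eq] at e
    haveI := Fintype.ofFinite D.X
    rw [Nat.card_sigma, Finset.sum_congr rfl fun x _ => D.card_cov x.2.2, Finset.sum_const,
      Finset.card_univ, smul_eq_mul, ← Nat.card_eq_fintype_card, e, ← mul_assoc]
    rfl
  obtain ⟨⟨x, k', hk'⟩, rfl⟩ := ((Nat.bijective_iff_injective_and_card f).2 ⟨hf, hc⟩).2 k
  exact ⟨x, x.2, hk'⟩

/-- The common count of translates through a related pair. -/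
def mu (v x : K) : Set K := D.cov v ∩ D.cov x

theorem card_mu_act (l v x : K) : Nat.card (D.mu (D.act l v) (D.act l x)) = Nat.card (D.mu v x) := by
  have : ∀ k v, k ∈ D.cov v ↔ l * k ∈ D.cov (D.act l v) := fun k v =>
    ⟨fun ⟨y, hy, h⟩ => ⟨y, hy, by rw [← D.act_act, h]⟩,
      fun ⟨y, hy, h⟩ => ⟨y, hy, D.act_injective l (by rw [D.act_act, h])⟩⟩
  exact (Nat.card_congr (Equiv.subtypeEquiv (Equiv.mulLeft l) fun k =>
    and_congr (this k v) (this k x))).symm

theorem card_mu_inv {v x : K} (hv : D.σ v = v⁻¹) (hx : D.σ x = x⁻¹) :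
    Nat.card (D.mu v⁻¹ x⁻¹) = Nat.card (D.mu v x) := by
  have : ∀ k v, D.σ v = v⁻¹ → k ∈ D.cov v → D.σ k ∈ D.cov v⁻¹ := by
    rintro k v hv ⟨y, hy, rfl⟩
    refine ⟨y⁻¹, D.inv_inv_mem hy, ?_⟩
    rw [← D.σ_act k y hy.2, hv]
  refine (Nat.card_congr (Equiv.subtypeEquiv D.σ.toEquiv fun k =>
    ⟨fun h => ⟨this k v hv h.1, this k x hx h.2⟩, fun h => ?_⟩)).symm
  have h1 := this (D.σ k) v⁻¹ (by rw [map_inv, hv]) h.1
  have h2 := this (D.σ k) x⁻¹ (by rw [map_inv, hx]) h.2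
  rw [inv_inv, D.invol] at h1 h2
  exact ⟨h1, h2⟩

theorem card_mu_eq {v x v' x' : K} (hv : D.σ v = v⁻¹) (hx : D.σ x = x⁻¹) (hv' : D.σ v' = v'⁻¹)
    (hx' : D.σ x' = x'⁻¹) (h : orderOf (v⁻¹ * x) = D.q) (h' : orderOf (v'⁻¹ * x') = D.q) :
    Nat.card (D.mu v x) = Nat.card (D.mu v' x') := by
  rw [← D.card_mu_act (oddRoot v)⁻¹ v x, ← D.card_mu_act (oddRoot v')⁻¹ v' x', (D.sq_root hv).2,
    (D.sq_root hv').2]
  rw [← D.orderOf_rel_act (oddRoot v)⁻¹ v x, (D.sq_root hv).2, inv_one, one_mul] at h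
  rw [← D.orderOf_rel_act (oddRoot v')⁻¹ v' x', (D.sq_root hv').2, inv_one, one_mul] at h'
  obtain ⟨c, hc, e | e⟩ := D.transQ _ _ (D.act_inverted hx) (D.act_inverted hx') h h'
  · rw [← D.card_mu_act c, D.act_fix hc, D.act_fix hc, e, mul_one, mul_inv_cancel]
  · rw [← D.card_mu_act c, D.act_fix hc, D.act_fix hc, e, mul_one, mul_inv_cancel]
    conv_lhs => rw [← inv_one]
    exact D.card_mu_inv (by simp) (D.act_inverted hx')

/-- The points of the base clique related by the second prime. -/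
def qnbr (v : K) : Set K := {x | x ∈ D.X ∧ orderOf (v⁻¹ * x) = D.q}

theorem cover_count {v : K} (hv : v ∈ D.inv ⊤) (hvX : v ∉ D.X) {g : K} (hg : D.σ g = g⁻¹)
    (hgo : orderOf g = D.q) :
    Nat.card (D.qnbr v) * Nat.card (D.mu 1 g) = D.m * Nat.card D.fix := by
  have hmu : ∀ x ∈ D.qnbr v, Nat.card (D.mu v x) = Nat.card (D.mu 1 g) := fun x hx =>
    D.card_mu_eq hv.2 hx.1.2 (by simp) hg hx.2 (by rw [inv_one, one_mul, hgo])
  haveI := Fintype.ofFinite (D.qnbr v)
  rw [← D.card_cov hv.2, Nat.card_eq_fintype_card, ← Finset.card_univ, ← smul_eq_mul,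
    ← Finset.sum_const]
  rw [← Finset.sum_congr rfl fun (x : D.qnbr v) _ => hmu x x.2, ← Nat.card_sigma]
  refine Nat.card_congr (Equiv.ofBijective (fun z => (⟨z.2, z.2.2.1⟩ : D.cov v)) ⟨?_, ?_⟩)
  · rintro ⟨⟨x, hx⟩, k, hk⟩ ⟨⟨x', hx'⟩, k', hk'⟩ h
    obtain rfl : k = k' := congrArg Subtype.val h
    obtain rfl := D.cov_disjoint hx.1 hx'.1 hk.2 hk'.2
    rfl
  · rintro ⟨k, hk⟩
    obtain ⟨x, hx, hkx⟩ := D.cov_cover k
    have hvx : orderOf (v⁻¹ * x) = D.q := by
      obtain ⟨y, hy, e⟩ := hk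
      obtain ⟨y', hy', e'⟩ := hkx
      rcases D.rel_cases hv.2 hx.2 with h | h | h
      · exact absurd (h ▸ hx) hvX
      · refine absurd ?_ (D.swap.rel_X hy hy')
        rw [← e, ← e', D.orderOf_rel_act] at h
        exact h
      · exact h
    exact ⟨⟨⟨x, hx, hvx⟩, k, hk, hkx⟩, rfl⟩

theorem mul_lt_top : D.n < Nat.card (D.inv ⊤) := by
  rw [D.card_top]
  exact lt_mul_of_one_lt_right (by have := D.one_lt_n; omega) D.swap.one_lt_n

/-- The number of points of the base clique related by the second prime to an outside point. -/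
noncomputable def T : ℕ :=
  D.m * Nat.card D.fix / Nat.card (D.mu 1 D.exQ.choose)

theorem card_qnbr {v : K} (hv : v ∈ D.inv ⊤) (hvX : v ∉ D.X) : Nat.card (D.qnbr v) = D.T := by
  have h := D.cover_count hv hvX D.exQ.choose_spec.1 D.exQ.choose_spec.2
  have hpos : 0 < Nat.card (D.mu 1 D.exQ.choose) := by
    rcases Nat.eq_zero_or_pos (Nat.card (D.mu 1 D.exQ.choose)) with e | e
    · rw [e, mul_zero] at h
      exact absurd h.symm (mul_pos (by have := D.swap.one_lt_n; unfold m; omega) Nat.card_pos).ne'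
    · exact e
  rw [T, ← h, Nat.mul_div_cancel _ hpos]

/-- The points related to a given one by the first prime. -/
def pnbr (v : K) : Set K := {x | x ∈ D.X ∧ orderOf (v⁻¹ * x) = D.p}

theorem card_pnbr {v : K} (hv : v ∈ D.inv ⊤) (hvX : v ∉ D.X) :
    Nat.card (D.pnbr v) + D.T = D.n := by
  rw [← D.card_qnbr hv hvX, n, Nat.card_coe_set_eq, Nat.card_coe_set_eq, Nat.card_coe_set_eq,
    ← Set.ncard_union_eq ?_ (Set.toFinite _) (Set.toFinite _)]
  · congr 1
    ext x
    refine ⟨fun h => h.elim (·.1) (·.1), fun hx => ?_⟩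
    rcases D.rel_cases hv.2 hx.2 with h | h | h
    · exact absurd (h ▸ hx) hvX
    · exact Or.inl ⟨hx, h⟩
    · exact Or.inr ⟨hx, h⟩
  · refine Set.disjoint_left.2 fun x h1 h2 => D.hpq ?_
    rw [← h1.2, ← h2.2]

/-- The inverted elements of order the first prime. -/
def ordP : Set K := {h | D.σ h = h⁻¹ ∧ orderOf h = D.p}

theorem card_swap_ordP : Nat.card D.swap.ordP = (D.m - 1) * D.T := by
  classical
  haveI := Fintype.ofFinite K
  set A : Finset K := Finset.univ.filter fun v => v ∈ D.inv ⊤ ∧ v ∉ D.X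
  set B : Finset K := Finset.univ.filter (· ∈ D.X)
  have hA : A.card = D.n * (D.m - 1) := by
    have h1 : Nat.card (D.inv ⊤) = A.card + B.card := by
      rw [Nat.card_coe_set_eq, Set.ncard_eq_toFinset_card']
      rw [← Finset.card_union_of_disjoint]
      · congr 1; ext v
        simp only [A, B, Set.mem_toFinset, Finset.mem_union, Finset.mem_filter, Finset.mem_univ, true_and]
        refine ⟨fun h => by tauto, fun h => h.elim (·.1) (fun h => ⟨trivial, h.2⟩)⟩
      · simp only [A, B, Finset.disjoint_filter]; tauto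
    have h2 : B.card = D.n := by
      rw [n, Nat.card_coe_set_eq, Set.ncard_eq_toFinset_card']
      congr 1; ext v; simp [B]
    rw [D.card_top, h2] at h1
    rw [Nat.mul_sub_one]; omega
  have hdc := Finset.sum_card_bipartiteAbove_eq_sum_card_bipartiteBelow
    (fun v x : K => orderOf (v⁻¹ * x) = D.q) (s := A) (t := B)
  have hl : ∀ v ∈ A, (Finset.bipartiteAbove (fun v x : K => orderOf (v⁻¹ * x) = D.q) B v).card = D.T := by
    intro v hv
    simp only [A, Finset.mem_filter, Finset.mem_univ, true_and] at hv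
    rw [← D.card_qnbr hv.1 hv.2, Nat.card_coe_set_eq, Set.ncard_eq_toFinset_card']
    congr 1; ext x
    rw [Set.mem_toFinset]
    simp [Finset.bipartiteAbove, B, qnbr]
  have hr : ∀ x ∈ B, (Finset.bipartiteBelow (fun v x : K => orderOf (v⁻¹ * x) = D.q) A x).card =
      Nat.card D.swap.ordP := by
    intro x hx
    simp only [B, Finset.mem_filter, Finset.mem_univ, true_and] at hx
    rw [← Nat.card_eq_finsetCard]
    have hroot := D.sq_root hx.2
    refine Nat.card_congr (Equiv.ofBijective (fun v => ⟨D.act (oddRoot x)⁻¹ v, ?_⟩) ⟨?_, ?_⟩)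
    · have hv := v.2
      simp only [Finset.bipartiteBelow, A, Finset.mem_filter, Finset.mem_univ, true_and] at hv
      refine ⟨D.act_inverted hv.1.1.2, ?_⟩
      have h3 := D.orderOf_rel_act (oddRoot x)⁻¹ x v
      rw [hroot.2, inv_one, one_mul, D.orderOf_rel_symm] at h3
      exact h3.trans hv.2
    · exact fun v w h => Subtype.ext (D.act_injective _ (congrArg Subtype.val h))
    · rintro ⟨g, hg, hgo⟩
      have hgo' : orderOf (x⁻¹ * D.act (oddRoot x) g) = D.q := by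
        nth_rw 1 [← hroot.1]
        rw [D.orderOf_rel_act, inv_one, one_mul]
        exact hgo
      refine ⟨⟨D.act (oddRoot x) g, ?_⟩, Subtype.ext ?_⟩
      · simp only [Finset.bipartiteBelow, A, Finset.mem_filter, Finset.mem_univ, true_and]
        exact ⟨⟨⟨trivial, D.act_inverted hg⟩, fun h => D.rel_X hx h hgo'⟩,
          (D.orderOf_rel_symm _ _).trans hgo'⟩
      · show D.act (oddRoot x)⁻¹ (D.act (oddRoot x) g) = g
        rw [D.act_act, inv_mul_cancel, D.act_one]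
  rw [Finset.sum_congr rfl hl, Finset.sum_congr rfl hr, Finset.sum_const, Finset.sum_const, hA,
    smul_eq_mul, smul_eq_mul] at hdc
  have hB : B.card = D.n := by
    rw [n, Nat.card_coe_set_eq, Set.ncard_eq_toFinset_card']
    congr 1; ext v; simp [B]
  rw [hB, mul_assoc] at hdc
  exact (Nat.eq_of_mul_eq_mul_left (by have := D.one_lt_n; omega) hdc).symm

/-- The dual constant. -/
noncomputable def t : ℕ := D.swap.T

theorem swap_swap : D.swap.swap = D := rfl

theorem card_ordP : Nat.card D.ordP = (D.n - 1) * D.t := by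
  have := D.swap.card_swap_ordP
  rwa [D.swap_swap, show D.swap.m = D.n from rfl] at this

theorem card_total : D.n * D.m = 1 + (D.n - 1) * D.t + (D.m - 1) * D.T := by
  rw [← D.card_top, ← D.card_ordP, ← D.card_swap_ordP, Nat.card_coe_set_eq, Nat.card_coe_set_eq,
    Nat.card_coe_set_eq]
  have e : D.inv ⊤ = insert 1 (D.ordP ∪ D.swap.ordP) := by
    ext h
    refine ⟨fun hh => ?_, ?_⟩
    · rcases D.ord_cases hh.2 with e | e | e
      · exact Or.inl e
      · exact Or.inr (Or.inl ⟨hh.2, e⟩)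
      · exact Or.inr (Or.inr ⟨hh.2, e⟩)
    · rintro (rfl | h | h)
      · exact D.one_mem_inv _
      · exact ⟨trivial, h.1⟩
      · exact ⟨trivial, h.1⟩
  rw [e, Set.ncard_insert_of_notMem ?_ (Set.toFinite _),
    Set.ncard_union_eq ?_ (Set.toFinite _) (Set.toFinite _)]
  · ring
  · exact Set.disjoint_left.2 fun h h1 h2 => D.hpq (h1.2.symm.trans h2.2)
  · rintro (h | h)
    · exact D.ne_of_ord_p h.2 rfl
    · exact D.swap.ne_of_ord_p h.2 rfl

end TwoPrime

end CfsgLib.RankThreeInv
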