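import Cfsg.Agent.RankThreeInv.NcSet

/-!
A minimal configuration: commuting is transitive and the commuting classes have `p` members.
-/

set_option autoImplicit false
set_option linter.unusedSectionVars false
set_option linter.style.haveILetI false

namespace CfsgLib.RankThreeInv

universe u

/-- A pair of commuting members moved apart from a third. -/
def Cfg {G : Type u} [Group G] (E : Set G) (x z w : G) : Prop :=
  x ∈ E ∧ z ∈ E ∧ w ∈ E ∧ Commute x z ∧ ¬ Commute w x ∧ ¬ Commute w z ∧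
    ¬ Commute (x * z * w * (x * z)⁻¹) w

/-- A minimal configuration. -/
structure Crit {G : Type u} [Group G] (p : ℕ) (E : Set G) : Prop where
  pure : Pure p E
  one_notMem : (1 : G) ∉ E
  conjC : ∀ a ∈ E, ∀ b ∈ E, ∃ g : G, g * a * g⁻¹ = b
  exists_cfg : ∃ x z w, Cfg E x z w
  gen : ∀ x z w, Cfg E x z w → ∀ H : Subgroup G, x ∈ H → z ∈ H → w ∈ H → H = ⊤
  quot : ∀ N : Subgroup G, N.Normal → N ≠ ⊥ → ∃ a ∈ E, ∃ b ∈ E, ¬ Commute a b ∧ a * b ∈ N

theorem commute_conj {G : Type u} [Group G] (g : G) {a b : G} (h : Commute a b) :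
    Commute (g * a * g⁻¹) (g * b * g⁻¹) := h.map (MulAut.conj g).toMonoidHom

namespace Crit

variable {G : Type u} [Group G] [Finite G] {p : ℕ} {E : Set G} (C : Crit p E)
include C

theorem conj_commute {d a b : G} (hd : d ∈ E) (h : Commute a b) : Commute (d * a * d) (d * b * d) := by
  rw [← C.pure.conj_self hd, ← C.pure.conj_self hd]; exact commute_conj d h

theorem conj_conj {d : G} (hd : d ∈ E) (a : G) : d * (d * a * d) * d = a := by
  simp only [mul_assoc, C.pure.cancel hd, C.pure.sq d hd, mul_one]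

theorem center_eq {x z w c : G} (h : Cfg E x z w) (hx : Commute c x) (hz : Commute c z) (hw : Commute c w) :
    c = 1 := by
  have hall : ∀ g : G, Commute g c := fun g => by
    have := C.gen x z w h (Subgroup.centralizer {c}) (Subgroup.mem_centralizer_singleton_iff.2 hx.symm.eq)
      (Subgroup.mem_centralizer_singleton_iff.2 hz.symm.eq) (Subgroup.mem_centralizer_singleton_iff.2 hw.symm.eq)
    exact Subgroup.mem_centralizer_singleton_iff.1 (this ▸ Subgroup.mem_top g)
  by_contra hc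
  have hN : (Subgroup.zpowers c).Normal := ⟨fun n hn g => by
    obtain ⟨i, rfl⟩ := Subgroup.mem_zpowers_iff.1 hn
    rw [((hall g).zpow_right i).eq, mul_inv_cancel_right]
    exact Subgroup.zpow_mem _ (Subgroup.mem_zpowers c) i⟩
  obtain ⟨a, ha, b, hb, hab, hN'⟩ := C.quot _ hN (by simpa using hc)
  obtain ⟨i, hi⟩ := Subgroup.mem_zpowers_iff.1 hN'
  refine hab ?_
  have h1 : Commute a (a * b) := hi ▸ (hall a).zpow_right i
  have h2 := (Commute.refl a).mul_right h1
  rwa [C.pure.cancel ha] at h2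

theorem cfg_special {x z w : G} (h : Cfg E x z w) : x * z ∈ E ∧ x ≠ z := by
  obtain ⟨hx, hz, hw, hc, hwx, hwz, hne⟩ := id h
  have P := C.pure
  have hxz : x ≠ z := by
    rintro rfl
    rw [P.sq x hx, one_mul, inv_one, mul_one] at hne
    exact hne (Commute.refl w)
  refine ⟨?_, hxz⟩
  obtain ⟨u, hu⟩ : ∃ u, u = x * z := ⟨_, rfl⟩
  rw [← hu] at hne ⊢
  have hu2 : u * u = 1 := by rw [hu, hc.symm.mul_mul_mul_comm, P.sq x hx, P.sq z hz, one_mul]
  have hui : u⁻¹ = u := inv_eq_of_mul_eq_one_right hu2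
  rw [hui] at hne
  have hw' : u * w * u ∈ E := by
    have := P.conj w hw u
    rwa [hui] at this
  obtain ⟨m, hm⟩ := P.odd
  set t := (u * w) ^ p with ht
  have ht2 : t * t = 1 := by
    rw [ht, ← (Commute.refl (u * w)).mul_pow, show u * w * (u * w) = u * w * u * w by simp only [mul_assoc]]
    exact P.ord _ hw' w hw hne
  have hinv : (u * w)⁻¹ = w * u := by rw [mul_inv_rev, hui, P.inv_eq hw]
  have hti : t⁻¹ = t := inv_eq_of_mul_eq_one_right ht2
  have htu : Commute u t := by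
    have : u * t * u⁻¹ = t⁻¹ := by
      rw [ht, ← conj_pow, ← inv_pow, hinv, hui, ← mul_assoc, hu2, one_mul]
    rw [hti] at this
    exact mul_inv_eq_iff_eq_mul.1 this
  have htw : Commute w t := by
    have : w * t * w⁻¹ = t⁻¹ := by
      rw [ht, ← conj_pow, ← inv_pow, hinv, P.inv_eq hw, mul_assoc, mul_assoc, P.sq w hw, mul_one]
    rw [hti] at this
    exact mul_inv_eq_iff_eq_mul.1 this
  have hg : t * u ∈ E := by
    have h1 : t * u = (u * w) ^ m * (u * w * u) * ((u * w) ^ m)⁻¹ := by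
      rw [← inv_pow, hinv, ht, hm, show 2 * m + 1 = m + 1 + m by ring, pow_add, pow_succ]
      have e : (u * w) ^ m * u = u * (w * u) ^ m :=
        (SemiconjBy.pow_right (show SemiconjBy u (w * u) (u * w) by
          show u * (w * u) = u * w * u
          rw [mul_assoc]) m).eq.symm
      simp only [mul_assoc] at e ⊢
      rw [e]
    rw [h1]; exact P.conj _ hw' _
  have hgu : Commute (t * u) u := (htu.symm).mul_left (Commute.refl u)
  have htx : Commute t x := by
    have h2 := (P.twin hx hz hg hxz hc (by rwa [hu] at hgu ⊢)).mul_left (show Commute u x from hu ▸ (Commute.refl x).mul_left hc.symm)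
    rwa [mul_assoc, hu2, mul_one] at h2
  have htz : Commute t z := by
    have h2 := (P.twin' hx hz hg hxz hc (by rwa [hu] at hgu ⊢)).mul_left (show Commute u z from hu ▸ hc.mul_left (Commute.refl z))
    rwa [mul_assoc, hu2, mul_one] at h2
  rwa [C.center_eq h htx htz htw.symm, one_mul] at hg

theorem ne_one {x : G} (hx : x ∈ E) : x ≠ 1 := fun e => C.one_notMem (e ▸ hx)

theorem exists_partner {x : G} (hx : x ∈ E) : ∃ z ∈ E, x ≠ z ∧ Commute x z ∧ x * z ∈ E := by
  obtain ⟨a, b, w, h⟩ := C.exists_cfg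
  obtain ⟨hs, hne⟩ := C.cfg_special h
  obtain ⟨g, rfl⟩ := C.conjC a h.1 x hx
  refine ⟨g * b * g⁻¹, C.pure.conj b h.2.1 g, fun e => hne (mul_left_cancel (mul_right_cancel e)),
    commute_conj g h.2.2.2.1, ?_⟩
  have := C.pure.conj _ hs g
  rwa [show g * a * g⁻¹ * (g * b * g⁻¹) = g * (a * b) * g⁻¹ by group]

theorem cfg_of_partner {x z w : G} (hx : x ∈ E) (hz : z ∈ E) (hc : Commute x z) (hu : x * z ∈ E)
    (hw : w ∈ E) (hwx : ¬ Commute w x) : Cfg E x z w := by
  have hwz : ¬ Commute w z := fun h => hwx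
    (C.pure.special hz hx hw hc.symm (by rwa [← hc.eq]) (C.ne_one hz) h)
  have hxz : x ≠ z := by
    rintro rfl
    exact C.one_notMem (by rwa [C.pure.sq x hx] at hu)
  refine ⟨hx, hz, hw, hc, hwx, hwz, ?_⟩
  have hwu : ¬ Commute (x * z) w := fun h => hwx (C.pure.twin hx hz hw hxz hc h.symm)
  rw [C.pure.inv_eq hu]
  exact fun h => C.pure.nc_conj hu hw hwu h.symm

theorem trans {a b c : G} (ha : a ∈ E) (hb : b ∈ E) (hc : c ∈ E) (hab : Commute a b) (hbc : Commute b c) :
    Commute a c := by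
  by_contra hac
  obtain ⟨a', ha', -, haa, hu⟩ := C.exists_partner ha
  have hcfg := C.cfg_of_partner ha ha' haa hu hc fun h => hac h.symm
  exact C.ne_one hb (C.center_eq hcfg hab.symm
    (C.pure.special ha ha' hb haa hu (C.ne_one ha) hab.symm) hbc)

theorem mul_mem {a b : G} (ha : a ∈ E) (hb : b ∈ E) (hab : Commute a b) (hne : a ≠ b) : a * b ∈ E := by
  by_contra hu
  let N : Subgroup G :=
    { carrier := {k | ∀ v ∈ E, Commute v (k * v * k⁻¹)}
      one_mem' := fun v _ => by simp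
      mul_mem' := fun {k l} hk hl v hv => by
        have h1 := commute_conj k (hl v hv)
        have h2 := C.trans hv (C.pure.conj v hv k) (C.pure.conj _ (C.pure.conj v hv l) k) (hk v hv) h1
        simpa [mul_assoc] using h2
      inv_mem' := fun {k} hk v hv => by
        have h1 := hk _ (C.pure.conj v hv k⁻¹)
        simpa [mul_assoc] using h1.symm }
  have hN : N.Normal := ⟨fun k hk g v hv => by
    have h1 := commute_conj g (hk _ (C.pure.conj v hv g⁻¹))
    simpa [mul_assoc] using h1⟩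
  have hmem : a * b ∈ N := by
    intro v hv
    by_cases hva : Commute v a
    · have h1 : Commute v (a * b) := hva.mul_right (C.trans hv ha hb hva hab)
      rw [← h1.eq, mul_inv_cancel_right]
    · have hvb : ¬ Commute v b := fun h => hva (C.trans hv hb ha h hab.symm)
      by_contra h
      exact hu (C.cfg_special ⟨ha, hb, hv, hab, hva, hvb, fun h' => h h'.symm⟩).1
  have hne' : N ≠ ⊥ := fun e => hne (by
    rw [e, Subgroup.mem_bot] at hmem
    rw [← C.pure.inv_eq hb]
    exact eq_inv_of_mul_eq_one_left hmem)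
  obtain ⟨c, hc, d, hd, hcd, hN'⟩ := C.quot N hN hne'
  refine C.pure.nc_conj hc hd hcd ?_
  have h1 := hN' d hd
  rwa [mul_inv_rev, C.pure.inv_eq hc, C.pure.inv_eq hd, show c * d * d * (d * c) = c * d * c by
    rw [mul_assoc c d d, C.pure.sq d hd, mul_one, mul_assoc]] at h1

/-- The commuting class of a member. -/
def Blk (_C : Crit p E) (x : G) : Set G := {d | d ∈ E ∧ Commute x d}

theorem card_Blk_eq {x y : G} (hx : x ∈ E) (hy : y ∈ E) : Nat.card (C.Blk x) = Nat.card (C.Blk y) := by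
  obtain ⟨g, rfl⟩ := C.conjC x hx y hy
  refine Nat.card_congr ((MulAut.conj g).toEquiv.subtypeEquiv fun d => ?_)
  show d ∈ C.Blk x ↔ g * d * g⁻¹ ∈ C.Blk (g * x * g⁻¹)
  refine ⟨fun h => ⟨C.pure.conj d h.1 g, commute_conj g h.2⟩, fun h => ?_⟩
  have h1 := C.pure.conj _ h.1 g⁻¹
  have h2 := commute_conj g⁻¹ h.2
  simp only [mul_assoc, inv_mul_cancel_left, inv_inv, inv_mul_cancel, mul_one] at h1 h2
  exact ⟨h1, h2⟩

theorem card_Blk_pow {x : G} (hx : x ∈ E) :
    (∃ r, Nat.card (C.Blk x) + 1 = 2 ^ r) ∧ 3 ≤ Nat.card (C.Blk x) := by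
  haveI : Fact (Nat.Prime 2) := ⟨Nat.prime_two⟩
  let S : Subgroup G :=
    { carrier := insert 1 (C.Blk x)
      one_mem' := Set.mem_insert _ _
      mul_mem' := fun {a b} ha hb => by
        rcases ha with rfl | ha
        · simpa using hb
        rcases hb with rfl | hb
        · simpa using Or.inr ha
        by_cases hab : a = b
        · subst hab; exact Or.inl (C.pure.sq a ha.1)
        · exact Or.inr ⟨C.mul_mem ha.1 hb.1 (C.trans ha.1 hx hb.1 ha.2.symm hb.2) hab, ha.2.mul_right hb.2⟩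
      inv_mem' := fun {a} ha => by
        rcases ha with rfl | ha
        · simp
        · rw [C.pure.inv_eq ha.1]; exact Or.inr ha }
  have hS : IsPGroup 2 S := fun g => ⟨1, Subtype.ext (by
    show (g : G) ^ (2 ^ 1) = 1
    rcases g.2 with h | h
    · rw [h, one_pow]
    · rw [pow_one, pow_two, C.pure.sq _ h.1])⟩
  refine ⟨?_, ?_⟩
  · obtain ⟨r, hr⟩ := hS.exists_card_eq
    refine ⟨r, ?_⟩
    rw [← hr, show Nat.card S = Nat.card ((insert 1 (C.Blk x) : Set G)) from rfl, Nat.card_coe_set_eq,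
      Nat.card_coe_set_eq, Set.ncard_insert_of_notMem (fun h => C.one_notMem h.1) (Set.toFinite _)]
  · obtain ⟨z, hz, hne, hc, hu⟩ := C.exists_partner hx
    rw [Nat.card_coe_set_eq]
    have h3 : ({x, z, x * z} : Set G).ncard = 3 := Set.ncard_eq_three.2
      ⟨x, z, x * z, hne, fun e => C.ne_one hz (mul_eq_left.1 e.symm),
        fun e => C.ne_one hx (mul_eq_right.1 e.symm), rfl⟩
    rw [← h3]
    refine Set.ncard_le_ncard ?_ (Set.toFinite _)
    rintro d (rfl | rfl | rfl)
    · exact ⟨hx, Commute.refl _⟩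
    · exact ⟨hz, hc⟩
    · exact ⟨hu, (Commute.refl x).mul_right hc⟩

/-- The members carrying the class of `x` to the class of `y`. -/
def J (_C : Crit p E) (x y : G) : Set G := {j | j ∈ E ∧ Commute (j * x * j) y}

theorem not_commute_J {x y j : G} (hxy : ¬ Commute x y) (hj : j ∈ C.J x y) : ¬ Commute j x := fun h => hxy (by
  have h1 := hj.2
  rwa [h.eq, mul_assoc, C.pure.sq j hj.1, mul_one] at h1)

theorem J_symm {x y : G} : C.J x y = C.J y x := by
  refine Set.ext fun j => ⟨fun h => ⟨h.1, ?_⟩, fun h => ⟨h.1, ?_⟩⟩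
  all_goals
    have h1 := C.conj_commute h.1 h.2
    rw [C.conj_conj h.1] at h1
    exact h1.symm

theorem J_mono {x y x' y' j : G} (hx : x ∈ E) (hy : y ∈ E) (hx' : x' ∈ E) (hy' : y' ∈ E)
    (h1 : Commute x' x) (h2 : Commute y y') (hj : j ∈ C.J x y) : j ∈ C.J x' y' :=
  ⟨hj.1, C.trans (C.pure.conj_mem hj.1 hx') hy hy'
    (C.trans (C.pure.conj_mem hj.1 hx') (C.pure.conj_mem hj.1 hx) hy (C.conj_commute hj.1 h1) hj.2) h2⟩

theorem J_nc {x y : G} (hx : x ∈ E) (hy : y ∈ E) (hxy : ¬ Commute x y) {a b : G} (ha : a ∈ C.J x y)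
    (hb : b ∈ C.J x y) (hne : a ≠ b) : ¬ Commute a b := by
  intro hab
  have he : a * b ∈ E := C.mul_mem ha.1 hb.1 hab hne
  have h1 : Commute (a * x * a) (b * x * b) :=
    C.trans (C.pure.conj_mem ha.1 hx) hy (C.pure.conj_mem hb.1 hx) ha.2 hb.2.symm
  have h2 := C.conj_commute ha.1 h1
  rw [C.conj_conj ha.1, show a * (b * x * b) * a = a * b * x * (a * b) from
    (show a * (b * x * b) * a = a * b * x * (b * a) by simp only [mul_assoc]).trans
      (congrArg (a * b * x * ·) hab.eq.symm)] at h2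
  have h3 : Commute (a * b) x := by
    by_contra h
    exact C.pure.nc_conj he hx h h2
  exact C.not_commute_J hxy ha
    (C.trans ha.1 he hx ((Commute.refl a).mul_right hab) h3)

theorem J_closed {x y : G} (hx : x ∈ E) (hy : y ∈ E) {a b : G} (ha : a ∈ C.J x y) (hb : b ∈ C.J x y) :
    a * b * a ∈ C.J x y := by
  refine ⟨C.pure.conj_mem ha.1 hb.1, ?_⟩
  have h1 := C.conj_commute hb.1 ha.2
  have h2 : Commute (b * y * b) x := ((C.J_symm (x := x) (y := y)) ▸ hb).2
  have m1 : b * (a * x * a) * b ∈ E := C.pure.conj_mem hb.1 (C.pure.conj_mem ha.1 hx)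
  have h3 := C.conj_commute ha.1 (C.trans m1 (C.pure.conj_mem hb.1 hy) hx h1 h2)
  have h4 := C.trans (C.pure.conj_mem ha.1 m1) (C.pure.conj_mem ha.1 hx) hy h3 ha.2
  simpa only [mul_assoc] using h4

theorem card_J {x y : G} (hx : x ∈ E) (hy : y ∈ E) (hxy : ¬ Commute x y) :
    Nat.card (C.J x y) = Nat.card (C.Blk y) := by
  refine Nat.card_congr (Equiv.ofBijective
    (fun j => (⟨(j : G) * x * j, C.pure.conj_mem j.2.1 hx, j.2.2.symm⟩ : C.Blk y)) ⟨?_, ?_⟩)
  · rintro ⟨a, ha⟩ ⟨b, hb⟩ h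
    have h' : a * x * a = b * x * b := congrArg Subtype.val h
    by_contra hne
    have hab := C.J_nc hx hy hxy ha hb fun e => hne (Subtype.ext e)
    refine C.not_commute_J hxy ha (C.pure.inv_rot hx ha.1 (h := a * b) ?_ (C.pure.conj_mul_left ha.1 hb.1) ?_).symm
    · have e : a * b * x * (a * b)⁻¹ = x := by
        rw [mul_inv_rev, C.pure.inv_eq ha.1, C.pure.inv_eq hb.1,
          show a * b * x * (b * a) = a * (b * x * b) * a by simp only [mul_assoc], ← h', C.conj_conj ha.1]
      exact (mul_inv_eq_iff_eq_mul.1 e).symm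
    · intro e
      have h2 : orderOf (a * b) ∣ 2 := orderOf_dvd_of_pow_eq_one (by rw [pow_two, e])
      rw [C.pure.orderOf_mul ha.1 hb.1 hab] at h2
      exact C.pure.not_dvd two_pos (by norm_num) h2
  · rintro ⟨b, hb, hyb⟩
    have hxb : ¬ Commute x b := fun h => hxy (C.trans hx hb hy h hyb.symm)
    obtain ⟨j, hj, hjx⟩ := C.pure.exists_swap hx hb hxb
    exact ⟨⟨j, hj, by rw [hjx]; exact hyb.symm⟩, Subtype.ext hjx⟩

theorem exists_nc {x : G} (hx : x ∈ E) : ∃ y ∈ E, ¬ Commute x y := by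
  obtain ⟨a, b, w, h⟩ := C.exists_cfg
  obtain ⟨g, rfl⟩ := C.conjC a h.1 x hx
  refine ⟨g * w * g⁻¹, C.pure.conj w h.2.2.1 g, fun h' => h.2.2.2.2.1 ?_⟩
  have := commute_conj g⁻¹ h'
  simp only [mul_assoc, inv_mul_cancel_left, inv_inv, inv_mul_cancel, mul_one] at this
  exact this.symm

theorem card_Blk {x : G} (hx : x ∈ E) : Nat.card (C.Blk x) = p := by
  obtain ⟨⟨r, hr⟩, h3⟩ := C.card_Blk_pow hx
  obtain ⟨y, hy, hxy⟩ := C.exists_nc hx
  have hne : (C.J x y).Nonempty := by
    obtain ⟨j, hj, hjx⟩ := C.pure.exists_swap hx hy hxy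
    exact ⟨j, hj, by rw [hjx]⟩
  obtain ⟨k, hk⟩ := C.pure.card_pow_of_nc (fun j hj => hj.1) hne
    (fun a ha b hb hab => C.J_nc hx hy hxy ha hb hab) fun a ha b hb => C.J_closed hx hy ha hb
  rw [C.card_J hx hy hxy, C.card_Blk_eq hy hx] at hk
  have hk0 : 0 < k := by
    rcases Nat.eq_zero_or_pos k with rfl | h
    · rw [pow_zero] at hk; omega
    · exact h
  rw [hk] at hr ⊢
  rw [mersenne_not_power C.pure.odd C.pure.prime.one_lt hk0 hr, pow_one]

theorem card_J' {x y : G} (hx : x ∈ E) (hy : y ∈ E) (hxy : ¬ Commute x y) : Nat.card (C.J x y) = p := by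
  rw [C.card_J hx hy hxy, C.card_Blk hy]

end Crit

end CfsgLib.RankThreeInv
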