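import Cfsg.Agent.RankThreeInv.Crit

/-!
A minimal configuration does not exist.
-/

set_option autoImplicit false
set_option linter.unusedSectionVars false
set_option linter.style.haveILetI false

namespace CfsgLib.RankThreeInv

universe u

namespace Crit

variable {G : Type u} [Group G] [Finite G] {p : ℕ} {E : Set G} (C : Crit p E)
include C

/-- The stabiliser of a commuting class. -/
def fixBlk (x : G) (hx : x ∈ E) : Subgroup G where
  carrier := {g | Commute (g * x * g⁻¹) x}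
  one_mem' := by simp
  mul_mem' {g l} hg hl := by
    show Commute (g * l * x * (g * l)⁻¹) x
    have h1 := C.trans (C.pure.conj _ (C.pure.conj x hx l) g) (C.pure.conj x hx g) hx (commute_conj g hl) hg
    simpa [mul_assoc] using h1
  inv_mem' {g} hg := by
    have h1 := commute_conj g⁻¹ hg
    show Commute (g⁻¹ * x * g⁻¹⁻¹) x
    simp only [mul_assoc, inv_mul_cancel_left, inv_inv, inv_mul_cancel, mul_one] at h1 ⊢
    exact h1.symm

theorem mem_fixBlk {x g : G} {hx : x ∈ E} : g ∈ C.fixBlk x hx ↔ Commute (g * x * g⁻¹) x := Iff.rfl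

/-- A `p`-element centralising a member and fixing another class is trivial. -/
theorem rigid {x y g : G} (hx : x ∈ E) (hy : y ∈ E) (hxy : ¬ Commute x y) (hgx : Commute g x)
    (hg : ∃ k, g ^ p ^ k = 1) (hgy : Commute (g * y * g⁻¹) y) : g = 1 := by
  have hp := C.pure.prime
  have e : g * x * g⁻¹ = x := by rw [hgx.eq, mul_inv_cancel_right]
  have h1 := fix_all hp (C.card_Blk hx) (fun d hd => ⟨C.pure.conj d hd.1 g, by
      have := commute_conj g hd.2; rwa [e] at this⟩) hg
    (show x ∈ C.Blk x from ⟨hx, Commute.refl x⟩) hgx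
  set y2 := x * y * x with hy2
  have hy2E : y2 ∈ E := C.pure.conj_mem hx hy
  have hyy : ¬ Commute y y2 := C.pure.nc_conj hx hy hxy
  have hxJ : x ∈ C.J y y2 := ⟨hx, Commute.refl _⟩
  have hgy2 : Commute (g * y2 * g⁻¹) y2 := by
    have e2 : g * y2 * g⁻¹ = x * (g * y * g⁻¹) * x := by
      have e3 : g * x = x * g := hgx.eq
      have e4 : x * g⁻¹ = g⁻¹ * x := (hgx.inv_left).symm.eq
      rw [hy2, show g * (x * y * x) * g⁻¹ = g * x * y * (x * g⁻¹) by simp only [mul_assoc], e3, e4]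
      simp only [mul_assoc]
    rw [e2, hy2]
    exact C.conj_commute hx hgy
  have hJ : ∀ j ∈ C.J y y2, g * j * g⁻¹ ∈ C.J y y2 := fun j hj => by
    refine C.J_mono (C.pure.conj y hy g) (C.pure.conj y2 hy2E g) hy hy2E hgy.symm hgy2
      ⟨C.pure.conj j hj.1 g, ?_⟩
    have h := commute_conj g hj.2
    simpa [mul_assoc] using h
  have h2 := fix_all hp (C.card_J' hy hy2E hyy) hJ hg hxJ hgx
  obtain ⟨j, hj, hjx⟩ : ∃ j ∈ C.J y y2, j ≠ x := by
    refine Set.exists_ne_of_one_lt_ncard ?_ x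
    rw [← Nat.card_coe_set_eq, C.card_J' hy hy2E hyy]
    exact hp.one_lt
  obtain ⟨z, hz, -, hxz, hu⟩ := C.exists_partner hx
  have hcfg := C.cfg_of_partner hx hz hxz hu hj.1 (C.J_nc hy hy2E hyy hj hxJ hjx)
  exact C.center_eq hcfg hgx (h1 z ⟨hz, hxz⟩) (h2 j hj)

theorem card_le_of_fix {x y : G} (hx : x ∈ E) (hy : y ∈ E) (hxy : ¬ Commute x y) {Q : Subgroup G}
    (hQ : IsPGroup p Q) (hle : Q ≤ C.fixBlk x hx ⊓ C.fixBlk y hy) : Nat.card Q ≤ p := by
  rw [← C.card_Blk hx]
  refine Nat.card_le_card_of_injective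
    (fun g => (⟨(g : G) * x * (g : G)⁻¹, C.pure.conj x hx g, (hle g.2).1.symm⟩ : C.Blk x)) ?_
  intro a b h
  have h' : (a : G) * x * (a : G)⁻¹ = b * x * (b : G)⁻¹ := congrArg Subtype.val h
  set c : G := (b : G)⁻¹ * a with hc
  have hcQ : c ∈ Q := Q.mul_mem (Q.inv_mem b.2) a.2
  have hcx : Commute c x := by
    refine mul_inv_eq_iff_eq_mul.1 ?_
    rw [hc, mul_inv_rev, inv_inv,
      show (b : G)⁻¹ * a * x * ((a : G)⁻¹ * b) = (b : G)⁻¹ * (a * x * (a : G)⁻¹) * b by simp only [mul_assoc], h']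
    simp [mul_assoc]
  obtain ⟨k, hk⟩ := hQ ⟨c, hcQ⟩
  have := C.rigid hx hy hxy hcx ⟨k, congrArg Subtype.val hk⟩ (hle hcQ).2
  exact Subtype.ext (inv_mul_eq_one.1 this).symm

theorem mul_fix {x y a b : G} (hx : x ∈ E) (hy : y ∈ E) (ha : a ∈ C.J x y) (hb : b ∈ C.J x y) :
    a * b ∈ C.fixBlk x hx ⊓ C.fixBlk y hy := by
  have key : ∀ {x y : G} (hx : x ∈ E), y ∈ E → a ∈ C.J x y → b ∈ C.J x y → a * b ∈ C.fixBlk x hx := by
    intro x y hx hy ha hb
    rw [C.mem_fixBlk, mul_inv_rev, C.pure.inv_eq ha.1, C.pure.inv_eq hb.1,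
      show a * b * x * (b * a) = a * (b * x * b) * a by simp only [mul_assoc]]
    exact C.trans (C.pure.conj_mem ha.1 (C.pure.conj_mem hb.1 hx)) (C.pure.conj_mem ha.1 hy) hx
      (C.conj_commute ha.1 hb.2) ((C.J_symm (x := x) (y := y)) ▸ ha).2
  exact ⟨key hx hy ha hb, key hy hx (C.J_symm ▸ ha) (C.J_symm ▸ hb)⟩

theorem J_refl {x y a b : G} (hx : x ∈ E) (hy : y ∈ E) (ha : a ∈ C.J x y) (hb : b ∈ C.J x y) :
    ∀ i : ℕ, (a * b) ^ i * a ∈ C.J x y
  | 0 => by simpa using ha
  | 1 => by simpa using C.J_closed hx hy ha hb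
  | i + 2 => by
    have h := C.J_closed hx hy ha (C.J_closed hx hy hb (J_refl hx hy ha hb i))
    have e : (a * b) ^ (i + 2) * a = a * (b * ((a * b) ^ i * a) * b) * a := by
      rw [pow_succ, pow_succ']; simp only [mul_assoc]
    rwa [e]

theorem J_inverts_rot {x y a b c : G} (hx : x ∈ E) (hy : y ∈ E) (hxy : ¬ Commute x y) (ha : a ∈ C.J x y)
    (hb : b ∈ C.J x y) (hne : a ≠ b) (hc : c ∈ C.J x y) : c * (a * b) * c⁻¹ = (a * b)⁻¹ := by
  have hab := C.J_nc hx hy hxy ha hb hne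
  have hord := C.pure.orderOf_mul ha.1 hb.1 hab
  let f : Fin p → C.J x y := fun i => ⟨(a * b) ^ (i : ℕ) * a, C.J_refl hx hy ha hb i⟩
  have hf : Function.Bijective f := by
    rw [Nat.bijective_iff_injective_and_card, Nat.card_eq_fintype_card, Fintype.card_fin,
      C.card_J' hx hy hxy]
    refine ⟨fun i j h => ?_, rfl⟩
    have h' := mul_right_cancel (congrArg Subtype.val h : (a * b) ^ (i : ℕ) * a = (a * b) ^ (j : ℕ) * a)
    exact Fin.ext (pow_injOn_Iio_orderOf (by rw [hord]; exact i.2) (by rw [hord]; exact j.2) h')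
  obtain ⟨i, hi⟩ := hf.2 ⟨c, hc⟩
  have hi' : (a * b) ^ (i : ℕ) * a = c := congrArg Subtype.val hi
  rw [← hi', mul_inv_rev, show (a * b) ^ (i : ℕ) * a * (a * b) * (a⁻¹ * ((a * b) ^ (i : ℕ))⁻¹) =
    (a * b) ^ (i : ℕ) * (a * (a * b) * a⁻¹) * ((a * b) ^ (i : ℕ))⁻¹ by simp only [mul_assoc],
    C.pure.conj_self ha.1, C.pure.conj_mul_left ha.1 hb.1]
  rw [((Commute.refl (a * b)).pow_left (i : ℕ)).inv_right.eq, mul_inv_cancel_right]

theorem inverts {x y a h : G} (hx : x ∈ E) (hy : y ∈ E) (hxy : ¬ Commute x y) (ha : a ∈ C.J x y)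
    (hh : orderOf h = p) (hfix : h ∈ C.fixBlk x hx ⊓ C.fixBlk y hy) : a * h * a = h⁻¹ := by
  classical
  haveI := Fact.mk C.pure.prime
  obtain ⟨b, hb, hba⟩ : ∃ b ∈ C.J x y, b ≠ a := by
    refine Set.exists_ne_of_one_lt_ncard ?_ a
    rw [← Nat.card_coe_set_eq, C.card_J' hx hy hxy]
    exact C.pure.prime.one_lt
  set S := C.fixBlk x hx ⊓ C.fixBlk y hy with hS
  set r := a * b with hr
  have hrS : r ∈ S := C.mul_fix hx hy ha hb
  have hro : orderOf r = p := C.pure.orderOf_mul ha.1 hb.1 (C.J_nc hx hy hxy ha hb (Ne.symm hba))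
  have syl : ∀ (g : G) (hg : g ∈ S), orderOf g = p →
      ∃ P : Sylow p S, (P : Subgroup S) = Subgroup.zpowers ⟨g, hg⟩ := by
    intro g hg hgo
    have hc : Nat.card (Subgroup.zpowers (⟨g, hg⟩ : S)) = p := by
      rw [Nat.card_zpowers, Subgroup.orderOf_mk, hgo]
    obtain ⟨P, hP⟩ := (IsPGroup.of_card (n := 1) (by rw [hc, pow_one]) :
      IsPGroup p (Subgroup.zpowers (⟨g, hg⟩ : S))).exists_le_sylow
    refine ⟨P, (Subgroup.eq_of_le_of_card_ge hP ?_).symm⟩
    rw [hc, ← Subgroup.card_map_of_injective S.subtype_injective]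
    exact C.card_le_of_fix hx hy hxy (P.2.map _) (Subgroup.map_subtype_le _)
  obtain ⟨P, hP⟩ := syl r hrS hro
  obtain ⟨Q, hQ⟩ := syl h hfix hh
  obtain ⟨g, hg⟩ := MulAction.exists_smul_eq S P Q
  have hmem : (⟨h, hfix⟩ : S) ∈ ((g • P : Sylow p S) : Subgroup S) := by
    rw [hg, hQ]; exact Subgroup.mem_zpowers _
  obtain ⟨w, hw, hwe⟩ := hmem
  obtain ⟨i, hi⟩ := Subgroup.mem_zpowers_iff.1 (hP ▸ hw : w ∈ Subgroup.zpowers (⟨r, hrS⟩ : S))
  have hwe' : (g : G) * r ^ i * (g : G)⁻¹ = h := by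
    have e := congrArg (S.subtype) hwe
    rw [← hi] at e
    simpa using e
  -- the conjugate of `a`
  have hgS : ((g : G)⁻¹) ∈ S := S.inv_mem g.2
  have hc : (g : G)⁻¹ * a * (g : G) ∈ C.J x y := by
    refine C.J_mono (C.pure.conj x hx (g : G)⁻¹) (C.pure.conj y hy (g : G)⁻¹) hx hy hgS.1.symm hgS.2 ⟨?_, ?_⟩
    · simpa using C.pure.conj a ha.1 (g : G)⁻¹
    · have := commute_conj (g : G)⁻¹ ha.2
      simpa [mul_assoc] using this
  have h2 := C.J_inverts_rot hx hy hxy ha hb (Ne.symm hba) hc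
  rw [← C.pure.conj_self ha.1, ← hwe']
  set c := (g : G)⁻¹ * a * g with hcdef
  have h3 : c * r ^ i * c⁻¹ = (r ^ i)⁻¹ := by rw [← conj_zpow, h2, inv_zpow]
  calc a * ((g : G) * r ^ i * (g : G)⁻¹) * a⁻¹ = g * (c * r ^ i * c⁻¹) * (g : G)⁻¹ := by
        rw [hcdef]; group
    _ = _ := by rw [h3]; group

/-- The relation of commuting on the members. -/
def setoid : Setoid {d // d ∈ E} where
  r a b := Commute (a : G) b
  iseqv := ⟨fun a => Commute.refl (a : G), fun h => h.symm, fun {a b c} h h' => C.trans a.2 b.2 c.2 h h'⟩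

/-- The commuting classes. -/
abbrev Block := Quotient C.setoid

theorem mk_eq {a b : {d // d ∈ E}} :
    (Quotient.mk C.setoid a : C.Block) = Quotient.mk C.setoid b ↔ Commute (a : G) b :=
  Quotient.eq (r := C.setoid)

theorem out_spec (M : C.Block) : (Quotient.mk C.setoid M.out : C.Block) = M := Quotient.out_eq M

/-- Conjugation on the classes. -/
def blockAct (g : G) : C.Block → C.Block :=
  Quotient.map (fun d : {d // d ∈ E} => (⟨g * d * g⁻¹, C.pure.conj d d.2 g⟩ : {d // d ∈ E}))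
    fun _ _ h => commute_conj g h

theorem card_points : Nat.card {d // d ∈ E} = Nat.card C.Block * p := by
  classical
  haveI := Fintype.ofFinite C.Block
  rw [Nat.card_congr (Equiv.sigmaFiberEquiv (fun d : {d // d ∈ E} => (Quotient.mk C.setoid d : C.Block))).symm,
    Nat.card_sigma, Nat.card_eq_fintype_card (α := C.Block), ← Finset.card_univ, ← smul_eq_mul,
    ← Finset.sum_const]
  refine Finset.sum_congr rfl fun M _ => ?_
  refine Eq.trans ?_ (C.card_Blk M.out.2)
  exact Nat.card_congr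
    { toFun := fun d => ⟨(d : {d // d ∈ E}), d.1.2, by
        have h : (Quotient.mk C.setoid M.out : C.Block) = Quotient.mk C.setoid d.1 :=
          (C.out_spec M).trans d.2.symm
        exact C.mk_eq.1 h⟩
      invFun := fun d => ⟨⟨d, d.2.1⟩, (C.mk_eq.2 d.2.2.symm).trans (C.out_spec M)⟩
      left_inv := fun _ => rfl
      right_inv := fun _ => rfl }

theorem one_lt_blocks : 1 < Nat.card C.Block := by
  obtain ⟨x, z, w, h⟩ := C.exists_cfg
  obtain ⟨y, hy, hxy⟩ := C.exists_nc h.1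
  exact Finite.one_lt_card_iff_nontrivial.2
    ⟨⟨Quotient.mk C.setoid ⟨x, h.1⟩, Quotient.mk C.setoid ⟨y, hy⟩, fun e => hxy (C.mk_eq.1 e)⟩⟩

theorem exists_free : ∃ a ∈ E, ∃ b ∈ E, ¬ Commute a b ∧
    ∀ d ∈ E, ¬ Commute (a * b * d * (a * b)⁻¹) d := by
  classical
  by_contra hcon
  push Not at hcon
  let Pt := {d // d ∈ E}
  let U := {q : Pt × Pt // ¬ Commute (q.1 : G) q.2}
  let T := Σ M : {M : C.Block × C.Block // M.1 ≠ M.2},
    {q : C.J M.1.1.out M.1.2.out × C.J M.1.1.out M.1.2.out // q.1 ≠ q.2}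
  have hf : ∀ u : U, ∃ t : T, (t.2.1.1 : G) = u.1.1 ∧ (t.2.1.2 : G) = u.1.2 := by
    rintro ⟨⟨⟨a, ha⟩, ⟨b, hb⟩⟩, hab⟩
    obtain ⟨d, hd, hfix⟩ := hcon a ha b hb hab
    have hd' : a * d * a ∈ E := C.pure.conj_mem ha hd
    have h1 : Commute (b * d * b) (a * d * a) := by
      have := C.conj_commute ha hfix
      rwa [mul_inv_rev, C.pure.inv_eq ha, C.pure.inv_eq hb,
        show a * (a * b * d * (b * a)) * a = a * (a * (b * d * b) * a) * a by simp only [mul_assoc],
        C.conj_conj ha] at this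
    have hnc : ¬ Commute d (a * d * a) := by
      intro h
      have hca : Commute a d := by
        by_contra h'
        exact C.pure.nc_conj ha hd h' h
      have hcb : Commute b d := by
        by_contra h'
        exact C.pure.nc_conj hb hd h' (C.trans hd hd' (C.pure.conj_mem hb hd) h h1.symm)
      exact hab (C.trans ha hd hb hca hcb.symm)
    let M1 : C.Block := Quotient.mk C.setoid ⟨d, hd⟩
    let M2 : C.Block := Quotient.mk C.setoid ⟨a * d * a, hd'⟩
    have hM : M1 ≠ M2 := fun e => hnc (C.mk_eq.1 e)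
    have e1 : Commute (M1.out : G) d := C.mk_eq.1 (C.out_spec M1)
    have e2 : Commute (a * d * a) (M2.out : G) := (C.mk_eq.1 (C.out_spec M2)).symm
    refine ⟨⟨⟨(M1, M2), hM⟩, ⟨(⟨a, C.J_mono hd hd' M1.out.2 M2.out.2 e1 e2 ⟨ha, Commute.refl _⟩⟩,
      ⟨b, C.J_mono hd hd' M1.out.2 M2.out.2 e1 e2 ⟨hb, h1⟩⟩), fun e => hab ?_⟩⟩, rfl, rfl⟩
    have : a = b := congrArg Subtype.val e
    show Commute a b
    rw [this]
  choose f hf1 hf2 using hf
  have hinj : Function.Injective f := fun u v h => Subtype.ext (Prod.ext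
    (Subtype.ext ((hf1 u).symm.trans (h ▸ hf1 v))) (Subtype.ext ((hf2 u).symm.trans (h ▸ hf2 v))))
  have hle := Nat.card_le_card_of_injective f hinj
  haveI : Fintype Pt := Fintype.ofFinite _
  haveI := Fintype.ofFinite {M : C.Block × C.Block // M.1 ≠ M.2}
  set F := Nat.card C.Block with hF
  have hne : ∀ {α : Type u} [Finite α], Nat.card {q : α × α // q.1 ≠ q.2} = Nat.card α * (Nat.card α - 1) := by
    intro α _
    haveI := Fintype.ofFinite α
    rw [Nat.card_congr (Equiv.subtypeProdEquivSigmaSubtype fun a b : α => a ≠ b), Nat.card_sigma,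
      Finset.sum_const_nat (m := Nat.card α - 1), Finset.card_univ, ← Nat.card_eq_fintype_card]
    intro a _
    rw [Nat.card_eq_fintype_card, Nat.card_eq_fintype_card, Fintype.card_subtype_compl,
      Fintype.card_subtype_eq']
  have hT : Nat.card T = F * (F - 1) * (p * (p - 1)) := by
    rw [Nat.card_sigma, Finset.sum_const_nat (m := p * (p - 1)), Finset.card_univ,
      ← Nat.card_eq_fintype_card, hne]
    intro M _
    have hnc : ¬ Commute (M.1.1.out : G) M.1.2.out := fun h =>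
      M.2 ((C.out_spec _).symm.trans ((C.mk_eq.2 h).trans (C.out_spec _)))
    rw [hne, C.card_J' M.1.1.out.2 M.1.2.out.2 hnc]
  have hU : Nat.card U = F * p * (F * p - p) := by
    rw [Nat.card_congr (Equiv.subtypeProdEquivSigmaSubtype fun a b : Pt => ¬ Commute (a : G) b),
      Nat.card_sigma, Finset.sum_const_nat (m := F * p - p), Finset.card_univ, ← Nat.card_eq_fintype_card,
      C.card_points]
    intro a _
    rw [Nat.card_eq_fintype_card, Fintype.card_subtype_compl, ← Nat.card_eq_fintype_card,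
      ← Nat.card_eq_fintype_card, C.card_points,
      show Nat.card {b : Pt // Commute (a : G) b} = Nat.card (C.Blk a) from Nat.card_congr
        { toFun := fun b => ⟨(b : Pt), b.1.2, b.2⟩
          invFun := fun b => ⟨⟨b, b.2.1⟩, b.2.2⟩
          left_inv := fun _ => rfl
          right_inv := fun _ => rfl }, C.card_Blk a.2]
  rw [hT, hU] at hle
  obtain ⟨F', hF'⟩ : ∃ F', F = F' + 2 := ⟨F - 2, by have := C.one_lt_blocks; omega⟩
  obtain ⟨q, hq⟩ : ∃ q, p = q + 1 := ⟨p - 1, by have := C.pure.prime.pos; omega⟩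
  rw [hF', hq, show F' + 2 - 1 = F' + 1 by omega, Nat.add_sub_cancel,
    show (F' + 2) * (q + 1) - (q + 1) = (F' + 1) * (q + 1) by
      rw [show (F' + 2) * (q + 1) = (F' + 1) * (q + 1) + (q + 1) by ring]; omega] at hle
  have h2 : (F' + 2) * (F' + 1) * ((q + 1) * q) < (F' + 2) * (F' + 1) * ((q + 1) * (q + 1)) := by
    gcongr; omega
  linarith [show (F' + 2) * (q + 1) * ((F' + 1) * (q + 1)) = (F' + 2) * (F' + 1) * ((q + 1) * (q + 1)) from by ring]

theorem card_fixed_modEq {h : G} (hh : h ^ p = 1) :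
    Nat.card C.Block ≡ Nat.card {M : C.Block // C.blockAct h M = M} [MOD p] := by
  classical
  haveI := Fact.mk C.pure.prime
  letI : MulAction G C.Block :=
    { smul := C.blockAct
      one_smul := fun M => Quotient.inductionOn M fun d => congrArg (Quotient.mk C.setoid)
        (Subtype.ext (by show (1 : G) * d * (1 : G)⁻¹ = d; simp))
      mul_smul := fun g l M => Quotient.inductionOn M fun d => congrArg (Quotient.mk C.setoid)
        (Subtype.ext (by show g * l * d * (g * l)⁻¹ = g * (l * d * l⁻¹) * g⁻¹; simp [mul_assoc])) }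
  have hP : IsPGroup p (Subgroup.zpowers h) := by
    obtain ⟨i, -, hi⟩ := (Nat.dvd_prime_pow C.pure.prime).1
      (orderOf_dvd_of_pow_eq_one (show h ^ p ^ 1 = 1 by rw [pow_one, hh]))
    exact IsPGroup.of_card (n := i) (by rw [Nat.card_zpowers, hi])
  refine (hP.card_modEq_card_fixedPoints C.Block).trans ?_
  rw [Nat.card_congr (Equiv.subtypeEquivRight (p := (· ∈ MulAction.fixedPoints (Subgroup.zpowers h) C.Block))
    (q := fun M => C.blockAct h M = M) fun M => ?_)]
  refine ⟨fun hM => hM ⟨h, Subgroup.mem_zpowers h⟩, fun hM c => ?_⟩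
  obtain ⟨j, hj⟩ := Subgroup.mem_zpowers_iff.1 c.2
  have : h ∈ MulAction.stabilizer G M := hM
  show (c : G) • M = M
  rw [← hj]
  exact Subgroup.zpow_mem _ this j

theorem false : False := by
  classical
  haveI := Fact.mk C.pure.prime
  have P := C.pure
  obtain ⟨x, z, w, hcfg⟩ := C.exists_cfg
  have hx := hcfg.1
  obtain ⟨y, hy, hxy⟩ := C.exists_nc hx
  obtain ⟨a, ha, hax⟩ := P.exists_swap hx hy hxy
  have haJ : a ∈ C.J x y := ⟨ha, by rw [hax]⟩
  obtain ⟨b, hb, hba⟩ : ∃ b ∈ C.J x y, b ≠ a := by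
    refine Set.exists_ne_of_one_lt_ncard ?_ a
    rw [← Nat.card_coe_set_eq, C.card_J' hx hy hxy]
    exact P.prime.one_lt
  have hab := C.J_nc hx hy hxy haJ hb (Ne.symm hba)
  set r := a * b with hr
  have hro : orderOf r = p := P.orderOf_mul ha hb.1 hab
  have hrp : r ^ p = 1 := P.ord a ha b hb.1 hab
  have hrr : r * r ≠ 1 := fun e => by
    have h2 : orderOf r ∣ 2 := orderOf_dvd_of_pow_eq_one (by rw [pow_two, e])
    rw [hro] at h2
    exact P.not_dvd two_pos (by norm_num) h2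
  have hrfix := C.mul_fix hx hy haJ hb
  -- the number of classes
  have hpF : p ∣ Nat.card C.Block := by
    obtain ⟨a', ha', b', hb', hab', hfree⟩ := C.exists_free
    have h := C.card_fixed_modEq (P.ord a' ha' b' hb' hab')
    haveI : IsEmpty {M : C.Block // C.blockAct (a' * b') M = M} := ⟨fun ⟨M, hM⟩ => by
      induction M using Quotient.inductionOn with
      | h d => exact hfree d d.2 (C.mk_eq.1 hM)⟩
    rw [Nat.card_of_isEmpty (α := {M : C.Block // C.blockAct (a' * b') M = M})] at h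
    exact Nat.modEq_zero_iff_dvd.1 h
  set Φ := {M : C.Block // C.blockAct r M = M}
  have hpΦ : p ∣ Nat.card Φ :=
    Nat.modEq_zero_iff_dvd.1 ((C.card_fixed_modEq hrp).symm.trans (Nat.modEq_zero_iff_dvd.2 hpF))
  let M0 : Φ := ⟨Quotient.mk C.setoid ⟨x, hx⟩, C.mk_eq.2 hrfix.1⟩
  let I : Set G := {d | d ∈ E ∧ d * r * d = r⁻¹}
  have haI : a ∈ I := ⟨ha, P.conj_mul_left ha hb.1⟩
  have hbI : b ∈ I := ⟨hb.1, P.conj_mul_right ha hb.1⟩
  have hnc : ∀ d ∈ I, ∀ e ∈ I, d ≠ e → ¬ Commute d e := by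
    intro d hd e he hne hde
    have hu : d * e ∈ E := C.mul_mem hd.1 he.1 hde hne
    have hur : Commute (d * e) r := by
      refine mul_inv_eq_iff_eq_mul.1 ?_
      rw [mul_inv_rev, P.inv_eq hd.1, P.inv_eq he.1,
        show d * e * r * (e * d) = d * (e * r * e) * d by simp only [mul_assoc], he.2]
      have h1 := congrArg (·⁻¹) hd.2
      simpa [P.inv_eq hd.1, mul_assoc] using h1
    exact hab (C.trans ha hu hb.1 (P.inv_rot hu ha hur haI.2 hrr).symm (P.inv_rot hu hb.1 hur hbI.2 hrr))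
  have hcl : ∀ d ∈ I, ∀ e ∈ I, d * e * d ∈ I := by
    intro d hd e he
    refine ⟨P.conj_mem hd.1 he.1, ?_⟩
    rw [show d * e * d * r * (d * e * d) = d * (e * (d * r * d) * e) * d by simp only [mul_assoc], hd.2]
    have h1 := congrArg (·⁻¹) he.2
    simp only [mul_inv_rev, inv_inv, P.inv_eq he.1] at h1
    rw [show e * r⁻¹ * e = r by rwa [mul_assoc]]
    exact hd.2
  have hne0 : ∀ d ∈ I, ¬ Commute x (d * x * d) := by
    intro d hd h
    have hdx : Commute d x := by
      by_contra h'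
      exact P.nc_conj hd.1 hx h' h
    have h1 : Commute (r * d * r⁻¹) d := by
      refine C.trans (P.conj _ hd.1 r) (P.conj _ hx r) hd.1 (commute_conj r hdx) ?_
      exact C.trans (P.conj _ hx r) hx hd.1 hrfix.1 hdx.symm
    have e : r * d * r⁻¹ = r * r * d := by
      have e1 : d * r⁻¹ = r * d := by
        rw [← hd.2, ← mul_assoc, ← mul_assoc, P.sq d hd.1, one_mul]
      rw [mul_assoc r d, e1, mul_assoc r r d]
    rw [e] at h1
    have h2 : Commute d (r ^ 2) := by
      have := h1.symm.mul_right (Commute.refl d)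
      rwa [mul_assoc (r * r) d d, P.sq d hd.1, mul_one, ← pow_two] at this
    have h3 := commute_of_pow_eq_one P.prime hrp (P.not_dvd two_pos (by norm_num)) h2
    refine hrr ?_
    have h4 := hd.2
    rw [h3.eq, mul_assoc, P.sq d hd.1, mul_one] at h4
    nth_rw 2 [h4]
    exact mul_inv_cancel r
  have hfixI : ∀ d ∈ I, Commute (r * (d * x * d) * r⁻¹) (d * x * d) := by
    intro d hd
    have h1 : Commute (r⁻¹ * x * r) x := by
      have := (C.fixBlk x hx).inv_mem hrfix.1
      rwa [C.mem_fixBlk, inv_inv] at this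
    have e1 : r * d = d * r⁻¹ := by
      rw [← hd.2, ← mul_assoc, ← mul_assoc, P.sq d hd.1, one_mul]
    have e2 : d * r⁻¹ = r * d := e1.symm
    have e3 : r * (d * x * d) * r⁻¹ = d * (r⁻¹ * x * r) * d := by
      rw [show r * (d * x * d) * r⁻¹ = r * d * x * (d * r⁻¹) by simp only [mul_assoc], e2]
      rw [show d * (r⁻¹ * x * r) * d = d * r⁻¹ * x * (r * d) by simp only [mul_assoc], e2]
    rw [e3]
    exact C.conj_commute hd.1 h1
  have hcard : Nat.card I = (Nat.card Φ - 1) * p := by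
    haveI := Fintype.ofFinite {M : Φ // M ≠ M0}
    let g : I → {M : Φ // M ≠ M0} := fun d =>
      ⟨⟨Quotient.mk C.setoid ⟨d * x * d, P.conj_mem d.2.1 hx⟩, C.mk_eq.2 (hfixI d d.2)⟩,
        fun e => hne0 d d.2 (C.mk_eq.1 (congrArg Subtype.val e)).symm⟩
    rw [Nat.card_congr (Equiv.sigmaFiberEquiv g).symm, Nat.card_sigma, Finset.sum_const_nat (m := p)]
    · haveI := Fintype.ofFinite Φ
      rw [Finset.card_univ, ← Nat.card_eq_fintype_card]
      congr 1
      rw [Nat.card_eq_fintype_card, Nat.card_eq_fintype_card, Fintype.card_subtype_compl,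
        Fintype.card_subtype_eq]
    intro M _
    set m := (M.1.1).out
    have hMx : ¬ Commute x m := fun h => M.2 (Subtype.ext ((C.out_spec _).symm.trans
      ((C.mk_eq (a := m) (b := ⟨x, hx⟩)).2 h.symm)))
    rw [← C.card_J' hx m.2 hMx]
    have hrm : Commute (r * (m : G) * r⁻¹) m := by
      have := M.1.2
      rw [← C.out_spec M.1.1] at this
      exact C.mk_eq.1 this
    exact Nat.card_congr
      { toFun := fun d => ⟨(d : I), d.1.2.1, C.mk_eq.1
          ((congrArg (fun M : {M : Φ // M ≠ M0} => M.1.1) d.2).trans (C.out_spec _).symm)⟩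
        invFun := fun j => ⟨⟨j, j.2.1, C.inverts hx m.2 hMx j.2 hro ⟨hrfix.1, hrm⟩⟩,
          Subtype.ext (Subtype.ext (((C.mk_eq (b := m)).2 j.2.2).trans (C.out_spec _)))⟩
        left_inv := fun _ => rfl
        right_inv := fun _ => rfl }
  obtain ⟨k, hk⟩ := P.card_pow_of_nc (fun d hd => hd.1) ⟨a, haI⟩ hnc hcl
  rw [hk] at hcard
  obtain ⟨c, hc⟩ := hpΦ
  rw [hc] at hcard
  rcases Nat.eq_zero_or_pos c with rfl | hc0
  · haveI : Nonempty Φ := ⟨M0⟩
    have : 0 < Nat.card Φ := Nat.card_pos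
    omega
  have h5 := P.five
  have hpc : 5 ≤ p * c := le_mul_of_le_of_one_le h5 hc0
  rcases k with _ | k
  · rw [pow_zero] at hcard
    have := mul_eq_one.1 hcard.symm
    omega
  rw [pow_succ] at hcard
  have h6 := Nat.eq_of_mul_eq_mul_right P.prime.pos hcard
  rcases k with _ | k
  · rw [pow_zero] at h6; omega
  have h7 : p ∣ p * c - 1 := h6 ▸ dvd_pow_self p (Nat.succ_ne_zero k)
  have h8 := Nat.dvd_sub (dvd_mul_right p c) h7
  rw [show p * c - (p * c - 1) = 1 by omega] at h8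
  exact P.prime.not_dvd_one h8

end Crit

end CfsgLib.RankThreeInv
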