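import Mathlib

/-!
The arithmetic behind the eigenvalue argument in the two-prime configuration.
-/

set_option autoImplicit false

namespace CfsgLib.RankThreeInv

/-- The two multiplicity identities, in integers. -/
theorem mult_identities {n m t T : ℤ} (h : n * m = 1 + (n - 1) * t + (m - 1) * T) :
    t * n * (m - 1) + T * m * (n - 1) = (t + T - 1) * (n * m - 1) ∧
    t * n * (m - 1) * (T - 1) - T * m * (n - 1) * t = -((n - 1) * t * (t + T - 1)) := by
  constructor
  · linear_combination h
  · linear_combination (-t) * h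

/-- The vanishing of the two extreme eigenvalues. -/
theorem eigen_zero {α β d u v : ℕ} {A1 A2 B1 B2 : ℤ} (hαβ : α.Coprime β) (hlt : β < α) (hd : 0 < d)
    (huv : u + v = d) (hn2 : 1 + α * d ≤ β * β) (hcop : (1 + α * d).Coprime (1 + β * d))
    (hA1 : 0 ≤ A1) (hA2 : 0 ≤ A2)
    (h1 : (1 + β * u : ℤ) * (1 + α * d) * (β * d) * A1 + (1 + α * v : ℤ) * (1 + β * d) * (α * d) * B1 =
      (1 + β * u + α * v : ℤ) * ((1 + α * d) * (1 + β * d)) * (α * d * (1 + β * u)))
    (h2 : (1 + β * u : ℤ) * (1 + α * d) * (β * d) * A2 + (1 + α * v : ℤ) * (1 + β * d) * (α * d) * B2 =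
      (1 + β * u + α * v : ℤ) * ((1 + α * d) * (1 + β * d)) * (β * d * (1 + α * v)))
    (h3 : ((1 + β * u : ℤ) * (1 + α * d) * (β * d)) ^ 2 * (A1 * A2) =
      ((1 + α * v : ℤ) * (1 + β * d) * (α * d)) ^ 2 * (B1 * B2)) :
    A1 = 0 ∧ B2 = 0 := by
  have hβ : 0 < β := by
    rcases Nat.eq_zero_or_pos β with h | h
    · subst h; omega
    · exact h
  have hα : 0 < α := by omega
  set n : ℤ := 1 + α * d with hn
  set m : ℤ := 1 + β * d with hm
  set t : ℤ := 1 + β * u with ht
  set T : ℤ := 1 + α * v with hT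
  set w : ℤ := 1 + β * u + α * v with hw
  set F : ℤ := t * n * (β * d) with hF
  set k : ℤ := α * d * t with hk
  set kb : ℤ := β * d * T with hkb
  have hn0 : 0 < n := by positivity
  have hm0 : 0 < m := by positivity
  have ht0 : 0 < t := by positivity
  have hT0 : 0 < T := by positivity
  have hw0 : 0 < w := by positivity
  have hd0 : (0 : ℤ) < d := by exact_mod_cast hd
  have hb0 : (0 : ℤ) < β := by exact_mod_cast hβ
  have ha0 : (0 : ℤ) < α := by exact_mod_cast hα
  -- the symmetric identity
  have h4 : w * (n * m) * k * kb = F * (k * A2 + kb * A1) := by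
    refine mul_left_cancel₀ (show w * (n * m) ≠ 0 by positivity) ?_
    linear_combination (-1 : ℤ) * h3 +
      (-((T * m * (α * d)) * B2)) * h1 + (-(w * (n * m) * k - F * A1)) * h2
  have h5 : m * α * T * w = α * t * A2 + β * T * A1 := by
    refine mul_left_cancel₀ (show t * n * (β * d) * d ≠ 0 by positivity) ?_
    rw [hF, hk, hkb] at h4
    linear_combination h4
  have h6 : m * (α * α) * B2 = n * (β * β) * A1 := by
    refine mul_left_cancel₀ (show T * d ≠ 0 by positivity) ?_
    linear_combination (α : ℤ) * h2 + (n * β * d) * h5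
  have hdvd : m * (α * α : ℤ) ∣ A1 := by
    have hc : Nat.Coprime ((1 + β * d) * (α * α)) ((1 + α * d) * (β * β)) := by
      have e1 : (1 + β * d).Coprime β := by simp
      have e2 : α.Coprime (1 + α * d) := by simp
      refine Nat.Coprime.mul_left (Nat.Coprime.mul_right hcop.symm (e1.mul_right e1)) ?_
      exact Nat.Coprime.mul_right (e2.mul_left e2) ((hαβ.mul_right hαβ).mul_left (hαβ.mul_right hαβ))
    have hc' : IsCoprime (m * (α * α : ℤ)) (n * (β * β : ℤ)) := by
      have := Nat.isCoprime_iff_coprime.2 hc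
      simpa [hm, hn] using this
    exact hc'.dvd_of_dvd_mul_left ⟨B2, h6.symm⟩
  obtain ⟨j, rfl⟩ := hdvd
  have hj : 0 ≤ j := nonneg_of_mul_nonneg_right hA1 (by positivity)
  rcases eq_or_lt_of_le hj with rfl | hj
  · refine ⟨by ring, ?_⟩
    simp only [mul_zero] at h6
    exact (mul_eq_zero.1 h6).resolve_left (by positivity)
  · exfalso
    have h7 : (β : ℤ) * α ≤ w := by
      have h8 : m * α * T * (β * α) ≤ m * α * T * w := by
        have e : β * T * (m * (α * α) * 1) ≤ β * T * (m * (α * α) * j) := by gcongr; omega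
        have e2 : 0 ≤ (α : ℤ) * t * A2 := by positivity
        nlinarith
      exact le_of_mul_le_mul_left h8 (by positivity)
    have h9 : w ≤ n := by
      have : (β : ℤ) * u ≤ α * u := by gcongr
      have e : (u : ℤ) + v = d := by exact_mod_cast huv
      rw [hw, hn, ← e]; linarith [show (α : ℤ) * (u + v) = α * u + α * v by ring]
    have h10 : n ≤ (β : ℤ) * β := by rw [hn]; exact_mod_cast hn2
    have h11 : (β : ℤ) * β < β * α := by
      have : (β : ℤ) < α := by exact_mod_cast hlt
      gcongr
    linarith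

end CfsgLib.RankThreeInv
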