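import Cfsg.Agent.RankThreeInv.Skew
import Cfsg.Agent.RankThreeInv.EigenArith

/-!
The eigenvalue conditions in the two-prime configuration.
-/

set_option autoImplicit false
set_option linter.unusedSectionVars false
set_option linter.style.haveILetI false

namespace CfsgLib.RankThreeInv

open CfsgLib.Recog Matrix

universe u

/-- A skew matrix has a non-positive square on a positive symmetric eigenvector. -/
theorem eig_nonpos {ι : Type*} [Fintype ι] {M E : Matrix ι ι ℤ} {c x : ℤ} (hM : Mᵀ = -M) (hE : Eᵀ = E)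
    (hEE : E * E = c • E) (hc : 0 < c) {i : ι} (hi : 0 < E i i) (h : M * M * E = x • E) : x ≤ 0 := by
  have h1 : (M * E)ᵀ * (M * E) = -(x * c) • E := by
    rw [transpose_mul, hM, hE, Matrix.mul_assoc, Matrix.neg_mul, Matrix.mul_neg, ← Matrix.mul_assoc M,
      h, Matrix.mul_smul, hEE, smul_smul, neg_smul]
  have h2 : 0 ≤ ((M * E)ᵀ * (M * E)) i i := by
    rw [mul_apply]
    exact Finset.sum_nonneg fun j _ => by rw [transpose_apply]; exact mul_self_nonneg _
  rw [h1, Matrix.smul_apply, smul_eq_mul] at h2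
  by_contra hx
  push Not at hx
  have : 0 < x * c * E i i := mul_pos (mul_pos hx hc) hi
  linarith

namespace TwoPrime

section

variable {K : Type u} [Group K] [Finite K] {D : TwoPrime K}

theorem Par.one_mul' {M N : Matrix D.Pt D.Pt ℤ} (hM : D.Par 1 M) (hN : D.Par 1 N) : D.Par 1 (M * N) := by
  simpa using hM.mul hN

theorem Par.neg_mul' {M N : Matrix D.Pt D.Pt ℤ} (hM : D.Par (-1) M) (hN : D.Par (-1) N) :
    D.Par 1 (M * N) := by
  simpa using hM.mul hN

theorem Par.add {ε : ℤ} {M N : Matrix D.Pt D.Pt ℤ} (hM : D.Par ε M) (hN : D.Par ε N) :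
    D.Par ε (M + N) := by
  refine ⟨fun k => ?_, ?_⟩
  · rw [submatrix_add]; simp only [Pi.add_apply, hM.1, hN.1]
  · rw [submatrix_add]; simp only [Pi.add_apply, hM.2, hN.2, smul_add]

theorem Par.smul {ε : ℤ} {M : Matrix D.Pt D.Pt ℤ} (hM : D.Par ε M) (x : ℤ) : D.Par ε (x • M) := by
  refine ⟨fun k => ?_, ?_⟩
  · rw [submatrix_smul]; simp only [Pi.smul_apply, hM.1]
  · rw [submatrix_smul]; simp only [Pi.smul_apply, hM.2, smul_comm x ε]

theorem Par.sub {ε : ℤ} {M N : Matrix D.Pt D.Pt ℤ} (hM : D.Par ε M) (hN : D.Par ε N) :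
    D.Par ε (M - N) := by
  have := hM.add (hN.smul (-1))
  rwa [neg_one_smul, ← sub_eq_add_neg] at this

theorem Par.symm {M : Matrix D.Pt D.Pt ℤ} (hM : D.Par 1 M) : Mᵀ = M := by
  rw [hM.transpose, one_smul]

theorem Par.skew {M : Matrix D.Pt D.Pt ℤ} (hM : D.Par (-1) M) : Mᵀ = -M := by
  rw [hM.transpose, neg_one_smul]

/-- An even matrix in the basis `1, A, J`. -/
theorem Par.span' {M : Matrix D.Pt D.Pt ℤ} (hM : D.Par 1 M) :
    ∃ x y c : ℤ, M = x • (1 : Matrix D.Pt D.Pt ℤ) + y • D.adj D.p + c • D.allOne ∧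
      x + c = M D.base D.base := by
  obtain ⟨a, b, c, h, ha⟩ := hM.span
  refine ⟨a - c, b - c, c, ?_, by rw [← ha]; ring⟩
  rw [h, D.allOne_eq]
  module

end

variable {K : Type u} [Group K] [Finite K] (D : TwoPrime K)
include D

theorem allOne_row {M : Matrix D.Pt D.Pt ℤ} {x y c : ℤ}
    (h : M = x • (1 : Matrix D.Pt D.Pt ℤ) + y • D.adj D.p + c • D.allOne) :
    M * D.allOne = (x + y * (Nat.card D.ordP) + c * ((D.n * D.m : ℕ) : ℤ)) • D.allOne := by
  rw [h, Matrix.add_mul, Matrix.add_mul, Matrix.smul_mul, Matrix.smul_mul, Matrix.smul_mul,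
    Matrix.one_mul, D.adj_mul_allOne, D.allOne_sq, smul_smul, smul_smul]
  change _ = _
  rw [show Nat.card {h : K // D.σ h = h⁻¹ ∧ orderOf h = D.p} = Nat.card D.ordP from rfl]
  module

theorem allOne_apply (i j : D.Pt) : D.allOne i j = 1 := rfl

theorem card_ordP_int : (Nat.card D.ordP : ℤ) = ((D.n : ℤ) - 1) * D.t := by
  rw [D.card_ordP, Nat.cast_mul, Nat.cast_sub (by have := D.one_lt_n; omega), Nat.cast_one]

theorem card_total_int : (D.n : ℤ) * D.m = 1 + ((D.n : ℤ) - 1) * D.t + ((D.m : ℤ) - 1) * D.T := by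
  have h := congrArg (Nat.cast : ℕ → ℤ) D.card_total
  have h1 : 1 ≤ D.n := by have := D.one_lt_n; omega
  have h2 : 1 ≤ D.m := by have := D.swap.one_lt_n; unfold m; omega
  push_cast [Nat.cast_sub h1, Nat.cast_sub h2] at h
  exact h

theorem T_pos : 0 < D.T := by
  obtain ⟨v, hv, hvX⟩ : ∃ v ∈ D.inv ⊤, v ∉ D.X := by
    by_contra h
    push Not at h
    exact D.mul_lt_top.not_ge (Nat.card_mono (Set.toFinite _) h)
  have h := D.cover_count hv hvX D.exQ.choose_spec.1 D.exQ.choose_spec.2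
  rw [D.card_qnbr hv hvX] at h
  refine Nat.pos_of_ne_zero fun e => ?_
  rw [e, zero_mul] at h
  exact absurd h.symm (mul_pos (by have := D.swap.one_lt_n; unfold m; omega) Nat.card_pos).ne'

theorem t_pos : 0 < D.t := D.swap.T_pos

/-- The indicator of a set of points. -/
noncomputable def ind (S : Set K) : D.Pt → ℤ := fun x =>
  haveI := Classical.dec ((x : K) ∈ S)
  if (x : K) ∈ S then 1 else 0

theorem adj_ind_X (v : D.Pt) :
    (D.adj D.p *ᵥ D.ind D.X) v = ((D.T : ℤ) - 1) * D.ind D.X v + ((D.n : ℤ) - D.T) := by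
  classical
  have h : (D.adj D.p *ᵥ D.ind D.X) v = (Nat.card (D.pnbr v) : ℤ) := D.adj_sum_X v
  rw [h]
  by_cases hv : (v : K) ∈ D.X
  · have e : D.pnbr v = D.X \ {(v : K)} := by
      ext x
      refine ⟨fun hx => ⟨hx.1, fun e => ?_⟩, fun hx => ⟨hx.1, ?_⟩⟩
      · rw [Set.mem_singleton_iff] at e
        have := hx.2
        rw [e, inv_mul_cancel, orderOf_one] at this
        exact D.hp.one_lt.ne this
      · rcases D.rel_cases v.2.2 hx.1.2 with e | e | e
        · exact absurd e.symm hx.2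
        · exact e
        · exact absurd e (D.rel_X hv hx.1)
    rw [e, Nat.card_coe_set_eq, Set.ncard_sdiff (by simpa using hv) (Set.toFinite _),
      Set.ncard_singleton, ← Nat.card_coe_set_eq, show Nat.card D.X = D.n from rfl,
      Nat.cast_sub (by have := D.one_lt_n; omega), ind, if_pos hv]
    simp only [Nat.cast_one]; ring
  · have e := D.card_pnbr v.2 hv
    rw [ind, if_neg hv, ← e]
    push_cast; ring

theorem adj_ind_Y (v : D.Pt) :
    (D.adj D.p *ᵥ D.ind D.swap.X) v = (-(D.t : ℤ)) * D.ind D.swap.X v + D.t := by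
  classical
  have h : (D.adj D.p *ᵥ D.ind D.swap.X) v = (Nat.card (D.swap.qnbr v) : ℤ) := D.adj_sum_Y v
  rw [h]
  by_cases hv : (v : K) ∈ D.swap.X
  · have e : D.swap.qnbr v = ∅ := by
      ext x
      simp only [Set.mem_empty_iff_false, iff_false]
      exact fun hx => D.swap.rel_X hv hx.1 hx.2
    rw [e, ind, if_pos hv]
    simp
  · rw [D.swap.card_qnbr v.2 hv, ind, if_neg hv, t]
    ring

theorem exists_mem_notMem (S : Set K) (hS : S = D.X ∨ S = D.swap.X) :
    ∃ x z : D.Pt, (x : K) ∈ S ∧ (z : K) ∉ S := by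
  have key : ∀ D : TwoPrime K, ∃ x z : D.Pt, (x : K) ∈ D.X ∧ (z : K) ∉ D.X := fun D => by
    obtain ⟨v, hv, hvX⟩ : ∃ v ∈ D.inv ⊤, v ∉ D.X := by
      by_contra h
      push Not at h
      exact D.mul_lt_top.not_ge (Nat.card_mono (Set.toFinite _) h)
    exact ⟨D.base, ⟨v, hv⟩, D.one_mem_X, hvX⟩
  rcases hS with rfl | rfl
  · exact key D
  · exact key D.swap

/-- The quadratic identity of the relation of the first prime. -/
theorem adj_sq : ∃ c : ℤ, D.adj D.p * D.adj D.p =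
    (((D.T : ℤ) - 1) * D.t) • (1 : Matrix D.Pt D.Pt ℤ) + (((D.T : ℤ) - 1) - D.t) • D.adj D.p +
      c • D.allOne ∧
    c * ((D.n * D.m : ℕ) : ℤ) =
      ((Nat.card D.ordP : ℤ) - ((D.T : ℤ) - 1)) * ((Nat.card D.ordP : ℤ) + D.t) := by
  obtain ⟨x, y, c, h, -⟩ := ((D.adj_par D.p).one_mul' (D.adj_par D.p)).span'
  have hrow : ∀ i, ∑ j, D.adj D.p i j = (Nat.card D.ordP : ℤ) := D.adj_row D.p
  have key : ∀ (S : Set K) (ρ e : ℤ), (∀ v, (D.adj D.p *ᵥ D.ind S) v = ρ * D.ind S v + e) →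
      (S = D.X ∨ S = D.swap.X) → ρ * ρ = x + y * ρ := by
    intro S ρ e hA hS
    classical
    have h2 : ∀ v, ((D.adj D.p * D.adj D.p) *ᵥ D.ind S) v =
        ρ * (ρ * D.ind S v + e) + e * Nat.card D.ordP := fun v => by
      rw [← mulVec_mulVec, mulVec, dotProduct]
      simp only [hA, mul_add, Finset.sum_add_distrib]
      rw [← Finset.sum_mul, hrow, mul_comm e]
      congr 1
      have := hA v
      rw [mulVec, dotProduct] at this
      rw [← mul_add, ← this, Finset.mul_sum]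
      exact Finset.sum_congr rfl fun j _ => by ring
    have h3 : ∀ v, ((D.adj D.p * D.adj D.p) *ᵥ D.ind S) v =
        x * D.ind S v + y * (ρ * D.ind S v + e) + c * (∑ j, D.ind S j) := fun v => by
      rw [h, add_mulVec, add_mulVec, smul_mulVec, smul_mulVec, smul_mulVec,
        Pi.add_apply, Pi.add_apply, Pi.smul_apply, Pi.smul_apply, Pi.smul_apply, one_mulVec, hA]
      simp [mulVec, dotProduct, allOne]
    obtain ⟨a, b, ha, hb⟩ := D.exists_mem_notMem S hS
    have e1 := (h2 a).symm.trans (h3 a)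
    have e2 := (h2 b).symm.trans (h3 b)
    simp only [ind, if_pos ha, if_neg hb] at e1 e2
    linear_combination e1 - e2
  have hr := key D.X _ _ D.adj_ind_X (Or.inl rfl)
  have hs := key D.swap.X _ _ D.adj_ind_Y (Or.inr rfl)
  have hw : (D.T : ℤ) - 1 + D.t ≠ 0 := by have := D.T_pos; have := D.t_pos; omega
  have hy : y = (D.T : ℤ) - 1 - D.t := mul_left_cancel₀ hw (by linear_combination hs - hr)
  subst hy
  have hx : x = ((D.T : ℤ) - 1) * D.t := by linear_combination -hr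
  subst hx
  refine ⟨c, h, ?_⟩
  have h1 := D.allOne_row h
  have h2 : D.adj D.p * D.adj D.p * D.allOne =
      ((Nat.card D.ordP : ℤ) * Nat.card D.ordP) • D.allOne := by
    rw [Matrix.mul_assoc, D.adj_mul_allOne, Matrix.mul_smul, D.adj_mul_allOne, smul_smul]
    rfl
  have h3 := congrFun (congrFun (h1.symm.trans h2) D.base) D.base
  simp only [Matrix.smul_apply, smul_eq_mul, allOne, mul_one] at h3
  linear_combination h3

/-- The first scaled eigenprojection. -/
noncomputable def eigR : Matrix D.Pt D.Pt ℤ :=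
  ((D.n * D.m : ℕ) : ℤ) • (D.adj D.p + (D.t : ℤ) • 1) - ((Nat.card D.ordP : ℤ) + D.t) • D.allOne

/-- The second scaled eigenprojection. -/
noncomputable def eigS : Matrix D.Pt D.Pt ℤ :=
  ((D.n * D.m : ℕ) : ℤ) • (((D.T : ℤ) - 1) • 1 - D.adj D.p) +
    ((Nat.card D.ordP : ℤ) - ((D.T : ℤ) - 1)) • D.allOne

theorem eigR_par : D.Par 1 D.eigR :=
  (((D.adj_par D.p).add (D.one_par.smul _)).smul _).sub (D.allOne_par.smul _)

theorem eigS_par : D.Par 1 D.eigS :=
  (((D.one_par.smul _).sub (D.adj_par D.p)).smul _).add (D.allOne_par.smul _)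

theorem allOne_adj : D.allOne * D.adj D.p = (Nat.card D.ordP : ℤ) • D.allOne := by
  rw [D.allOne_par.comm (D.adj_par D.p) (one_mul 1) (one_mul 1), D.adj_mul_allOne]
  rfl

theorem allOne_eigR : D.allOne * D.eigR = 0 := by
  simp only [eigR, Matrix.mul_sub, Matrix.mul_smul, Matrix.mul_add, Matrix.mul_one, D.allOne_adj,
    D.allOne_sq]
  module

theorem allOne_eigS : D.allOne * D.eigS = 0 := by
  simp only [eigS, Matrix.mul_sub, Matrix.mul_smul, Matrix.mul_add, Matrix.mul_one, D.allOne_adj,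
    D.allOne_sq]
  module

theorem adj_eigR : D.adj D.p * D.eigR = ((D.T : ℤ) - 1) • D.eigR := by
  obtain ⟨c, h, hc⟩ := D.adj_sq
  have hJ : D.adj D.p * D.allOne = (Nat.card D.ordP : ℤ) • D.allOne := D.adj_mul_allOne D.p
  simp only [eigR, Matrix.mul_sub, Matrix.mul_smul, Matrix.mul_add, Matrix.mul_one, hJ, h]
  match_scalars
  · ring
  · ring
  · push_cast at hc ⊢
    linear_combination hc

theorem adj_eigS : D.adj D.p * D.eigS = (-(D.t : ℤ)) • D.eigS := by
  obtain ⟨c, h, hc⟩ := D.adj_sq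
  have hJ : D.adj D.p * D.allOne = (Nat.card D.ordP : ℤ) • D.allOne := D.adj_mul_allOne D.p
  simp only [eigS, Matrix.mul_sub, Matrix.mul_smul, Matrix.mul_add, Matrix.mul_one, hJ, h]
  match_scalars
  · ring
  · ring
  · push_cast at hc ⊢
    linear_combination -hc

theorem eigR_sq : D.eigR * D.eigR =
    (((D.n * D.m : ℕ) : ℤ) * ((D.t : ℤ) + D.T - 1)) • D.eigR := by
  nth_rw 1 [eigR]
  rw [Matrix.sub_mul, Matrix.smul_mul, Matrix.smul_mul, Matrix.add_mul, Matrix.smul_mul,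
    Matrix.one_mul, D.adj_eigR, D.allOne_eigR]
  module

theorem eigS_sq : D.eigS * D.eigS =
    (((D.n * D.m : ℕ) : ℤ) * ((D.t : ℤ) + D.T - 1)) • D.eigS := by
  nth_rw 1 [eigS]
  rw [Matrix.add_mul, Matrix.smul_mul, Matrix.smul_mul, Matrix.sub_mul, Matrix.smul_mul,
    Matrix.one_mul, D.adj_eigS, D.allOne_eigS]
  module

/-- The eigenvalues of an even matrix. -/
theorem mul_eig {M : Matrix D.Pt D.Pt ℤ} {x y c : ℤ}
    (h : M = x • (1 : Matrix D.Pt D.Pt ℤ) + y • D.adj D.p + c • D.allOne) :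
    M * D.eigR = (x + y * ((D.T : ℤ) - 1)) • D.eigR ∧ M * D.eigS = (x - y * D.t) • D.eigS := by
  subst h
  constructor
  · simp only [Matrix.add_mul, Matrix.smul_mul, Matrix.one_mul, D.adj_eigR, D.allOne_eigR]
    module
  · simp only [Matrix.add_mul, Matrix.smul_mul, Matrix.one_mul, D.adj_eigS, D.allOne_eigS]
    module

theorem eigR_diag : D.eigR D.base D.base = (D.n : ℤ) * D.t * (D.m - 1) := by
  simp only [eigR, Matrix.sub_apply, Matrix.smul_apply, Matrix.add_apply, smul_eq_mul, one_apply_eq,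
    allOne_apply, adj, inv_mul_cancel, orderOf_one, if_neg D.hp.one_lt.ne, D.card_ordP_int]
  push_cast; ring

theorem eigS_diag : D.eigS D.base D.base = (D.T : ℤ) * D.m * ((D.n : ℤ) - 1) := by
  simp only [eigS, Matrix.sub_apply, Matrix.smul_apply, Matrix.add_apply, smul_eq_mul, one_apply_eq,
    allOne_apply, adj, inv_mul_cancel, orderOf_one, if_neg D.hp.one_lt.ne, D.card_ordP_int]
  push_cast
  linear_combination (-1 : ℤ) * D.card_total_int

theorem one_lt_m : 1 < D.m := D.swap.one_lt_n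

theorem eigR_diag_pos : 0 < D.eigR D.base D.base := by
  rw [D.eigR_diag]
  refine mul_pos (mul_pos ?_ ?_) ?_
  · have := D.one_lt_n; omega
  · have := D.t_pos; omega
  · have := D.one_lt_m; omega

theorem eigS_diag_pos : 0 < D.eigS D.base D.base := by
  rw [D.eigS_diag]
  refine mul_pos (mul_pos ?_ ?_) ?_
  · have := D.T_pos; omega
  · have := D.one_lt_m; omega
  · have := D.one_lt_n; omega

theorem scale_pos : 0 < ((D.n * D.m : ℕ) : ℤ) * ((D.t : ℤ) + D.T - 1) := by
  refine mul_pos ?_ ?_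
  · have := D.one_lt_n
    have := D.one_lt_m
    exact_mod_cast Nat.mul_pos (by omega : 0 < D.n) (by omega : 0 < D.m)
  · have := D.T_pos; have := D.t_pos; omega

/-- The multiplicity is a natural number. -/
theorem exists_mult : ∃ f : ℕ, (f : ℤ) * ((D.t : ℤ) + D.T - 1) = D.t * D.n * ((D.m : ℤ) - 1) := by
  obtain ⟨f, hf⟩ := exists_trace_of_sq D.eigR D.scale_pos.ne' D.eigR_sq
  refine ⟨f, ?_⟩
  have hd : ∀ i, D.eigR i i = D.eigR D.base D.base := fun i => by
    rw [D.eigR_par.apply_base i i, D.trE_root]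
  rw [Matrix.trace] at hf
  simp only [Matrix.diag, hd, Finset.sum_const, Finset.card_univ, D.card_Pt, D.eigR_diag,
    nsmul_eq_mul] at hf
  refine mul_left_cancel₀ (show ((D.n * D.m : ℕ) : ℤ) ≠ 0 from ?_) ?_
  · exact (left_ne_zero_of_mul D.scale_pos.ne')
  · push_cast at hf ⊢
    linear_combination -hf

/-- Squares of signed relations. -/
theorem sgn_sq_span {h : K} {r : ℕ} (hr : r.Prime) (hh : D.σ h = h⁻¹) (ho : orderOf h = r)
    (ht : ∀ g g', D.σ g = g⁻¹ → D.σ g' = g'⁻¹ → orderOf g = r → orderOf g' = r →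
      ∃ c, D.σ c = c ∧ (c * g * c⁻¹ = g' ∨ c * g * c⁻¹ = g'⁻¹)) :
    ∃ x y c : ℤ, D.sgn h * D.sgn h = x • (1 : Matrix D.Pt D.Pt ℤ) + y • D.adj D.p + c • D.allOne ∧
      x + c = -(Nat.card {g : K // D.σ g = g⁻¹ ∧ orderOf g = r} : ℤ) ∧
      x + y * (Nat.card D.ordP) + c * ((D.n * D.m : ℕ) : ℤ) = 0 := by
  have h1 : h ≠ 1 := by rintro rfl; exact hr.one_lt.ne (orderOf_one (G := K) ▸ ho)
  have hs := D.sgn_par h1
  obtain ⟨x, y, c, e, hd⟩ := (hs.neg_mul' hs).span'
  refine ⟨x, y, c, e, ?_, ?_⟩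
  · rw [hd, mul_apply, ← D.adj_row r D.base, ← Finset.sum_neg_distrib]
    refine Finset.sum_congr rfl fun j _ => ?_
    rw [← D.sgn_sq hh ho ht j]
    have := congrFun (congrFun hs.skew D.base) j
    rw [transpose_apply, Matrix.neg_apply] at this
    rw [this]; ring
  · have h0 : D.sgn h * D.sgn h * D.allOne = 0 := by
      rw [Matrix.mul_assoc, D.sgn_mul_allOne h1, Matrix.mul_zero]
    rw [D.allOne_row e] at h0
    have := congrFun (congrFun h0 D.base) D.base
    simpa [allOne_apply] using this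

/-- The eigenvalue conditions. -/
theorem eigen {α β d u v : ℕ} (hn : D.n = 1 + α * d) (hm : D.m = 1 + β * d) (ht : D.t = 1 + β * u)
    (hT : D.T = 1 + α * v) (huv : u + v = d) (hd : 0 < d) (hαβ : α.Coprime β) (hlt : β < α)
    (hn2 : D.n ≤ β * β) :
    (∃ f : ℕ, f * (1 + β * u + α * v) = (1 + β * u) * D.n * β * d) ∧
      D.t ∣ D.m * D.T ∧ D.T ∣ D.n * D.t := by
  obtain ⟨g, hg, hgo⟩ := D.exP
  obtain ⟨g', hg', hgo'⟩ := D.exQ
  have g1 : g ≠ 1 := D.ne_of_ord_p hgo
  have g1' : g' ≠ 1 := D.swap.ne_of_ord_p hgo'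
  obtain ⟨x1, y1, c1, e1, a1, z1⟩ := D.sgn_sq_span D.hp hg hgo D.transP
  obtain ⟨x2, y2, c2, e2, a2, z2⟩ := D.sgn_sq_span D.hq hg' hgo' D.transQ
  have hk : Nat.card {x : K // D.σ x = x⁻¹ ∧ orderOf x = D.p} = Nat.card D.ordP := rfl
  have hkb : Nat.card {x : K // D.σ x = x⁻¹ ∧ orderOf x = D.q} = (D.m - 1) * D.T := D.card_swap_ordP
  rw [hk] at a1
  rw [hkb, Nat.cast_mul, Nat.cast_sub (by have := D.one_lt_m; omega), Nat.cast_one] at a2
  set M := D.sgn g with hMdef
  set N := D.sgn g' with hNdef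
  have pM := D.sgn_par g1
  have pN := D.sgn_par g1'
  obtain ⟨x3, y3, c3, e3, a3⟩ := (pM.neg_mul' pN).span'
  have d3 : x3 + c3 = 0 := by
    rw [a3, mul_apply]
    refine Finset.sum_eq_zero fun j _ => ?_
    have hM := D.sgn_sq hg hgo D.transP j
    have hN := D.sgn_sq hg' hgo' D.transQ j
    have hs := congrFun (congrFun pN.skew D.base) j
    rw [transpose_apply, Matrix.neg_apply] at hs
    rw [hs, mul_neg, neg_eq_zero]
    refine (mul_self_eq_zero).1 ?_
    rw [mul_mul_mul_comm, ← hMdef, ← hNdef] at *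
    rw [hM, hN]
    simp only [adj]
    split_ifs with h1 h2
    · exact absurd (h1.symm.trans h2) D.hpq
    all_goals simp
  have z3 : x3 + y3 * (Nat.card D.ordP) + c3 * ((D.n * D.m : ℕ) : ℤ) = 0 := by
    have h0 : M * N * D.allOne = 0 := by
      rw [Matrix.mul_assoc, D.sgn_mul_allOne g1', Matrix.mul_zero]
    rw [D.allOne_row e3] at h0
    have := congrFun (congrFun h0 D.base) D.base
    simpa [allOne_apply] using this
  obtain ⟨rM, sM⟩ := D.mul_eig e1
  obtain ⟨rN, sN⟩ := D.mul_eig e2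
  obtain ⟨rX, sX⟩ := D.mul_eig e3
  have hA1 := eig_nonpos pM.skew D.eigR_par.symm D.eigR_sq D.scale_pos D.eigR_diag_pos rM
  have hA2 := eig_nonpos pN.skew D.eigR_par.symm D.eigR_sq D.scale_pos D.eigR_diag_pos rN
  -- the product of the two squares
  have hc : N * M = M * N := pN.comm pM (by norm_num) (by norm_num)
  have hprod : ∀ (E : Matrix D.Pt D.Pt ℤ) (a b x : ℤ), 0 < E D.base D.base → M * M * E = a • E →
      N * N * E = b • E → M * N * E = x • E → a * b = x * x := by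
    intro E a b x hE ha hb hx
    have h1 : M * N * (M * N) * E = (x * x) • E := by
      rw [Matrix.mul_assoc (M * N), hx, Matrix.mul_smul, hx, smul_smul]
    have h2 : M * N * (M * N) * E = (a * b) • E := by
      rw [show M * N * (M * N) = M * M * (N * N) by
        rw [Matrix.mul_assoc M N, ← Matrix.mul_assoc N M, hc, Matrix.mul_assoc M N N, ← Matrix.mul_assoc],
        Matrix.mul_assoc (M * M), hb, Matrix.mul_smul, ha, smul_smul, mul_comm b a]
    have h3 := congrFun (congrFun (h2.symm.trans h1) D.base) D.base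
    simp only [Matrix.smul_apply, smul_eq_mul] at h3
    exact mul_right_cancel₀ hE.ne' h3
  have pR := hprod _ _ _ _ D.eigR_diag_pos rM rN rX
  have pS := hprod _ _ _ _ D.eigS_diag_pos sM sN sX
  -- arithmetic
  have ht' := D.card_total_int
  have hkk := D.card_ordP_int
  simp only [hn, hm, ht, hT] at ht' pR pS hA1 hA2
  rw [hn, ht] at hkk
  simp only [hn, hm, Nat.cast_mul] at z1 z2 z3
  rw [hm, hT] at a2
  push_cast at ht' pR pS hA1 hA2 hkk z1 z2 z3 a2
  rw [hkk] at a1 z1 z2 z3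
  obtain ⟨m1, m2⟩ := mult_identities ht'
  have h4 : ((1 + β * u : ℤ) * (1 + α * d) * (β * d)) ^ 2 *
      (-(x1 + y1 * ((1 + α * v : ℤ) - 1)) * -(x2 + y2 * ((1 + α * v : ℤ) - 1))) =
      ((1 + α * v : ℤ) * (1 + β * d) * (α * d)) ^ 2 *
      (-(x1 - y1 * (1 + β * u : ℤ)) * -(x2 - y2 * (1 + β * u : ℤ))) := by
    have e : ∀ a b x : ℤ, a * b = x * x → -a * -b = x * x := fun a b x h => by rw [neg_mul_neg, h]
    rw [e _ _ _ pR, e _ _ _ pS]
    have h3 : (x3 + y3 * ((1 + α * v : ℤ) - 1)) * ((1 + β * u : ℤ) * (1 + α * d) * (β * d)) =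
        -((x3 - y3 * (1 + β * u : ℤ)) * ((1 + α * v : ℤ) * (1 + β * d) * (α * d))) := by
      linear_combination x3 * m1 + y3 * m2 +
        (1 + β * u + α * v : ℤ) * (((1 + α * d : ℤ) * (1 + β * d)) * d3 - z3)
    linear_combination (((x3 + y3 * ((1 + α * v : ℤ) - 1)) * ((1 + β * u : ℤ) * (1 + α * d) * (β * d))) -
      ((x3 - y3 * (1 + β * u : ℤ)) * ((1 + α * v : ℤ) * (1 + β * d) * (α * d)))) * h3
  obtain ⟨A0, B0⟩ := eigen_zero (A1 := -(x1 + y1 * ((1 + α * v : ℤ) - 1)))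
    (A2 := -(x2 + y2 * ((1 + α * v : ℤ) - 1))) (B1 := -(x1 - y1 * (1 + β * u : ℤ)))
    (B2 := -(x2 - y2 * (1 + β * u : ℤ))) hαβ hlt hd huv (hn ▸ hn2) (hn ▸ hm ▸ D.coprime_n_m)
    (by linarith) (by linarith)
    (by linear_combination (-x1) * m1 + (-y1) * m2 +
      (1 + β * u + α * v : ℤ) * (z1 - ((1 + α * d : ℤ) * (1 + β * d)) * a1))
    (by linear_combination (-x2) * m1 + (-y2) * m2 +
      (1 + β * u + α * v : ℤ) * (z2 - ((1 + α * d : ℤ) * (1 + β * d)) * a2))
    h4
  refine ⟨?_, ?_, ?_⟩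
  · obtain ⟨f, hf⟩ := D.exists_mult
    refine ⟨f, ?_⟩
    rw [ht, hT, hn, hm] at hf
    push_cast at hf
    rw [hn]
    exact_mod_cast (show (f : ℤ) * (1 + β * u + α * v) = (1 + β * u) * (1 + α * d) * β * d by
      linear_combination hf)
  · have hb0 : (0 : ℤ) < β * d := by
      have : 0 < β := by
        rcases Nat.eq_zero_or_pos β with h | h
        · subst h; omega
        · exact h
      positivity
    have h : (D.t : ℤ) ∣ (D.m : ℤ) * D.T := by
      rw [ht, hT, hm]; push_cast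
      refine ⟨-y2, mul_left_cancel₀ (show (β * d : ℤ) * (1 + α * d) ≠ 0 by positivity) ?_⟩
      linear_combination ((1 + α * d : ℤ) * (1 + β * d)) * a2 - z2 +
        ((1 + α * d : ℤ) * (1 + β * d) - 1) * B0
    exact_mod_cast h
  · have h : (D.T : ℤ) ∣ (D.n : ℤ) * D.t := by
      rw [ht, hT, hn]; push_cast
      refine ⟨y1, mul_left_cancel₀ (show (α * d : ℤ) * (1 + β * d) ≠ 0 from ?_) ?_⟩
      · have : 0 < α := by omega
        positivity
      · have e : (u : ℤ) + v = d := by exact_mod_cast huv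
        linear_combination ((1 + α * d : ℤ) * (1 + β * d)) * a1 - z1 +
          ((1 + α * d : ℤ) * (1 + β * d) - 1) * A0 + (y1 * α * d * β : ℤ) * e
    exact_mod_cast h

end TwoPrime

end CfsgLib.RankThreeInv
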