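import Cfsg.Agent.RankThreeInv.Counts
import Cfsg.Agent.Kinf.StableControl
import Cfsg.Agent.Kinf.StableNormal
import Cfsg.Agent.Kinf.Terms
import Cfsg.Agent.Functor.Functors

/-!
Fusion in the base clique: the subgroup it generates has class at most two and is controlled by
the normaliser of the lower K-infinity subgroup.
-/

set_option autoImplicit false
set_option linter.unusedSectionVars false
set_option linter.style.haveILetI false

namespace CfsgLib.RankThreeInv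

open CfsgLib.Recog

universe u

section
open CfsgLib.Functor CfsgLib.Kinf
open scoped CfsgLib.Functor

/-- In a group of odd order the normaliser of the lower K-infinity subgroup controls strong fusion. -/
theorem fusion_kInf_of_odd {K : Type u} [Group K] [Finite K] (hodd : Odd (Nat.card K)) {p : ℕ}
    [Fact p.Prime] (hp : p ≠ 2) (S : Sylow p K) {A : Set K} {g : K} (hA : A ⊆ (S : Subgroup K))
    (hg : ∀ a ∈ A, g * a * g⁻¹ ∈ (S : Subgroup K)) :
    ∃ x ∈ Subgroup.normalizer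
      ((Cfsg.inducedFunctor (G := K) Cfsg.kInfLower (S : Subgroup K) : Subgroup K) : Set K),
      ∀ a ∈ A, g * a * g⁻¹ = x * a * x⁻¹ := by
  have hst : ∀ (H R : Subgroup K) [(R.subgroupOf H).Normal],
      Cfsg.IsNormalizerPStable p (↥H ⧸ R.subgroupOf H) := fun H R _ => by
    refine isNormalizerPStable_quotient_of_abelian_two hp (fun T => ?_) _
    have h1 : Nat.card (T : Subgroup H) = 1 := by
      haveI := Fact.mk Nat.prime_two
      rw [T.card_eq_multiplicity, Nat.factorization_eq_zero_of_not_dvd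
        (hodd.of_dvd_nat (Subgroup.card_subgroup_dvd_card H)).not_two_dvd_nat, pow_zero]
    haveI := (Nat.card_eq_one_iff_unique.1 h1).1
    exact ⟨⟨fun a b => Subsingleton.elim _ _⟩⟩
  have hW := (isCharPFunctor_kInf.{u} p).1
  have h := ctl_kInf (G := K) _ hW (fun _ _ _ _ h => Or.inl h) hst K (isSectionOf_self K)
  have h𝓦 : ∀ V ∈ ({fun Q [Group Q] => Cfsg.kInfLower Q} :
      Set (∀ (Q : Type u) [Group Q], Subgroup Q)), Cfsg.IsCharPFunctor.{u} p V :=
    fun V hV => by rw [Set.mem_singleton_iff] at hV; exact hV ▸ hW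
  have hc := (controls_iff_family (family_conjugacy h𝓦) (isSylowIn_top S)).1 h
  rw [family_singleton, show locals {Cfsg.inducedFunctor (G := K) Cfsg.kInfLower} ⊤ (S : Subgroup K) =
    {⊤ ⊓ Subgroup.normalizer ((Cfsg.inducedFunctor (G := K) Cfsg.kInfLower (S : Subgroup K) :
      Subgroup K) : Set K)} from Set.image_singleton] at hc
  obtain ⟨x, hx, hxe⟩ := exists_mem_of_chain (hc (Subgroup.closure A) g (Subgroup.mem_top g)
    ((Subgroup.closure_le _).2 hA) (by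
      rw [MonoidHom.map_closure, Subgroup.closure_le]
      rintro _ ⟨a, ha, rfl⟩
      exact hg a ha))
  exact ⟨x, hx.2, fun a ha => (hxe a (Subgroup.subset_closure ha)).symm⟩

end

namespace TwoPrime

variable {K : Type u} [Group K] [Finite K] (D : TwoPrime K)
include D

theorem p_ne_two : D.p ≠ 2 := by
  intro h
  obtain ⟨x, -, hx⟩ := D.exP
  exact (Nat.not_odd_iff_even.2 even_two) (h ▸ hx ▸ D.odd_ord x)

/-- The chosen Sylow subgroup as a `Sylow`. -/
noncomputable def sylow : Sylow D.p K where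
  toSubgroup := D.sylP
  isPGroup' := D.sylP_spec.1.2.1
  is_maximal' := fun hQ hle => D.sylP_spec.1.2.2 _ le_top hQ hle

/-- The lower K-infinity subgroup of the chosen Sylow subgroup. -/
noncomputable def W : Subgroup K := Cfsg.inducedFunctor (G := K) Cfsg.kInfLower D.sylP

theorem W_le : D.W ≤ D.sylP := Subgroup.map_subtype_le _

theorem W_stable : D.Stable D.W := by
  haveI := Fact.mk D.hp
  rintro _ ⟨x, hx, rfl⟩
  let φ : D.sylP ≃* D.sylP :=
    { toFun := fun x => ⟨D.σ x, D.sylP_spec.2 x x.2⟩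
      invFun := fun x => ⟨D.σ x, D.sylP_spec.2 x x.2⟩
      left_inv := fun x => Subtype.ext (D.invol x)
      right_inv := fun x => Subtype.ext (D.invol x)
      map_mul' := fun x y => Subtype.ext (map_mul D.σ (x : K) y) }
  have e := (Kinf.isCharPFunctor_kInf.{u} D.p).1.2 _ _ D.sylP_spec.1.2.1 φ
  have hm : φ x ∈ Subgroup.map φ.toMonoidHom (Cfsg.kInfLower ↥D.sylP) := ⟨x, hx, rfl⟩
  exact ⟨φ x, e.le hm, rfl⟩

theorem sylP_le_N : D.sylP ≤ Subgroup.normalizer (D.W : Set K) := by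
  haveI := Fact.mk D.hp
  haveI := CfsgLib.Functor.functor_characteristic (Kinf.isCharPFunctor_kInf.{u} D.p).1.2
    ↥D.sylP D.sylP_spec.1.2.1
  intro g hg
  have hn : (Cfsg.kInfLower ↥D.sylP).Normal := inferInstance
  have key : ∀ a ∈ D.sylP, ∀ x ∈ D.W, a * x * a⁻¹ ∈ D.W := by
    rintro a ha _ ⟨x, hx, rfl⟩
    exact ⟨_, hn.conj_mem x hx ⟨a, ha⟩, rfl⟩
  rw [Subgroup.mem_normalizer_iff]
  refine fun x => ⟨key g hg x, fun h => ?_⟩
  simpa [mul_assoc] using key g⁻¹ (D.sylP.inv_mem hg) _ h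

theorem mem_W_of_centralizes {x : K} (hx : x ∈ D.sylP) (h : ∀ w ∈ D.W, Commute x w) : x ∈ D.W := by
  haveI := Fact.mk D.hp
  have : (⟨x, hx⟩ : D.sylP) ∈ Cfsg.kInfLower ↥D.sylP := by
    refine Kinf.centralizer_kInfLower_le D.sylP_spec.1.2.1 ?_
    exact Subgroup.mem_centralizer_iff.2 fun w hw => Subtype.ext (h w ⟨w, hw, rfl⟩).symm.eq
  exact ⟨_, this, rfl⟩

theorem fusion {A : Set K} {g : K} (hA : A ⊆ D.sylP) (hg : ∀ a ∈ A, g * a * g⁻¹ ∈ D.sylP) :
    ∃ x ∈ Subgroup.normalizer (D.W : Set K), ∀ a ∈ A, g * a * g⁻¹ = x * a * x⁻¹ := by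
  haveI := Fact.mk D.hp
  exact fusion_kInf_of_odd D.odd D.p_ne_two D.sylow hA hg

theorem X_ord {x : K} (hx : x ∈ D.X) (h1 : x ≠ 1) : orderOf x = D.p := by
  haveI := Fact.mk D.hp
  exact orderOf_eq_prime (D.pow_X hx) h1

theorem exists_X_W : ∃ h ∈ D.X, h ∈ D.W ∧ h ≠ 1 := by
  by_contra hcon
  push Not at hcon
  have hfix : ∀ w ∈ D.W, D.σ w = w := by
    intro w hw
    obtain ⟨i, hi, c, hc, rfl⟩ := D.decomp D.W_stable hw
    rw [hcon i ⟨D.W_le hi.1, hi.2⟩ hi.1, one_mul]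
    exact hc.2
  obtain ⟨x, hx, ho⟩ := D.exists_ord_X
  have hcen : ∀ w ∈ D.W, Commute x w := by
    intro w hw
    have h2 : x * w * x⁻¹ ∈ D.W := (Subgroup.mem_normalizer_iff.1 (D.sylP_le_N hx.1) w).1 hw
    have h3 := hfix _ h2
    rw [map_mul, map_mul, map_inv, hx.2, inv_inv, hfix w hw] at h3
    refine (D.commute_sq (x := x) (g := w) ?_).symm
    show w * (x * x) = x * x * w
    calc w * (x * x) = x * (x⁻¹ * w * x) * x := by group
      _ = x * (x * w * x⁻¹) * x := by rw [h3]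
      _ = x * x * w := by group
  exact D.ne_of_ord_p ho (D.inv_fix_eq_one hx.2 (hfix x (D.mem_W_of_centralizes hx.1 hcen)))

theorem X_sub_W : D.X ⊆ D.W := by
  obtain ⟨h0, h0X, h0W, h01⟩ := D.exists_X_W
  intro h hh
  by_cases h1 : h = 1
  · exact h1 ▸ D.W.one_mem
  obtain ⟨c, hc, e⟩ := D.transP h0 h h0X.2 hh.2 (D.X_ord h0X h01) (D.X_ord hh h1)
  have key : ∀ h', h' ∈ D.sylP → c * h0 * c⁻¹ = h' → h' ∈ D.W := by
    intro h' hh' e
    obtain ⟨x, hx, hxe⟩ := D.fusion (A := {h0}) (g := c) (Set.singleton_subset_iff.2 h0X.1)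
      (fun a ha => by rw [Set.mem_singleton_iff.1 ha, e]; exact hh')
    rw [← e, hxe h0 rfl]
    exact (Subgroup.mem_normalizer_iff.1 hx h0).1 h0W
  rcases e with e | e
  · exact key h hh.1 e
  · exact inv_mem_iff.1 (key _ (D.sylP.inv_mem hh.1) e)

/-- The subgroup generated by the base clique. -/
def R : Subgroup K := Subgroup.closure D.X

/-- Its fixed elements. -/
def Zf : Subgroup K := D.R ⊓ D.fix

theorem X_sub_R : D.X ⊆ D.R := Subgroup.subset_closure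

theorem R_le : D.R ≤ D.sylP := (Subgroup.closure_le _).2 fun _ hx => hx.1

theorem R_stable : D.Stable D.R :=
  D.stable_closure fun x hx => by rw [hx.2]; exact Subgroup.inv_mem _ (Subgroup.subset_closure hx)

theorem inv_R : D.inv D.R = D.X :=
  Set.Subset.antisymm (D.inv_mono D.R_le) fun _ hx => ⟨D.X_sub_R hx, hx.2⟩

variable (hu : ∀ v ∈ D.inv ⊤, v ∉ D.X → 0 < Nat.card (D.pnbr v))
include hu

theorem inv_N : D.inv (Subgroup.normalizer (D.W : Set K)) = D.X := by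
  haveI := Fact.mk D.hp
  haveI := Fact.mk D.hq
  set N := Subgroup.normalizer (D.W : Set K)
  have hq : ∀ g ∈ D.inv N, orderOf g ≠ D.q := by
    intro g hg hgo
    have hgX : g ∉ D.X := fun h => D.rel_X D.one_mem_X h (by rw [inv_one, one_mul, hgo])
    obtain ⟨⟨x, hx, hxo⟩⟩ := (Nat.card_pos_iff.1 (hu g ⟨trivial, hg.2⟩ hgX)).1
    haveI : (D.W.subgroupOf N).Normal := Subgroup.normal_in_normalizer
    let π := QuotientGroup.mk' (D.W.subgroupOf N)
    have hxW : π ⟨x, D.sylP_le_N hx.1⟩ = 1 :=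
      (QuotientGroup.eq_one_iff _).2 (D.X_sub_W hx)
    have h1 : (⟨g, hg.1⟩⁻¹ * ⟨x, D.sylP_le_N hx.1⟩ : N) ^ D.p = 1 := by
      refine Subtype.ext ?_
      show (g⁻¹ * x) ^ D.p = 1
      rw [← hxo, pow_orderOf_eq_one]
    have h2 := congrArg π h1
    rw [map_pow, map_mul, hxW, mul_one, map_one, map_inv, inv_pow, inv_eq_one, ← map_pow] at h2
    have h3 : g ^ D.p ∈ D.W := by
      have h4 := (QuotientGroup.eq_one_iff _).1 h2
      simpa [Subgroup.mem_subgroupOf] using h4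
    obtain ⟨k, hk⟩ := D.sylP_spec.1.2.1 ⟨_, D.W_le h3⟩
    have hk' : (g ^ D.p) ^ D.p ^ k = 1 := congrArg Subtype.val hk
    rw [← pow_mul, ← pow_succ'] at hk'
    have := Nat.eq_one_of_dvd_coprimes (((Nat.coprime_primes D.hp D.hq).2 D.hpq).pow_left (k + 1))
      (orderOf_dvd_of_pow_eq_one hk') (hgo ▸ dvd_rfl)
    rw [hgo] at this
    exact D.hq.one_lt.ne' this
  have hP : IsSyl D.p N D.sylP :=
    ⟨D.sylP_le_N, D.sylP_spec.1.2.1, fun V _ hV hle => D.sylP_spec.1.2.2 V le_top hV hle⟩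
  have hNs : D.Stable N := D.stable_normalizer D.W_stable
  obtain ⟨Q, -, hQ, hQs⟩ := D.exists_stable_syl (p := D.q) (W := ⊥) hNs
    (fun k hk => by rw [Subgroup.mem_bot] at hk ⊢; rw [hk, map_one]) bot_le IsPGroup.of_bot
  have hQ1 : Nat.card (D.inv Q) = 1 := by
    have key : ∀ a : D.inv Q, (a : K) = 1 := fun a => by
      rcases D.ord_cases a.2.2 with h | h | h
      · exact h
      · exact D.not_both (h ▸ pow_orderOf_eq_one (a : K))
          (D.swap.ord_of_isPGroup D.hq D.hpq.symm hQ.2.1 a.2)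
      · exact absurd h (hq a ⟨hQ.1 a.2.1, a.2.2⟩)
    exact Nat.card_eq_one_iff_unique.2
      ⟨⟨fun a b => Subtype.ext ((key a).trans (key b).symm)⟩, ⟨⟨1, D.one_mem_inv Q⟩⟩⟩
  have hc := D.card_inv hNs hP D.sylP_spec.2 hQ hQs
  rw [hQ1, mul_one] at hc
  exact (Set.eq_of_subset_of_ncard_le (D.inv_mono D.sylP_le_N)
    (by rw [← Nat.card_coe_set_eq, ← Nat.card_coe_set_eq, hc]) (Set.toFinite _)).symm

theorem conj_X {c x : K} (hc : c ∈ Subgroup.normalizer (D.W : Set K)) (hc' : D.σ c = c) (hx : x ∈ D.X) :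
    c * x * c⁻¹ ∈ D.X := by
  rw [← D.inv_N hu] at hx ⊢
  refine ⟨Subgroup.mul_mem _ (Subgroup.mul_mem _ hc hx.1) (Subgroup.inv_mem _ hc), ?_⟩
  simp [map_mul, hc', hx.2, mul_assoc]

theorem conj_R {k r : K} (hk : k ∈ Subgroup.normalizer (D.W : Set K)) (hr : r ∈ D.R) :
    k * r * k⁻¹ ∈ D.R := by
  obtain ⟨i, hi, c, hc, rfl⟩ := D.decomp (D.stable_normalizer D.W_stable) hk
  have hle : D.R ≤ (D.R).comap (MulAut.conj c).toMonoidHom :=
    (Subgroup.closure_le _).2 fun x hx => D.X_sub_R (D.conj_X hu hc.1 hc.2 hx)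
  have hiR : i ∈ D.R := D.X_sub_R (D.inv_N hu ▸ hi)
  have := (D.R).mul_mem ((D.R).mul_mem hiR (hle hr)) ((D.R).inv_mem hiR)
  simpa [mul_assoc] using this

theorem transN {h h' : K} (hh : h ∈ D.X) (hh' : h' ∈ D.X) (h1 : h ≠ 1) (h1' : h' ≠ 1) :
    ∃ c ∈ Subgroup.normalizer (D.W : Set K), D.σ c = c ∧ (c * h * c⁻¹ = h' ∨ c * h * c⁻¹ = h'⁻¹) := by
  obtain ⟨c, hc, e⟩ := D.transP h h' hh.2 hh'.2 (D.X_ord hh h1) (D.X_ord hh' h1')
  have key : ∀ h'' : K, h'' ∈ D.sylP → D.σ h'' = h''⁻¹ → c * h * c⁻¹ = h'' →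
      ∃ c ∈ Subgroup.normalizer (D.W : Set K), D.σ c = c ∧ c * h * c⁻¹ = h'' := by
    intro h'' hh'' hσ e
    obtain ⟨x, hx, hxe⟩ := D.fusion (A := {h}) (g := c) (Set.singleton_subset_iff.2 hh.1)
      (fun a ha => by rw [Set.mem_singleton_iff.1 ha, e]; exact hh'')
    have hx' : x * h * x⁻¹ = h'' := by rw [← hxe h rfl, e]
    set N := Subgroup.normalizer (D.W : Set K)
    obtain ⟨d, ⟨hdN, hd⟩, hdσ⟩ := D.exists_fixed_mem (S := {d | d ∈ N ∧ d * h * d⁻¹ = h''})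
      (N ⊓ Subgroup.centralizer {h}) (k := x)
      (fun d => by
        rw [Set.mem_ofPred_eq, Subgroup.mem_inf, Subgroup.mem_centralizer_singleton_iff]
        constructor
        · rintro ⟨hd, e'⟩
          refine ⟨N.mul_mem (N.inv_mem hx) hd, ?_⟩
          calc x⁻¹ * d * h = x⁻¹ * (d * h * d⁻¹) * d := by group
            _ = x⁻¹ * (x * h * x⁻¹) * d := by rw [e', hx']
            _ = h * (x⁻¹ * d) := by group
        · rintro ⟨hd, e'⟩
          refine ⟨by simpa [mul_assoc] using N.mul_mem hx hd, ?_⟩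
          calc d * h * d⁻¹ = x * ((x⁻¹ * d) * h) * (x⁻¹ * d)⁻¹ * x⁻¹ := by group
            _ = x * (h * (x⁻¹ * d)) * (x⁻¹ * d)⁻¹ * x⁻¹ := by rw [e']
            _ = x * h * x⁻¹ := by group
            _ = h'' := hx')
      (fun d hd => by
        refine ⟨D.stable_normalizer D.W_stable _ hd.1, ?_⟩
        have := congrArg D.σ hd.2
        rw [map_mul, map_mul, map_inv, hh.2, hσ] at this
        apply inv_injective
        simpa [mul_assoc] using this)
    exact ⟨d, hdN, hdσ, hd⟩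
  rcases e with e | e
  · obtain ⟨c, h1, h2, h3⟩ := key h' hh'.1 hh'.2 e
    exact ⟨c, h1, h2, Or.inl h3⟩
  · obtain ⟨c, h1, h2, h3⟩ := key h'⁻¹ (D.sylP.inv_mem hh'.1) (by rw [map_inv, hh'.2]) e
    exact ⟨c, h1, h2, Or.inr h3⟩

/-- A set invariant under the fixed part of the normaliser and meeting the base clique off the identity
contains it. -/
theorem X_sub_of_meets {S : Subgroup K} {h : K} (hhS : h ∈ S) (hh : h ∈ D.X) (h1 : h ≠ 1)
    (hS : ∀ c ∈ Subgroup.normalizer (D.W : Set K), D.σ c = c → ∀ s ∈ S, c * s * c⁻¹ ∈ S) :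
    D.X ⊆ S := by
  intro h' hh'
  by_cases h1' : h' = 1
  · exact h1' ▸ S.one_mem
  obtain ⟨c, hc, hcσ, e | e⟩ := D.transN hu hh hh' h1 h1'
  · exact e ▸ hS c hc hcσ h hhS
  · exact inv_mem_iff.1 (e ▸ hS c hc hcσ h hhS)

theorem structure_R : (∀ z ∈ D.Zf, ∀ r ∈ D.R, Commute z r) ∧
    ∀ r ∈ D.R, ∀ s ∈ D.R, r * s * r⁻¹ * s⁻¹ ∈ D.Zf := by
  haveI := Fact.mk D.hp
  set R := D.R with hR
  set Zc : Subgroup K := R ⊓ Subgroup.centralizer (R : Set K) with hZc
  have hZcc : ∀ z ∈ Zc, ∀ r ∈ R, Commute z r := fun z hz r hr =>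
    ((Subgroup.mem_centralizer_iff.1 hz.2) r hr).symm
  have hRs : D.Stable R := D.R_stable
  have hZcs : D.Stable Zc := D.stable_inf hRs (D.stable_centralizer fun x hx => hRs x hx)
  have hinvR : ∀ c ∈ Subgroup.normalizer (D.W : Set K), ∀ r ∈ R, c⁻¹ * r * c ∈ R := fun c hc r hr => by
    simpa using D.conj_R hu (Subgroup.inv_mem _ hc) hr
  have hZcn : ∀ c ∈ Subgroup.normalizer (D.W : Set K), ∀ s ∈ Zc, c * s * c⁻¹ ∈ Zc := by
    intro c hc s hs
    refine ⟨D.conj_R hu hc hs.1, Subgroup.mem_centralizer_iff.2 fun r hr => ?_⟩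
    have := (hZcc s hs _ (hinvR c hc r hr)).eq
    calc r * (c * s * c⁻¹) = c * ((c⁻¹ * r * c) * s) * c⁻¹ := by group
      _ = c * (s * (c⁻¹ * r * c)) * c⁻¹ := by rw [this]
      _ = c * s * c⁻¹ * r := by group
  by_cases hab : ∃ h ∈ Zc, h ∈ D.X ∧ h ≠ 1
  · obtain ⟨h, hhZ, hh, h1⟩ := hab
    have hX := D.X_sub_of_meets hu hhZ hh h1 fun c hc _ s hs => hZcn c hc s hs
    have hRZ : R ≤ Zc := (Subgroup.closure_le _).2 hX
    have hcomm : ∀ r ∈ R, ∀ s ∈ R, Commute r s := fun r hr s hs => hZcc r (hRZ hr) s hs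
    refine ⟨fun z hz r hr => hcomm z hz.1 r hr, fun r hr s hs => ?_⟩
    rw [(hcomm r hr s hs).eq, mul_inv_cancel_right, mul_inv_cancel]
    exact Subgroup.one_mem _
  push Not at hab
  let Z2 : Subgroup K :=
    { carrier := {r | r ∈ R ∧ ∀ s ∈ R, r * s * r⁻¹ * s⁻¹ ∈ Zc}
      one_mem' := ⟨R.one_mem, fun s _ => by simp [Zc.one_mem]⟩
      mul_mem' := fun {r r'} hr hr' => ⟨R.mul_mem hr.1 hr'.1, fun s hs => by
        have e : r * r' * s * (r * r')⁻¹ * s⁻¹ =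
            r * (r' * s * r'⁻¹ * s⁻¹) * r⁻¹ * (r * s * r⁻¹ * s⁻¹) := by group
        rw [e, ← (hZcc _ (hr'.2 s hs) r hr.1).eq, mul_inv_cancel_right]
        exact Zc.mul_mem (hr'.2 s hs) (hr.2 s hs)⟩
      inv_mem' := fun {r} hr => ⟨R.inv_mem hr.1, fun s hs => by
        have e : r⁻¹ * s * r⁻¹⁻¹ * s⁻¹ = r⁻¹ * (r * s * r⁻¹ * s⁻¹)⁻¹ * r := by group
        rw [e, ← (hZcc _ (Zc.inv_mem (hr.2 s hs)) r⁻¹ (R.inv_mem hr.1)).eq, inv_mul_cancel_right]
        exact Zc.inv_mem (hr.2 s hs)⟩ }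
  have hZ2s : D.Stable Z2 := by
    rintro r ⟨hr, hr'⟩
    refine ⟨hRs r hr, fun s hs => ?_⟩
    have := hZcs _ (hr' _ (hRs s hs))
    simpa [map_mul, D.invol] using this
  have hZ2n : ∀ c ∈ Subgroup.normalizer (D.W : Set K), ∀ s ∈ Z2, c * s * c⁻¹ ∈ Z2 := by
    rintro c hc r ⟨hr, hr'⟩
    refine ⟨D.conj_R hu hc hr, fun s hs => ?_⟩
    have := hZcn c hc _ (hr' _ (hinvR c hc s hs))
    simpa [mul_assoc] using this
  obtain ⟨x, hx, hxo⟩ := D.exists_ord_X
  have hxR : x ∈ R := D.X_sub_R hx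
  have hRp : IsPGroup D.p R := D.sylP_spec.1.2.1.to_le (D.R_le)
  obtain ⟨r0, hr0, hr0c⟩ : ∃ r0 ∈ Z2, r0 ∉ Zc := by
    haveI : Nontrivial (↥R ⧸ Subgroup.center ↥R) := by
      rw [QuotientGroup.nontrivial_iff]
      intro h
      refine D.ne_of_ord_p hxo (hab x ⟨hxR, Subgroup.mem_centralizer_iff.2 fun r hr => ?_⟩ hx)
      have : (⟨x, hxR⟩ : R) ∈ Subgroup.center ↥R := h ▸ Subgroup.mem_top _
      exact congrArg Subtype.val (Subgroup.mem_center_iff.1 this ⟨r, hr⟩)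
    haveI := (hRp.to_quotient (Subgroup.center ↥R)).center_nontrivial
    obtain ⟨⟨y, hy⟩, hy1⟩ := exists_ne (1 : Subgroup.center (↥R ⧸ Subgroup.center ↥R))
    obtain ⟨⟨r0, hr0⟩, rfl⟩ := QuotientGroup.mk_surjective y
    refine ⟨r0, ⟨hr0, fun s hs => ⟨R.mul_mem (R.mul_mem (R.mul_mem hr0 hs) (R.inv_mem hr0))
      (R.inv_mem hs), ?_⟩⟩, fun h => hy1 (Subtype.ext ((QuotientGroup.eq_one_iff _).2
        (Subgroup.mem_center_iff.2 fun r => Subtype.ext ((Subgroup.mem_centralizer_iff.1 h.2) r r.2))))⟩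
    have h1 := Subgroup.mem_center_iff.1 hy (QuotientGroup.mk (⟨s, hs⟩ : R))
    have h2 : (⟨r0, hr0⟩ * ⟨s, hs⟩ * ⟨r0, hr0⟩⁻¹ * ⟨s, hs⟩⁻¹ : R) ∈ Subgroup.center ↥R := by
      rw [← QuotientGroup.eq_one_iff, QuotientGroup.mk_mul, QuotientGroup.mk_mul, QuotientGroup.mk_mul,
        QuotientGroup.mk_inv, QuotientGroup.mk_inv, ← h1, mul_inv_cancel_right, mul_inv_cancel]
    exact Subgroup.mem_centralizer_iff.2 fun r hr =>
      congrArg Subtype.val (Subgroup.mem_center_iff.1 h2 ⟨r, hr⟩)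
  obtain ⟨h, hhZ, hh, h1⟩ : ∃ h ∈ Z2, h ∈ D.X ∧ h ≠ 1 := by
    by_contra hcon
    push Not at hcon
    have hfix : ∀ r ∈ Z2, D.σ r = r := by
      intro r hr
      obtain ⟨i, hi, c, hc, rfl⟩ := D.decomp hZ2s hr
      rw [hcon i hi.1 ⟨D.R_le hi.1.1, hi.2⟩, one_mul]
      exact hc.2
    refine hr0c ⟨hr0.1, Subgroup.mem_centralizer_iff.2 fun r hr => ?_⟩
    have hle : R ≤ Subgroup.centralizer {r0} := by
      refine (Subgroup.closure_le _).2 fun s hs => ?_
      rw [SetLike.mem_coe, Subgroup.mem_centralizer_singleton_iff]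
      have h3 := hfix _ (hZ2n s (D.sylP_le_N hs.1) r0 hr0)
      rw [map_mul, map_mul, map_inv, hs.2, inv_inv, hfix r0 hr0] at h3
      refine ((D.commute_sq (x := s) (g := r0) ?_).symm).eq
      show r0 * (s * s) = s * s * r0
      calc r0 * (s * s) = s * (s⁻¹ * r0 * s) * s := by group
        _ = s * (s * r0 * s⁻¹) * s := by rw [h3]
        _ = s * s * r0 := by group
    exact Subgroup.mem_centralizer_singleton_iff.1 (hle hr)
  have hX := D.X_sub_of_meets hu hhZ hh h1 fun c hc _ s hs => hZ2n c hc s hs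
  have hRZ : R ≤ Z2 := (Subgroup.closure_le _).2 hX
  have hZcfix : Zc ≤ D.Zf := by
    intro z hz
    refine ⟨hz.1, ?_⟩
    obtain ⟨i, hi, c, hc, rfl⟩ := D.decomp hZcs hz
    rw [hab i hi.1 ⟨D.R_le hi.1.1, hi.2⟩, one_mul]
    exact hc.2
  have hcm : ∀ r ∈ R, ∀ s ∈ R, r * s * r⁻¹ * s⁻¹ ∈ Zc := fun r hr => (hRZ hr).2
  refine ⟨?_, fun r hr s hs => hZcfix (hcm r hr s hs)⟩
  intro r hr s hs
  have hr' : D.σ r = r := hr.2
  have hle : R ≤ Subgroup.centralizer {r} := by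
    refine (Subgroup.closure_le _).2 fun s hs => ?_
    rw [SetLike.mem_coe, Subgroup.mem_centralizer_singleton_iff]
    have hsR : s ∈ R := D.X_sub_R hs
    set z := r * s * r⁻¹ * s⁻¹ with hz
    have hzc := hcm r hr.1 s hsR
    have h2 : r * s⁻¹ * r⁻¹ * s = z := by
      have h3 : D.σ z = z := (hZcfix hzc).2
      rw [hz, map_mul, map_mul, map_mul, map_inv, map_inv, hr', hs.2, inv_inv] at h3
      exact h3
    have h3 : r * s⁻¹ * r⁻¹ * s = z⁻¹ := by
      calc r * s⁻¹ * r⁻¹ * s = s⁻¹ * (s * r * s⁻¹ * r⁻¹) * s := by group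
        _ = s⁻¹ * z⁻¹ * s := by rw [hz]; group
        _ = z⁻¹ := by
          rw [← (hZcc _ (Zc.inv_mem hzc) s⁻¹ (R.inv_mem hsR)).eq, inv_mul_cancel_right]
    have h4 : z = 1 := D.eq_one_of_sq (by nth_rw 2 [h2.symm.trans h3]; rw [mul_inv_cancel])
    rw [hz, mul_inv_eq_one, mul_inv_eq_iff_eq_mul] at h4
    exact h4.symm
  exact (Subgroup.mem_centralizer_singleton_iff.1 (hle hs)).symm

theorem Zf_central {z r : K} (hz : z ∈ D.Zf) (hr : r ∈ D.R) : Commute z r :=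
  (D.structure_R hu).1 z hz r hr

theorem comm_mem {r s : K} (hr : r ∈ D.R) (hs : s ∈ D.R) : r * s * r⁻¹ * s⁻¹ ∈ D.Zf :=
  (D.structure_R hu).2 r hr s hs

theorem card_R : Nat.card (D.R) = D.n * Nat.card (D.Zf) := by
  rw [D.card_decomp (D.R_stable), D.inv_R]; rfl

theorem strongly_closed {z g : K} (hz : z ∈ D.Zf) (hg : g * z * g⁻¹ ∈ D.sylP) :
    g * z * g⁻¹ ∈ D.Zf := by
  obtain ⟨x, hx, hxe⟩ := D.fusion (A := {z}) (g := g) (Set.singleton_subset_iff.2 (D.R_le hz.1))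
    (fun a ha => by rw [Set.mem_singleton_iff.1 ha]; exact hg)
  rw [hxe z rfl]
  obtain ⟨i, hi, c, hc, rfl⟩ := D.decomp (D.stable_normalizer D.W_stable) hx
  have hcz : c * z * c⁻¹ ∈ D.Zf := ⟨D.conj_R hu hc.1 hz.1, by
    show D.σ _ = _
    rw [map_mul, map_mul, map_inv, show D.σ c = c from hc.2, show D.σ z = z from hz.2]; rfl⟩
  have := (D.Zf_central hu hcz (D.X_sub_R (D.inv_N hu ▸ hi))).eq
  have e : i * c * z * (i * c)⁻¹ = c * z * c⁻¹ := by
    calc i * c * z * (i * c)⁻¹ = i * (c * z * c⁻¹) * i⁻¹ := by group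
      _ = c * z * c⁻¹ * i * i⁻¹ := by rw [this]
      _ = c * z * c⁻¹ := by group
  rw [e]; exact hcz

theorem conj_Zf {c z : K} (hc : c ∈ Subgroup.normalizer (D.W : Set K)) (hz : z ∈ D.Zf) :
    c * z * c⁻¹ ∈ D.Zf :=
  D.strongly_closed hu hz (D.R_le (D.conj_R hu hc hz.1))

theorem zpowers_pgroup {H : Subgroup K} {r : K} (hH : IsPGroup D.p H) (hr : r ∈ H) :
    IsPGroup D.p (Subgroup.zpowers r) := hH.to_le (Subgroup.zpowers_le.2 hr)

theorem stab_le {r v : K} (hr : r ∈ D.R) (hv : D.σ v = v⁻¹) (h : D.act r v = v) : r ∈ D.Zf := by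
  haveI := Fact.mk D.hp
  obtain ⟨e1, e2⟩ := D.sq_root hv
  set s := oddRoot v
  have hf : D.σ (s⁻¹ * r * s) = s⁻¹ * r * s :=
    D.act_one_eq_one.1 (by rw [← D.act_act, ← D.act_act, e1, h, e2])
  have hz : IsPGroup D.p (Subgroup.zpowers (s⁻¹ * r * s)) := by
    obtain ⟨k, hk⟩ := D.sylP_spec.1.2.1 ⟨r, D.R_le hr⟩
    have hk' : r ^ D.p ^ k = 1 := congrArg Subtype.val hk
    rintro ⟨_, j, rfl⟩
    refine ⟨k, Subtype.ext ?_⟩
    show ((s⁻¹ * r * s) ^ j) ^ D.p ^ k = 1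
    rw [← zpow_natCast, zpow_comm, zpow_natCast]
    have : (s⁻¹ * r * s) = MulAut.conj s⁻¹ r := by simp
    rw [this, ← map_pow, hk', map_one, one_zpow]
  obtain ⟨P, hP, hS, hs⟩ := D.exists_stable_syl (p := D.p) D.stable_top
    (D.stable_zpowers (Or.inr hf)) le_top hz
  obtain ⟨c, hc, hcP⟩ := D.syl_conj D.stable_top D.sylP_spec.1 D.sylP_spec.2 hS hs
  set d := c⁻¹ * (s⁻¹ * r * s) * c with hd
  have hdP : d ∈ D.sylP := (hcP _).1 (hP (Subgroup.mem_zpowers _))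
  obtain ⟨x, hx, hxe⟩ := D.fusion (A := {r}) (g := c⁻¹ * s⁻¹)
    (Set.singleton_subset_iff.2 (D.R_le hr))
    (fun a ha => by
      rw [Set.mem_singleton_iff.1 ha]
      have : c⁻¹ * s⁻¹ * r * (c⁻¹ * s⁻¹)⁻¹ = d := by rw [hd]; group
      rw [this]; exact hdP)
  have hdR : d ∈ D.R := by
    have : d = x * r * x⁻¹ := by rw [← hxe r rfl, hd]; group
    rw [this]; exact D.conj_R hu hx hr
  have hdZ : d ∈ D.Zf := ⟨hdR, by
    show D.σ d = d
    rw [hd, map_mul, map_mul, map_inv, show D.σ c = c from hc.2, hf]⟩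
  have e : s * c * d * (s * c)⁻¹ = r := by rw [hd]; group
  rw [← e]
  exact D.strongly_closed hu hdZ (by rw [e]; exact D.R_le hr)

theorem zf_of_centralizes {z c : K} (hz : z ∈ D.Zf) (hc : D.σ c = c)
    (h : ∀ x ∈ D.X, Commute z (c * x * c⁻¹)) : c⁻¹ * z * c ∈ D.Zf := by
  haveI := Fact.mk D.hp
  set z' := c⁻¹ * z * c with hz'
  have hz's : D.σ z' = z' := by
    rw [hz', map_mul, map_mul, map_inv, hc, show D.σ z = z from hz.2]
  have hcomm : ∀ r ∈ D.R, Commute z' r := by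
    have hle : D.R ≤ Subgroup.centralizer {z'} := by
      refine (Subgroup.closure_le _).2 fun x hx => ?_
      rw [SetLike.mem_coe, Subgroup.mem_centralizer_singleton_iff, hz']
      calc x * (c⁻¹ * z * c) = c⁻¹ * ((c * x * c⁻¹) * z) * c := by group
        _ = c⁻¹ * (z * (c * x * c⁻¹)) * c := by rw [(h x hx).eq]
        _ = c⁻¹ * z * c * x := by group
    exact fun r hr => (Subgroup.mem_centralizer_singleton_iff.1 (hle hr)).symm
  set V := D.R ⊔ Subgroup.zpowers z' with hV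
  have hVp : IsPGroup D.p V := by
    obtain ⟨k, hk⟩ := D.sylP_spec.1.2.1 ⟨z, D.R_le hz.1⟩
    have hk' : z ^ D.p ^ k = 1 := congrArg Subtype.val hk
    have hzp : IsPGroup D.p (Subgroup.zpowers z') := by
      rintro ⟨_, j, rfl⟩
      refine ⟨k, Subtype.ext ?_⟩
      show (z' ^ j) ^ D.p ^ k = 1
      rw [← zpow_natCast, zpow_comm, zpow_natCast,
        show z' = MulAut.conj c⁻¹ z by simp [hz'], ← map_pow, hk', map_one, one_zpow]
    refine (D.sylP_spec.1.2.1.to_le (D.R_le)).to_sup_of_normal_left' hzp ?_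
    refine Subgroup.zpowers_le.2 (Subgroup.mem_normalizer_iff.2 fun r => ?_)
    constructor
    · intro hr; rw [(hcomm r hr).eq, mul_inv_cancel_right]; exact hr
    · intro hr
      have e := (hcomm _ hr).eq
      have : r = z' * r * z'⁻¹ := mul_left_cancel (a := z') (by
        rw [e, inv_mul_cancel_right])
      rw [this]; exact hr
  have hVs : D.Stable V := by
    have : V ≤ V.comap D.σ.toMonoidHom := sup_le
      (fun r hr => Subgroup.mem_sup_left (D.R_stable r hr))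
      (Subgroup.zpowers_le.2 (show D.σ z' ∈ V by
        rw [hz's]; exact Subgroup.mem_sup_right (Subgroup.mem_zpowers _)))
    exact fun k hk => this hk
  obtain ⟨P, hP, hS, hs⟩ := D.exists_stable_syl (p := D.p) D.stable_top hVs le_top hVp
  obtain ⟨c1, hc1, hcP⟩ := D.syl_conj D.stable_top D.sylP_spec.1 D.sylP_spec.2 hS hs
  have hmapsX : Set.MapsTo (fun x => c1⁻¹ * x * c1) D.X D.X := fun x hx =>
    ⟨(hcP x).1 (hP (Subgroup.mem_sup_left (D.X_sub_R hx))), by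
      simp [map_mul, show D.σ c1 = c1 from hc1.2, hx.2, mul_assoc]⟩
  have hconj : ∀ x ∈ D.X, c1 * x * c1⁻¹ ∈ D.X := by
    intro x hx
    obtain ⟨y, hy, rfl⟩ := ((Set.Finite.injOn_iff_bijOn_of_mapsTo (Set.toFinite D.X) hmapsX).1
      (fun a _ b _ e => mul_left_cancel (mul_right_cancel e))).surjOn hx
    simpa [mul_assoc] using hy
  have hle : D.R ≤ (D.R).comap (MulAut.conj c1).toMonoidHom :=
    (Subgroup.closure_le _).2 fun x hx => D.X_sub_R (hconj x hx)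
  set d := c1⁻¹ * z' * c1 with hd
  have hdP : d ∈ D.sylP := (hcP z').1 (hP (Subgroup.mem_sup_right (Subgroup.mem_zpowers _)))
  have hdZ : d ∈ D.Zf := by
    have e : c1⁻¹ * c⁻¹ * z * (c1⁻¹ * c⁻¹)⁻¹ = d := by rw [hd, hz']; group
    exact e ▸ D.strongly_closed hu hz (by rw [e]; exact hdP)
  refine ⟨?_, hz's⟩
  have := hle hdZ.1
  simpa [hd, mul_assoc] using this

theorem not_normalize {V : Subgroup K} (hV : V ≤ D.sylP) (hVs : D.Stable V) {t g : K} (ht : t ∈ V)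
    (htσ : D.σ t = t⁻¹) (ht1 : t ≠ 1) (hg : D.σ g = g⁻¹) (hgo : orderOf g = D.q)
    (hn : g ∈ Subgroup.normalizer (V : Set K)) : False := by
  obtain ⟨x, hx, hxe⟩ := D.fusion (A := (V : Set K)) (g := g) hV
    (fun a ha => hV ((Subgroup.mem_normalizer_iff.1 hn a).1 ha))
  obtain ⟨s, hs, c, hc, rfl⟩ := D.decomp (D.stable_normalizer D.W_stable) hx
  have hc' : D.σ c = c := hc.2
  have h1 : ∀ a ∈ V, g⁻¹ * a * g = s⁻¹ * c * a * c⁻¹ * s := by
    intro a ha
    have := congrArg D.σ (hxe (D.σ a) (hVs a ha))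
    simpa [map_mul, hg, hs.2, hc', D.invol, mul_assoc] using this
  have h2 : ∀ a ∈ V, g * g * a * (g * g)⁻¹ = s * s * a * (s * s)⁻¹ := by
    intro a ha
    have ha' : g * a * g⁻¹ ∈ V := (Subgroup.mem_normalizer_iff.1 hn a).1 ha
    have h3 := h1 _ ha'
    have h5 := hxe _ ha'
    calc g * g * a * (g * g)⁻¹ = g * (g * a * g⁻¹) * g⁻¹ := by group
      _ = s * c * (g * a * g⁻¹) * (s * c)⁻¹ := h5
      _ = s * s * (s⁻¹ * c * (g * a * g⁻¹) * c⁻¹ * s) * (s * s)⁻¹ := by group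
      _ = s * s * (g⁻¹ * (g * a * g⁻¹) * g) * (s * s)⁻¹ := by rw [h3]
      _ = s * s * a * (s * s)⁻¹ := by group
  -- iterating: powers of the squares agree on `V`
  have h3 : ∀ k : ℕ, ∀ a ∈ V, (g * g) ^ k * a * ((g * g) ^ k)⁻¹ = (s * s) ^ k * a * ((s * s) ^ k)⁻¹ := by
    intro k
    induction k with
    | zero => simp
    | succ k ih =>
      intro a ha
      have hgg : g * g * a * (g * g)⁻¹ ∈ V :=
        (Subgroup.mem_normalizer_iff.1 (Subgroup.mul_mem _ hn hn) a).1 ha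
      calc (g * g) ^ (k + 1) * a * ((g * g) ^ (k + 1))⁻¹
          = (g * g) ^ k * (g * g * a * (g * g)⁻¹) * ((g * g) ^ k)⁻¹ := by
            rw [pow_succ]; group
        _ = (s * s) ^ k * (g * g * a * (g * g)⁻¹) * ((s * s) ^ k)⁻¹ := ih _ hgg
        _ = (s * s) ^ k * (s * s * a * (s * s)⁻¹) * ((s * s) ^ k)⁻¹ := by rw [h2 a ha]
        _ = (s * s) ^ (k + 1) * a * ((s * s) ^ (k + 1))⁻¹ := by rw [pow_succ]; group
  have hsX : s ∈ D.X := D.inv_N hu ▸ hs
  have hgp : (g * g) ^ D.q = 1 := by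
    rw [← pow_two, ← pow_mul, mul_comm, pow_mul, ← hgo, pow_orderOf_eq_one, one_pow]
  have hsp : (s * s) ^ D.p = 1 := by
    rw [← pow_two, ← pow_mul, mul_comm, pow_mul, D.pow_X hsX, one_pow]
  have hcq : Commute ((s * s) ^ D.q) t := by
    have := h3 D.q t ht
    rw [hgp, inv_one, one_mul, mul_one] at this
    exact (eq_mul_inv_iff_mul_eq.1 this).symm
  have hcs : Commute (s * s) t := by
    obtain ⟨m, hm⟩ := exists_pow_eq_self_of_coprime (x := s * s) (n := D.q)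
      (((Nat.coprime_primes D.hq D.hp).2 D.hpq.symm).coprime_dvd_right (orderOf_dvd_of_pow_eq_one hsp))
    exact hm ▸ hcq.pow_left m
  have hcg : Commute t (g * g) := by
    have h4 := h2 t ht
    rw [hcs.eq, mul_inv_cancel_right, mul_inv_eq_iff_eq_mul] at h4
    exact h4.symm
  have hcg' : Commute t g := D.commute_sq (x := g) (g := t) hcg
  have hinv : D.σ (t * g) = (t * g)⁻¹ := by rw [map_mul, htσ, hg, mul_inv_rev, hcg'.inv_inv.eq]
  have htX : t ∈ D.X := ⟨hV ht, htσ⟩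
  have hord : orderOf (t * g) = D.p * D.q := by
    rw [hcg'.orderOf_mul_eq_mul_orderOf_of_coprime, D.X_ord htX ht1, hgo]
    rw [D.X_ord htX ht1, hgo]
    exact (Nat.coprime_primes D.hp D.hq).2 D.hpq
  rcases D.ord_cases hinv with h | h | h
  · rw [h, orderOf_one] at hord
    exact absurd hord.symm (Nat.one_lt_mul_iff.2 ⟨D.hp.pos, D.hq.pos, Or.inl D.hp.one_lt⟩).ne'
  · rw [h] at hord
    exact D.hq.one_lt.ne' (Nat.eq_of_mul_eq_mul_left D.hp.pos (by rw [← hord, mul_one]))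
  · rw [h] at hord
    exact D.hp.one_lt.ne' (Nat.eq_of_mul_eq_mul_right D.hq.pos (by rw [← hord, one_mul]))

end TwoPrime

end CfsgLib.RankThreeInv
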