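import Cfsg.Agent.RankThreeInv.Pure
import Cfsg.Agent.Spor3T.OddClass

/-!
Pairwise non-commuting members closed under their own conjugations form a set of prime power size.
-/

set_option autoImplicit false
set_option linter.unusedSectionVars false
set_option linter.style.haveILetI false

namespace CfsgLib.RankThreeInv

universe u

theorem mersenne_not_power {p k r : ℕ} (hp : Odd p) (hp1 : 1 < p) (hk : 0 < k) (h : p ^ k + 1 = 2 ^ r) :
    k = 1 := by
  have hr : 2 ≤ r := by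
    by_contra h'
    have h1 : 2 ^ r ≤ 2 ^ 1 := Nat.pow_le_pow_right two_pos (by omega)
    have h2 : 1 < p ^ k := Nat.one_lt_pow hk.ne' hp1
    omega
  rcases Nat.even_or_odd k with ⟨l, rfl⟩ | ⟨l, rfl⟩
  · exfalso
    obtain ⟨s, hs⟩ := hp.pow (n := l)
    obtain ⟨e, he⟩ := Nat.pow_dvd_pow 2 hr
    rw [pow_add, hs, he, show (2 * s + 1) * (2 * s + 1) = 4 * (s * s + s) + 1 by ring] at h
    omega
  · by_contra hl
    have hsum : ((p : ℤ) + 1) * ∑ i ∈ Finset.range (2 * l + 1), (-(p : ℤ)) ^ i = (p : ℤ) ^ (2 * l + 1) + 1 := by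
      have := geom_sum_mul_neg (-(p : ℤ)) (2 * l + 1)
      rw [Odd.neg_pow ⟨l, rfl⟩] at this
      linear_combination this
    set S := ∑ i ∈ Finset.range (2 * l + 1), (-(p : ℤ)) ^ i with hS
    have hdvd : S ∣ 2 ^ r := ⟨(p : ℤ) + 1, by
      rw [mul_comm S, hsum]
      exact_mod_cast h.symm⟩
    have hSnat := Int.natAbs_dvd_natAbs.2 hdvd
    rw [Int.natAbs_pow] at hSnat
    obtain ⟨i, -, hi⟩ := (Nat.dvd_prime_pow Nat.prime_two).1 hSnat
    have hodd : Odd S := by
      rw [hS]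
      clear hS hsum hdvd hSnat hi hl h hk
      have hx : Odd (-(p : ℤ)) := ((Int.odd_coe_nat p).2 hp).neg
      induction l with
      | zero => simp
      | succ l ih =>
        rw [show 2 * (l + 1) + 1 = 2 * l + 1 + 1 + 1 by ring, Finset.sum_range_succ,
          Finset.sum_range_succ, add_assoc]
        exact (ih).add_even (hx.pow.add_odd hx.pow)
    have hi0 : i = 0 := by
      by_contra h'
      have := Int.natAbs_odd.2 hodd
      rw [hi] at this
      exact (Nat.not_odd_iff_even.2 ((Nat.even_pow' h').2 even_two)) this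
    rw [hi0, pow_zero] at hi
    have hp0 : (1 : ℤ) < p := by exact_mod_cast hp1
    have h3 : (p : ℤ) + 1 < (p : ℤ) ^ (2 * l + 1) + 1 := by
      have : p ^ 1 < p ^ (2 * l + 1) := Nat.pow_lt_pow_right hp1 (by omega)
      rw [pow_one] at this
      have h' : (p : ℤ) < (p : ℤ) ^ (2 * l + 1) := by exact_mod_cast this
      linarith
    rcases Int.natAbs_eq_iff.1 hi with e | e
    · rw [e, Nat.cast_one, mul_one] at hsum; linarith
    · rw [e, Nat.cast_one] at hsum; linarith

/-- A `p`-element fixing a point of an invariant set of size `p` fixes all of it. -/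
theorem fix_all {G : Type u} [Group G] [Finite G] {p : ℕ} (hp : p.Prime) {g : G} {S : Set G}
    (hcard : Nat.card S = p) (hS : ∀ s ∈ S, g * s * g⁻¹ ∈ S) (hg : ∃ k, g ^ p ^ k = 1) {s : G}
    (hs : s ∈ S) (hfix : Commute g s) : ∀ t ∈ S, Commute g t := by
  classical
  haveI := Fact.mk hp
  intro t ht
  let f : Equiv.Perm S := (Equiv.ofBijective (fun x : S => (⟨g * x * g⁻¹, hS x x.2⟩ : S))
    (Finite.injective_iff_bijective.1 fun a b h => Subtype.ext
      (mul_left_cancel (mul_right_cancel (congrArg Subtype.val h)))))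
  obtain ⟨k, hk⟩ := hg
  have happ : ∀ (j : ℕ) (x : S), (((f ^ j) x : S) : G) = g ^ j * x * (g ^ j)⁻¹ := by
    intro j
    induction j with
    | zero => intro x; simp
    | succ j ih =>
      intro x
      rw [pow_succ', Equiv.Perm.mul_apply]
      show g * ((f ^ j) x : S) * g⁻¹ = _
      rw [ih, pow_succ', mul_inv_rev]
      simp only [mul_assoc]
  have hfp : f ^ p ^ k = 1 := by
    ext x
    rw [happ, hk]
    simp
  have hP : IsPGroup p (Subgroup.zpowers f) := by
    obtain ⟨i, -, hi⟩ := (Nat.dvd_prime_pow hp).1 (orderOf_dvd_of_pow_eq_one hfp)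
    exact IsPGroup.of_card (n := i) (by rw [Nat.card_zpowers, hi])
  have hsfix : (⟨s, hs⟩ : S) ∈ MulAction.fixedPoints (Subgroup.zpowers f) S := by
    intro c
    obtain ⟨j, hj⟩ := Subgroup.mem_zpowers_iff.1 c.2
    have h1 : f ⟨s, hs⟩ = ⟨s, hs⟩ := Subtype.ext (by
      show g * s * g⁻¹ = s
      rw [hfix.eq, mul_inv_cancel_right])
    show (c : Equiv.Perm S) ⟨s, hs⟩ = ⟨s, hs⟩
    rw [← hj]
    exact Function.IsFixedPt.perm_zpow h1 j
  have hall : MulAction.fixedPoints (Subgroup.zpowers f) S = Set.univ := by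
    refine Set.eq_of_subset_of_ncard_le (Set.subset_univ _) ?_ (Set.toFinite _)
    rw [Set.ncard_univ, hcard, ← Nat.card_coe_set_eq]
    have hmod := hP.card_modEq_card_fixedPoints S
    rw [hcard] at hmod
    have h0 : 0 < Nat.card (MulAction.fixedPoints (Subgroup.zpowers f) S) :=
      Nat.card_pos_iff.2 ⟨⟨⟨_, hsfix⟩⟩, inferInstance⟩
    exact Nat.le_of_dvd h0 (Nat.modEq_zero_iff_dvd.1 (hmod.symm.trans (Nat.modEq_zero_iff_dvd.2 dvd_rfl)))
  have h1 : (⟨t, ht⟩ : S) ∈ MulAction.fixedPoints (Subgroup.zpowers f) S := hall ▸ Set.mem_univ _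
  have h2 := h1 ⟨f, Subgroup.mem_zpowers f⟩
  have h3 : g * t * g⁻¹ = t := congrArg Subtype.val h2
  exact mul_inv_eq_iff_eq_mul.1 h3

namespace Pure

variable {G : Type u} [Group G] [Finite G] {p : ℕ} {D : Set G}

/-- The size of a pairwise non-commuting set closed under its own conjugations. -/
theorem card_pow_of_nc (P : Pure p D) {I : Set G} (hID : I ⊆ D) (hne : I.Nonempty)
    (hnc : ∀ a ∈ I, ∀ b ∈ I, a ≠ b → ¬ Commute a b) (hcl : ∀ a ∈ I, ∀ b ∈ I, a * b * a ∈ I) :
    ∃ k, Nat.card I = p ^ k := by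
  classical
  haveI := Fact.mk P.prime
  obtain ⟨a, ha⟩ := hne
  by_cases h1 : ∀ b ∈ I, b = a
  · exact ⟨0, by rw [pow_zero, Nat.card_eq_one_iff_unique]; exact ⟨⟨fun x y => Subtype.ext ((h1 _ x.2).trans (h1 _ y.2).symm)⟩, ⟨⟨a, ha⟩⟩⟩⟩
  push Not at h1
  set H := Subgroup.closure I with hH
  have hIH : ∀ {b}, b ∈ I → b ∈ H := fun hb => Subgroup.subset_closure hb
  let E : Set H := {h | (h : G) ∈ I}
  have hstab : ∀ g ∈ H, ∀ b, b ∈ I ↔ g * b * g⁻¹ ∈ I := by
    intro g hg
    induction hg using Subgroup.closure_induction with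
    | mem c hc =>
      intro b
      rw [P.conj_self (hID hc)]
      refine ⟨hcl c hc b, fun h => ?_⟩
      have := hcl c hc _ h
      simpa only [mul_assoc, P.cancel (hID hc), P.sq c (hID hc), mul_one] using this
    | one => intro b; simp
    | mul x y _ _ hx hy => intro b; rw [hy b, hx]; simp [mul_assoc]
    | inv x _ hx => intro b; rw [hx (x⁻¹ * b * x⁻¹⁻¹)]; simp [mul_assoc]
  have hinv : ∀ d ∈ E, orderOf d = 2 := by
    intro d hd
    rw [← Subgroup.orderOf_coe]
    refine orderOf_eq_prime (by rw [pow_two, P.sq _ (hID hd)]) fun e => ?_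
    obtain ⟨b, hb, hba⟩ := h1
    by_cases hbd : b = (d : G)
    · subst hbd
      exact hnc _ ha _ hd (Ne.symm hba) (by rw [e]; exact Commute.one_right _)
    · exact hnc _ hd _ hb (Ne.symm hbd) (by rw [e]; exact Commute.one_left _)
  have hswap : ∀ b ∈ I, ∃ i : ℕ, (b * a) ^ i * a * ((b * a) ^ i)⁻¹ = b := by
    intro b hb
    by_cases hba : b = a
    · exact ⟨0, by simp [hba]⟩
    obtain ⟨m, hm⟩ := P.odd
    refine ⟨m + 1, ?_⟩
    have hinvr : a * (b * a) * a⁻¹ = (b * a)⁻¹ := by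
      rw [P.conj_self (hID ha)]; exact P.conj_mul_right (hID hb) (hID ha)
    have h2 : a * ((b * a) ^ (m + 1))⁻¹ = (b * a) ^ (m + 1) * a := by
      have h3 : a * (b * a) ^ (m + 1) * a⁻¹ = ((b * a) ^ (m + 1))⁻¹ := by
        rw [← conj_pow, hinvr, inv_pow]
      rw [← h3]; simp only [mul_assoc]
      rw [P.inv_eq (hID ha), P.cancel (hID ha)]
    rw [mul_assoc, h2, ← mul_assoc, ← pow_add, show m + 1 + (m + 1) = p + 1 by omega, pow_succ,
      P.ord b (hID hb) a (hID ha) (hnc b hb a ha hba), one_mul, mul_assoc, P.sq a (hID ha), mul_one]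
  have hmem : ∀ b, (hb : b ∈ I) → (⟨b * a, H.mul_mem (hIH hb) (hIH ha)⟩ : H) ∈ commutator H := by
    intro b hb
    obtain ⟨i, hi⟩ := hswap b hb
    let g : H := ⟨(b * a) ^ i, H.pow_mem (H.mul_mem (hIH hb) (hIH ha)) i⟩
    have e : (⟨b * a, H.mul_mem (hIH hb) (hIH ha)⟩ : H) = g * ⟨a, hIH ha⟩ * g⁻¹ * (⟨a, hIH ha⟩ : H)⁻¹ := by
      refine Subtype.ext ?_
      show b * a = (b * a) ^ i * a * ((b * a) ^ i)⁻¹ * a⁻¹
      rw [hi, P.inv_eq (hID ha)]
    rw [e]
    exact Subgroup.commutator_mem_commutator (Subgroup.mem_top g) (Subgroup.mem_top _)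
  have hconj : ∃ d ∈ E, E = conjugatesOf d := by
    refine ⟨⟨a, hIH ha⟩, ha, Set.ext fun b => ⟨fun hb => ?_, fun hb => ?_⟩⟩
    · obtain ⟨i, hi⟩ := hswap b hb
      exact isConj_iff.2 ⟨⟨(b * a) ^ i, H.pow_mem (H.mul_mem (hIH hb) (hIH ha)) i⟩, Subtype.ext hi⟩
    · obtain ⟨c, rfl⟩ := isConj_iff.1 hb
      exact (hstab c c.2 a).1 ha
  have hgen : Subgroup.closure E = ⊤ := Subgroup.closure_closure_coe_preimage
  have hprod : ∀ x ∈ E, ∀ y ∈ E, x ≠ y → ∃ k : ℕ, orderOf (x * y) = p ^ k := fun x hx y hy hxy =>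
    ⟨1, by
      rw [pow_one, ← Subgroup.orderOf_coe]
      exact P.orderOf_mul (hID hx) (hID hy) (hnc _ hx _ hy fun e => hxy (Subtype.ext e))⟩
  have hC : IsPGroup p (commutator H) :=
    CfsgLib.ThreeT.isPGroup_commutator_of_prime_pow_products p P.prime
      (by have := P.five; omega) hinv hconj hgen hprod
  let X := {h : H // h ∈ E}
  letI : MulAction (commutator H) X :=
    { smul := fun g x => ⟨(g : H) * x * (g : H)⁻¹, (hstab _ (g : H).2 _).1 x.2⟩
      one_smul := fun x => Subtype.ext (by show ((1 : commutator H) : H) * x * ((1 : commutator H) : H)⁻¹ = x; simp)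
      mul_smul := fun g h x => Subtype.ext (by
        show ((g * h : commutator H) : H) * x * ((g * h : commutator H) : H)⁻¹ = (g : H) * ((h : H) * x * (h : H)⁻¹) * (g : H)⁻¹
        simp [mul_assoc]) }
  obtain ⟨k, hk⟩ := hC.card_orbit (⟨⟨a, hIH ha⟩, ha⟩ : X)
  refine ⟨k, ?_⟩
  have horb : MulAction.orbit (commutator H) (⟨⟨a, hIH ha⟩, ha⟩ : X) = Set.univ := by
    refine Set.eq_univ_of_forall fun b => ?_
    obtain ⟨i, hi⟩ := hswap _ b.2
    exact ⟨⟨_, (commutator H).pow_mem (hmem _ b.2) i⟩, Subtype.ext (Subtype.ext hi)⟩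
  rw [horb, Nat.card_congr (Equiv.Set.univ X)] at hk
  rw [← hk]
  exact Nat.card_congr
    { toFun := fun b => ⟨⟨b, hIH b.2⟩, b.2⟩
      invFun := fun h => ⟨((h : H) : G), h.2⟩
      left_inv := fun _ => rfl
      right_inv := fun _ => rfl }

end Pure

end CfsgLib.RankThreeInv
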