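import Cfsg.Agent.RankThreeInv.CritBlocks

/-!
There is no configuration at all.
-/

set_option autoImplicit false
set_option linter.unusedSectionVars false
set_option linter.style.haveILetI false

namespace CfsgLib.RankThreeInv

universe u

theorem no_cfg_aux : ∀ (n : ℕ) (G : Type u) [Group G] [Finite G], Nat.card G = n → ∀ (p : ℕ) (D : Set G),
    Pure p D → ∀ x z w, ¬ Cfg D x z w := by
  intro n
  induction n using Nat.strong_induction_on with
  | _ n ih =>
  intro G _ _ hn p D P x z w hcfg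
  subst hn
  obtain ⟨hx, hz, hw, hc, hwx, hwz, hne⟩ := id hcfg
  set E := conjugatesOf x with hE
  have hED : E ⊆ D := fun d hd => by
    obtain ⟨g, rfl⟩ := isConj_iff.1 hd
    exact P.conj x hx g
  have hcjE : ∀ d ∈ E, ∀ g : G, g * d * g⁻¹ ∈ E := fun d hd g => hd.trans (isConj_iff.2 ⟨g, rfl⟩)
  have PE : Pure p E := ⟨P.prime, P.five, fun d hd => P.sq d (hED hd), hcjE,
    fun a ha b hb => P.ord a (hED ha) b (hED hb)⟩
  have swapE : ∀ {a b : G}, a ∈ E → b ∈ D → ¬ Commute a b → b ∈ E := fun {a b} ha hb hab => by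
    obtain ⟨j, hj, e⟩ := P.exists_swap (hED ha) hb hab
    rw [← e, ← P.conj_self hj]
    exact hcjE a ha j
  have hxE : x ∈ E := mem_conjugatesOf_self
  have hwE : w ∈ E := swapE hxE hw fun h => hwx h.symm
  have hzE : z ∈ E := swapE hwE hz hwz
  have hx1 : x ≠ 1 := fun e => hwx (e ▸ Commute.one_right w)
  have hgen : ∀ a b c, Cfg E a b c → ∀ H : Subgroup G, a ∈ H → b ∈ H → c ∈ H → H = ⊤ := by
    intro a b c h H haH hbH hcH
    by_contra hH
    have hlt : Nat.card H < Nat.card G := lt_of_le_of_ne (Subgroup.card_le_card_group H)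
      fun e => hH (Subgroup.eq_top_of_card_eq H e)
    obtain ⟨ha, hb, hc', hab, hca, hcb, hne'⟩ := h
    have cm : ∀ {s t : H}, Commute s t ↔ Commute (s : G) t := fun {s t} =>
      ⟨fun h => h.map H.subtype, fun h => Subtype.ext h.eq⟩
    refine ih _ hlt H rfl p {d : H | (d : G) ∈ E} ⟨P.prime, P.five, fun d hd => Subtype.ext (PE.sq _ hd),
      fun d hd g => hcjE _ hd g, fun s hs t ht hst => Subtype.ext (PE.ord _ hs _ ht fun h => hst (cm.2 h))⟩
      ⟨a, haH⟩ ⟨b, hbH⟩ ⟨c, hcH⟩ ⟨ha, hb, hc', cm.2 hab, fun h => hca (cm.1 h), fun h => hcb (cm.1 h),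
        fun h => hne' (cm.1 h)⟩
  have hquot : ∀ N : Subgroup G, N.Normal → N ≠ ⊥ → ∃ a ∈ E, ∃ b ∈ E, ¬ Commute a b ∧ a * b ∈ N := by
    intro N hN hN1
    by_contra hcon
    push Not at hcon
    let π := QuotientGroup.mk' N
    have hncπ : ∀ {a b : G}, a ∈ E → b ∈ E → ¬ Commute a b → ¬ Commute (π a) (π b) := by
      intro a b ha hb hab h
      have hsq : (a * b) ^ 2 ∈ N := by
        refine (QuotientGroup.eq_one_iff _).1 ?_
        show π ((a * b) ^ 2) = 1
        have e1 : ∀ d ∈ E, π d * π d = 1 := fun d hd => by rw [← map_mul, PE.sq d hd, map_one]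
        rw [map_pow, map_mul, h.mul_pow, pow_two, pow_two, e1 a ha, e1 b hb, one_mul]
      obtain ⟨m, hm⟩ := P.odd
      refine hcon a ha b hb hab ?_
      have := N.pow_mem hsq (m + 1)
      rwa [← pow_mul, show 2 * (m + 1) = p + 1 by omega, pow_succ, PE.ord a ha b hb hab, one_mul] at this
    have hlt : Nat.card (G ⧸ N) < Nat.card G := by
      rw [N.card_eq_card_quotient_mul_card_subgroup]
      exact lt_mul_of_one_lt_right Nat.card_pos ((N.one_lt_card_iff_ne_bot).2 hN1)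
    have hu : x * z * w * (x * z)⁻¹ ∈ E := hcjE w hwE _
    have h4 := hncπ hu hwE hne
    rw [map_mul, map_inv, map_mul, map_mul] at h4
    refine ih _ hlt (G ⧸ N) rfl p (π '' E) ⟨P.prime, P.five, ?_, ?_, ?_⟩ (π x) (π z) (π w)
      ⟨⟨x, hxE, rfl⟩, ⟨z, hzE, rfl⟩, ⟨w, hwE, rfl⟩, hc.map π, hncπ hwE hxE hwx, hncπ hwE hzE hwz, h4⟩
    · rintro _ ⟨d, hd, rfl⟩
      rw [← map_mul, PE.sq d hd, map_one]
    · rintro _ ⟨d, hd, rfl⟩ g
      obtain ⟨g, rfl⟩ := QuotientGroup.mk'_surjective N g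
      exact ⟨_, hcjE d hd g, by simp [π]⟩
    · rintro _ ⟨a, ha, rfl⟩ _ ⟨b, hb, rfl⟩ hab
      rw [← map_mul, ← map_pow, PE.ord a ha b hb fun h => hab (h.map π), map_one]
  refine (Crit.false (p := p) (E := E) ⟨PE, ?_, ?_, ⟨x, z, w, hxE, hzE, hwE, hc, hwx, hwz, hne⟩, hgen, hquot⟩)
  · exact fun h => hx1 (isConj_one_left.1 h)
  · exact fun a ha b hb => isConj_iff.1 (IsConj.trans (IsConj.symm ha) hb)

/-- Commuting pairs transport non-commuting members into commuting ones. -/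
theorem Pure.R {G : Type u} [Group G] [Finite G] {p : ℕ} {D : Set G} (P : Pure p D) :
    ∀ x ∈ D, ∀ z ∈ D, ∀ w ∈ D, Commute x z → ¬ Commute w x → ¬ Commute w z →
      Commute (x * z * w * (x * z)⁻¹) w :=
  fun x hx z hz w hw hc h1 h2 => not_not.1 fun h3 =>
    no_cfg_aux _ G rfl p D P x z w ⟨hx, hz, hw, hc, h1, h2, h3⟩

end CfsgLib.RankThreeInv
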