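import Mathlib

/-!
The arithmetic contradiction behind the two-prime case of the rank three involution theorem.
-/

set_option autoImplicit false

namespace CfsgLib.RankThreeInv

theorem sq_dvd_prime_pow {p a P : ℕ} (hp : p.Prime) (hP : P ∣ p ^ a) (hlt : P * P < p ^ a) :
    P * P ∣ p ^ a := by
  obtain ⟨i, -, rfl⟩ := (Nat.dvd_prime_pow hp).1 hP
  rw [← pow_add] at hlt ⊢
  exact pow_dvd_pow p ((Nat.pow_lt_pow_iff_right hp.one_lt).1 hlt).le

/-- There are no admissible parameters in the two-prime rank three configuration. -/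
theorem no_parameters {p q a b α β d u v n m : ℕ} (hp : p.Prime) (hq : q.Prime) (hpq : p ≠ q)
    (hn : n = p ^ a) (hm : m = q ^ b) (hnd : n = 1 + α * d) (hmd : m = 1 + β * d)
    (hlt : β < α) (hβ2 : n ≤ β * β) (hpβ : p ∣ β) (hud : u + v = d) (hu : 0 < u) (hv : 0 < v)
    (htm : (1 + β * u) ∣ m * (1 + α * v)) (hTn : (1 + α * v) ∣ n * (1 + β * u))
    (hf : ∃ f : ℕ, f * (1 + β * u + α * v) = (1 + β * u) * n * β * d) : False := by
  have hβ : 0 < β := by
    rcases Nat.eq_zero_or_pos β with h | h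
    · subst h; omega
    · exact h
  have hdβ : d < β := by
    by_contra h
    push Not at h
    have h1 : α * β ≤ α * d := Nat.mul_le_mul_left α h
    have h2 : β * β ≤ α * β := Nat.mul_le_mul_right β hlt.le
    omega
  obtain ⟨Q, hQ'⟩ := Nat.gcd_dvd_left (1 + β * u) (1 + α * v)
  obtain ⟨P, hP'⟩ := Nat.gcd_dvd_right (1 + β * u) (1 + α * v)
  set G := Nat.gcd (1 + β * u) (1 + α * v)
  have hG : 0 < G := Nat.gcd_pos_of_pos_left _ (by omega)
  have hPQ : P.Coprime Q := by
    have h1 : (1 + α * v) / G = P := by rw [hP', Nat.mul_div_cancel_left _ hG]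
    have h2 : (1 + β * u) / G = Q := by rw [hQ', Nat.mul_div_cancel_left _ hG]
    rw [← h1, ← h2]
    exact (Nat.coprime_div_gcd_div_gcd hG).symm
  have hQm : Q ∣ m := by
    rw [hP', hQ'] at htm
    have h1 : G * Q ∣ G * (m * P) := by rw [mul_left_comm]; exact htm
    exact hPQ.symm.dvd_of_dvd_mul_right ((Nat.mul_dvd_mul_iff_left hG).1 h1)
  have hPn : P ∣ n := by
    rw [hP', hQ'] at hTn
    have h1 : G * P ∣ G * (n * Q) := by rw [mul_left_comm]; exact hTn
    exact hPQ.dvd_of_dvd_mul_right ((Nat.mul_dvd_mul_iff_left hG).1 h1)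
  have hαn : n.Coprime α := by
    rw [hnd, Nat.coprime_add_mul_left_left]; exact Nat.coprime_one_left α
  have hβm : m.Coprime β := by
    rw [hmd, Nat.coprime_add_mul_left_left]; exact Nat.coprime_one_left β
  have hPu : P ∣ u := by
    have h1 : P ∣ α * u := by
      have h2 : P ∣ (1 + α * v) + α * u := by
        have : (1 + α * v) + α * u = n := by rw [hnd, ← hud]; ring
        rw [this]; exact hPn
      exact (Nat.dvd_add_right (hP' ▸ dvd_mul_left P G)).1 h2
    exact (hαn.coprime_dvd_left hPn).dvd_of_dvd_mul_left h1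
  have hQv : Q ∣ v := by
    have h1 : Q ∣ β * v := by
      have h2 : Q ∣ (1 + β * u) + β * v := by
        have : (1 + β * u) + β * v = m := by rw [hmd, ← hud]; ring
        rw [this]; exact hQm
      exact (Nat.dvd_add_right (hQ' ▸ dvd_mul_left Q G)).1 h2
    exact (hβm.coprime_dvd_left hQm).dvd_of_dvd_mul_left h1
  have hPd : P < d := by have := Nat.le_of_dvd hu hPu; omega
  have hQd : Q < d := by have := Nat.le_of_dvd hv hQv; omega
  have hPPn : P * P < n := by
    have h1 : P * P ≤ d * d := Nat.mul_le_mul hPd.le hPd.le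
    have h2 : d * d ≤ α * d := Nat.mul_le_mul_right d (by omega)
    omega
  have hQQm : Q * Q < m := by
    have h1 : Q * Q ≤ d * d := Nat.mul_le_mul hQd.le hQd.le
    have h2 : d * d ≤ β * d := Nat.mul_le_mul_right d hdβ.le
    omega
  have hP2 : P * P ∣ n := by rw [hn] at hPn hPPn ⊢; exact sq_dvd_prime_pow hp hPn hPPn
  have hQ2 : Q * Q ∣ m := by rw [hm] at hQm hQQm ⊢; exact sq_dvd_prime_pow hq hQm hQQm
  obtain ⟨U, rfl⟩ := hPu
  obtain ⟨V, rfl⟩ := hQv
  have hU : 0 < U := Nat.pos_of_mul_pos_left hu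
  have hV : 0 < V := Nat.pos_of_mul_pos_left hv
  have hP : 0 < P := Nat.pos_of_mul_pos_right hu
  have hQ : 0 < Q := Nat.pos_of_mul_pos_right hv
  have hkey : Q * (G + α * V) = P * (G + β * U) := by linarith
  obtain ⟨z, hz⟩ : P ∣ G + α * V := hPQ.dvd_of_dvd_mul_left ⟨_, hkey⟩
  have hz' : G + β * U = Q * z := by
    refine Nat.eq_of_mul_eq_mul_left hP ?_
    rw [← hkey, hz]; ring
  have hzQ : z * (Q * Q) = 1 + β * U * (P + Q) := by
    calc z * (Q * Q) = Q * (Q * z) := by ring
      _ = Q * (G + β * U) := by rw [hz']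
      _ = G * Q + Q * (β * U) := by ring
      _ = (1 + β * (P * U)) + Q * (β * U) := by rw [← hQ']
      _ = 1 + β * U * (P + Q) := by ring
  have hzP : z * (P * P) = 1 + α * V * (P + Q) := by
    calc z * (P * P) = P * (P * z) := by ring
      _ = P * (G + α * V) := by rw [hz]
      _ = G * P + P * (α * V) := by ring
      _ = (1 + α * (Q * V)) + P * (α * V) := by rw [← hP']
      _ = 1 + α * V * (P + Q) := by ring
  have hzβ : z.Coprime β := by
    refine Nat.coprime_of_dvd' fun k _ hkz hkβ => ?_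
    have h1 : k ∣ 1 + β * U * (P + Q) := hzQ ▸ hkz.mul_right _
    exact (Nat.dvd_add_left ((hkβ.mul_right U).mul_right (P + Q))).1 h1
  have hzn : z.Coprime n := hn ▸ (hzβ.coprime_dvd_right hpβ).pow_right a
  have hzG : z.Coprime G := by
    refine Nat.coprime_of_dvd' fun k _ hkz hkG => ?_
    have h1 : P * Q * z + 1 = G * P + G * Q := by
      calc P * Q * z + 1 = P * (Q * z) + 1 := by ring
        _ = P * (G + β * U) + 1 := by rw [hz']
        _ = G * P + (1 + β * (P * U)) := by ring
        _ = G * P + G * Q := by rw [← hQ']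
    have h2 : k ∣ P * Q * z + 1 := h1 ▸ dvd_add (hkG.mul_right P) (hkG.mul_right Q)
    exact (Nat.dvd_add_right (hkz.mul_left (P * Q))).1 h2
  have hzd : z ∣ d := by
    obtain ⟨f, hf⟩ := hf
    have h1 : f * P * z * Q = G * n * β * d * Q := by
      calc f * P * z * Q = f * (P * (Q * z)) := by ring
        _ = f * (P * (G + β * U)) := by rw [hz']
        _ = f * (G * P + β * (P * U)) := by ring
        _ = f * ((1 + α * (Q * V)) + β * (P * U)) := by rw [← hP']
        _ = f * (1 + β * (P * U) + α * (Q * V)) := by ring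
        _ = (1 + β * (P * U)) * n * β * d := hf
        _ = G * Q * n * β * d := by rw [hQ']
        _ = G * n * β * d * Q := by ring
    have h2 : z ∣ G * n * β * d := Dvd.intro_left _ (Nat.eq_of_mul_eq_mul_right hQ h1)
    exact ((hzG.mul_right hzn).mul_right hzβ).dvd_of_dvd_mul_left h2
  have hzd' : z ≤ d := Nat.le_of_dvd (by omega) hzd
  have dvd_sub_UV : (P : ℤ) ∣ (V : ℤ) - U := by
    obtain ⟨c, hc⟩ := hP2
    have e1 : (n : ℤ) * V * (P + Q) =
        P * (V + z * P ^ 2 * U + z * P * Q * V - U) := by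
      have h1 : (z : ℤ) * (P * P) = 1 + α * V * (P + Q) := by exact_mod_cast hzP
      have h2 : (n : ℤ) = 1 + α * d := by exact_mod_cast hnd
      have h3 : (P : ℤ) * U + Q * V = d := by exact_mod_cast hud
      linear_combination ((V : ℤ) * (P + Q)) * h2 - (α : ℤ) * V * (P + Q) * h3
        - ((P : ℤ) * U + Q * V) * h1
    have e2 : (P : ℤ) * (c * V * (P + Q)) = V + z * P ^ 2 * U + z * P * Q * V - U := by
      have hn' : (n : ℤ) = P * P * c := by exact_mod_cast hc
      refine mul_left_cancel₀ (show (P : ℤ) ≠ 0 by exact_mod_cast hP.ne') ?_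
      rw [← e1, hn']; ring
    exact ⟨c * V * (P + Q) - z * P * U - z * Q * V, by linear_combination -e2⟩
  have dvd_sub_VU : (Q : ℤ) ∣ (U : ℤ) - V := by
    obtain ⟨c, hc⟩ := hQ2
    have e1 : (m : ℤ) * U * (P + Q) =
        Q * (U + z * Q ^ 2 * V + z * P * Q * U - V) := by
      have h1 : (z : ℤ) * (Q * Q) = 1 + β * U * (P + Q) := by exact_mod_cast hzQ
      have h2 : (m : ℤ) = 1 + β * d := by exact_mod_cast hmd
      have h3 : (P : ℤ) * U + Q * V = d := by exact_mod_cast hud
      linear_combination ((U : ℤ) * (P + Q)) * h2 - (β : ℤ) * U * (P + Q) * h3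
        - ((P : ℤ) * U + Q * V) * h1
    have e2 : (Q : ℤ) * (c * U * (P + Q)) = U + z * Q ^ 2 * V + z * P * Q * U - V := by
      have hn' : (m : ℤ) = Q * Q * c := by exact_mod_cast hc
      refine mul_left_cancel₀ (show (Q : ℤ) ≠ 0 by exact_mod_cast hQ.ne') ?_
      rw [← e1, hn']; ring
    exact ⟨c * U * (P + Q) - z * Q * V - z * P * U, by linear_combination -e2⟩
  rcases lt_trichotomy U V with hlt' | heq | hlt'
  · -- `V` is large
    have hdvd : P * Q ∣ V - U := by
      refine hPQ.mul_dvd_of_dvd_of_dvd ?_ ?_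
      · rw [← Int.natCast_dvd_natCast, Nat.cast_sub hlt'.le]
        exact dvd_sub_UV
      · rw [← Int.natCast_dvd_natCast, Nat.cast_sub hlt'.le, ← dvd_neg, neg_sub]
        exact dvd_sub_VU
    have h1 := Nat.le_of_dvd (by omega) hdvd
    have h2 : α * (P * Q) < α * V := Nat.mul_lt_mul_of_pos_left (by omega) (by omega)
    have h3 : P * z ≤ P * d := Nat.mul_le_mul_left P hzd'
    have h4 : P * d ≤ P * α := Nat.mul_le_mul_left P (by omega)
    have h5 : α * P ≤ α * (P * Q) := Nat.mul_le_mul_left α (Nat.le_mul_of_pos_right P hQ)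
    have h6 : P * α = α * P := mul_comm _ _
    omega
  · subst heq
    have h1 : z * (P * P) = n := by rw [hzP, hnd, ← hud]; ring
    have h2 : z = 1 := hzn.eq_one_of_dvd (Dvd.intro _ h1)
    rw [h2, one_mul] at h1
    omega
  · have hdvd : P * Q ∣ U - V := by
      refine hPQ.mul_dvd_of_dvd_of_dvd ?_ ?_
      · rw [← Int.natCast_dvd_natCast, Nat.cast_sub hlt'.le, ← dvd_neg, neg_sub]
        exact dvd_sub_UV
      · rw [← Int.natCast_dvd_natCast, Nat.cast_sub hlt'.le]
        exact dvd_sub_VU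
    have h1 := Nat.le_of_dvd (by omega) hdvd
    have h2 : β * (P * Q) < β * U := Nat.mul_lt_mul_of_pos_left (by omega) hβ
    have h3 : Q * z ≤ Q * d := Nat.mul_le_mul_left Q hzd'
    have h4 : Q * d ≤ Q * β := Nat.mul_le_mul_left Q hdβ.le
    have h5 : β * Q ≤ β * (P * Q) := Nat.mul_le_mul_left β (Nat.le_mul_of_pos_left Q hP)
    have h6 : Q * β = β * Q := mul_comm _ _
    omega

end CfsgLib.RankThreeInv
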