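import Cfsg.Agent.RankThreeInv.Fusion

/-!
When the first clique is the larger one, a high power of its prime divides `m - 1`.
-/

set_option autoImplicit false
set_option linter.unusedSectionVars false
set_option linter.style.haveILetI false

namespace CfsgLib.RankThreeInv

open CfsgLib.Recog

universe u

theorem mem_normalizer_of_conj {K : Type u} [Group K] [Finite K] {V : Subgroup K} {g : K}
    (h : ∀ a ∈ V, g * a * g⁻¹ ∈ V) : g ∈ Subgroup.normalizer (V : Set K) := by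
  rw [Subgroup.mem_normalizer_iff]
  refine fun a => ⟨h a, fun ha => ?_⟩
  obtain ⟨b, hb, e⟩ := ((Set.Finite.injOn_iff_bijOn_of_mapsTo (Set.toFinite (V : Set K))
    (f := fun a => g * a * g⁻¹) h).1 (fun a _ b _ e => mul_left_cancel (mul_right_cancel e))).surjOn ha
  exact (mul_left_cancel (mul_right_cancel e)) ▸ hb

theorem relIndex_ne_zero' {K : Type u} [Group K] [Finite K] (H L : Subgroup K) : H.relIndex L ≠ 0 :=
  Subgroup.index_ne_zero_of_finite

namespace TwoPrime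

variable {K : Type u} [Group K] [Finite K] (D : TwoPrime K)
include D

/-- The conjugate of the base clique by a fixed element. -/
def cset (c : K) : Set K := {y | c⁻¹ * y * c ∈ D.X}

/-- The translate of the base clique. -/
def tr (k : K) : Set K := D.act k '' D.X

theorem card_cset (c : K) : (D.cset c).ncard = D.n := by
  rw [← Nat.card_coe_set_eq]
  exact Nat.card_congr (Equiv.subtypeEquiv (MulAut.conj c⁻¹).toEquiv
    fun y => by show y ∈ D.cset c ↔ c⁻¹ * y * c⁻¹⁻¹ ∈ D.X; rw [inv_inv]; exact Iff.rfl)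

theorem card_X : D.X.ncard = D.n := (Nat.card_coe_set_eq _).symm

theorem cset_eq_tr {c : K} (hc : D.σ c = c) : D.cset c = D.tr c := by
  ext y
  constructor
  · intro h
    exact ⟨_, h, by rw [D.act_fix hc]; group⟩
  · rintro ⟨x, hx, rfl⟩
    show c⁻¹ * D.act c x * c ∈ D.X
    rw [D.act_fix hc, show c⁻¹ * (c * x * c⁻¹) * c = x by group]
    exact hx

theorem inv_cset {c y : K} (hc : D.σ c = c) (hy : y ∈ D.cset c) : D.σ y = y⁻¹ := by
  rw [D.cset_eq_tr hc] at hy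
  obtain ⟨x, hx, rfl⟩ := hy
  exact D.act_inverted hx.2

theorem one_mem_tr (c : K) (hc : D.σ c = c) : (1 : K) ∈ D.tr c :=
  ⟨1, D.one_mem_X, D.act_one_eq_one.2 hc⟩

theorem one_mem_cset (c : K) : (1 : K) ∈ D.cset c := by
  show c⁻¹ * 1 * c ∈ D.X
  rw [mul_one, inv_mul_cancel]; exact D.one_mem_X

theorem tr_mul (k l : K) : D.act k '' D.tr l = D.tr (k * l) := by
  simp only [tr, Set.image_image, D.act_act]

/-- A translate containing the base point is a conjugate by a fixed element. -/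
theorem tr_eq_cset {k : K} (h : (1 : K) ∈ D.tr k) : ∃ c, D.σ c = c ∧ D.tr k = D.cset c := by
  obtain ⟨x, hx, e⟩ := h
  obtain ⟨e1, e2⟩ := D.sq_root hx.2
  set s := oddRoot x
  have hs : s ∈ D.sylP := oddRoot_mem hx.1
  refine ⟨k * s, D.act_one_eq_one.1 (by rw [← D.act_act, e1, e]), ?_⟩
  rw [D.cset_eq_tr (D.act_one_eq_one.1 (by rw [← D.act_act, e1, e]))]
  have hfix : D.tr s = D.X := by
    refine Set.eq_of_subset_of_ncard_le ?_ (le_of_eq ?_) (Set.toFinite _)
    · rintro _ ⟨y, hy, rfl⟩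
      exact D.act_mem_inv D.sylP_spec.2 hs hy
    · rw [tr, Set.ncard_image_of_injective _ (D.act_injective s)]
  nth_rw 1 [tr, ← hfix]
  rw [D.tr_mul]

theorem exists_cset_of_syl {H S : Subgroup K} (hS : IsSyl D.p H S) (hs : D.Stable S) :
    ∃ c, D.σ c = c ∧ D.inv S ⊆ D.cset c := by
  haveI := Fact.mk D.hp
  obtain ⟨P, hSP, hP, hPs⟩ := D.exists_stable_syl (p := D.p) D.stable_top hs le_top hS.2.1
  obtain ⟨c, hc, hcP⟩ := D.syl_conj D.stable_top D.sylP_spec.1 D.sylP_spec.2 hP hPs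
  refine ⟨c, hc.2, fun y hy => ⟨(hcP y).1 (hSP hy.1), ?_⟩⟩
  simp [map_mul, show D.σ c = c from hc.2, hy.2, mul_assoc]

theorem card_inv_syl_le {H S : Subgroup K} (hS : IsSyl D.p H S) (hs : D.Stable S) :
    Nat.card (D.inv S) ≤ D.n := by
  obtain ⟨c, -, hsub⟩ := D.exists_cset_of_syl hS hs
  rw [Nat.card_coe_set_eq, ← D.card_cset c]
  exact Set.ncard_le_ncard hsub (Set.toFinite _)

variable (hu : ∀ v ∈ D.inv ⊤, v ∉ D.X → 0 < Nat.card (D.pnbr v))
include hu

theorem br_hom {t r s : K} (ht : t ∈ D.R) (hr : r ∈ D.R) (hs : s ∈ D.R) :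
    t * (r * s) * t⁻¹ * (r * s)⁻¹ = t * r * t⁻¹ * r⁻¹ * (t * s * t⁻¹ * s⁻¹) := by
  have h := (D.Zf_central hu (D.comm_mem hu ht hs) hr).eq
  calc t * (r * s) * t⁻¹ * (r * s)⁻¹ = t * r * t⁻¹ * r⁻¹ * (r * (t * s * t⁻¹ * s⁻¹) * r⁻¹) := by group
    _ = t * r * t⁻¹ * r⁻¹ * (t * s * t⁻¹ * s⁻¹) := by rw [← h, mul_inv_cancel_right]

/-- Commutation with `t`, as a homomorphism. -/
def brHom (t : D.R) : D.R →* K where
  toFun r := (t : K) * r * (t : K)⁻¹ * (r : K)⁻¹
  map_one' := by simp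
  map_mul' r s := D.br_hom hu t.2 r.2 s.2

/-- The elements whose commutator with `t` lies in `Z₀`. -/
def ker (t : D.R) (Z0 : Subgroup K) : Subgroup K := ((Z0.comap (D.brHom hu t)).map D.R.subtype)

theorem mem_ker {t : D.R} {Z0 : Subgroup K} {r : K} :
    r ∈ D.ker hu t Z0 ↔ r ∈ D.R ∧ (t : K) * r * (t : K)⁻¹ * r⁻¹ ∈ Z0 := by
  constructor
  · rintro ⟨⟨r, hr⟩, h, rfl⟩; exact ⟨hr, h⟩
  · rintro ⟨hr, h⟩; exact ⟨⟨r, hr⟩, h, rfl⟩

theorem relIndex_ker (t : D.R) {Z0 : Subgroup K} :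
    (D.ker hu t Z0).relIndex D.R ≤ Z0.relIndex D.Zf := by
  rw [ker, Subgroup.relIndex, Subgroup.subgroupOf, Subgroup.comap_map_eq_self_of_injective
    D.R.subtype_injective, Subgroup.index_comap]
  refine Subgroup.relIndex_le_of_le_right ?_ (relIndex_ne_zero' _ _)
  rintro _ ⟨r, rfl⟩
  exact D.comm_mem hu t.2 r.2

theorem relIndex_Zf : D.Zf.relIndex D.R = D.n := by
  have h1 := Subgroup.card_mul_index (D.Zf.subgroupOf D.R)
  rw [Nat.card_congr (Subgroup.subgroupOfEquivOfLe inf_le_left : D.Zf.subgroupOf D.R ≃* D.Zf).toEquiv,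
    D.card_R hu, mul_comm D.n] at h1
  exact Nat.eq_of_mul_eq_mul_left Nat.card_pos h1

theorem card_ker {t : D.R} (ht : (t : K) ∈ D.X) {Z0 : Subgroup K} (hZ : Z0 ≤ D.Zf) :
    Nat.card (D.ker hu t Z0) = Nat.card {i : K // i ∈ D.X ∧ (t : K) * i * (t : K)⁻¹ * i⁻¹ ∈ Z0} *
      Nat.card D.Zf := by
  have hs : D.Stable (D.ker hu t Z0) := by
    intro r hr
    rw [D.mem_ker hu] at hr ⊢
    refine ⟨D.R_stable r hr.1, ?_⟩
    have h1 : D.σ ((t : K) * r * (t : K)⁻¹ * r⁻¹) = (t : K) * r * (t : K)⁻¹ * r⁻¹ :=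
      (D.comm_mem hu t.2 hr.1).2
    rw [map_mul, map_mul, map_mul, map_inv, map_inv, ht.2, inv_inv] at h1
    have h2 := D.br_hom hu (t.2) (D.R_stable r hr.1) (D.R.inv_mem (D.R_stable r hr.1))
    have hc := (D.Zf_central hu (D.comm_mem hu t.2 (D.R_stable r hr.1)) (D.R.inv_mem t.2)).eq
    have h3 : (t : K) * D.σ r * (t : K)⁻¹ * (D.σ r)⁻¹ =
        ((t : K)⁻¹ * D.σ r * (t : K) * (D.σ r)⁻¹)⁻¹ := by
      rw [eq_inv_iff_mul_eq_one]
      calc (t : K) * D.σ r * (t : K)⁻¹ * (D.σ r)⁻¹ * ((t : K)⁻¹ * D.σ r * (t : K) * (D.σ r)⁻¹)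
          = ((t : K) * D.σ r * (t : K)⁻¹ * (D.σ r)⁻¹ * (t : K)⁻¹) *
            (D.σ r * (t : K) * (D.σ r)⁻¹) := by group
        _ = ((t : K)⁻¹ * ((t : K) * D.σ r * (t : K)⁻¹ * (D.σ r)⁻¹)) *
            (D.σ r * (t : K) * (D.σ r)⁻¹) := by rw [hc]
        _ = 1 := by group
    rw [h3, h1]
    exact Z0.inv_mem hr.2
  rw [D.card_decomp hs]
  congr 1
  · refine Nat.card_congr (Equiv.subtypeEquivRight fun i => ?_)
    rw [OddInv.mem_inv, D.mem_ker hu]
    exact ⟨fun h => ⟨⟨D.R_le h.1.1, h.2⟩, h.1.2⟩, fun h => ⟨⟨D.X_sub_R h.1, h.2⟩, h.1.2⟩⟩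
  · have : D.ker hu t Z0 ⊓ D.fix = D.Zf := by
      refine le_antisymm (fun r hr => ⟨((D.mem_ker hu).1 hr.1).1, hr.2⟩) fun r hr => ⟨?_, hr.2⟩
      show r ∈ D.ker hu t Z0
      rw [D.mem_ker hu]
      refine ⟨hr.1, ?_⟩
      rw [← (D.Zf_central hu hr t.2).eq, mul_inv_cancel_right, mul_inv_cancel]
      exact Z0.one_mem
    rw [this]

/-- The claim for one central subgroup. -/
def Fixes (Z0 : Subgroup K) : Prop := D.inv (Subgroup.centralizer (Z0 : Set K)) ⊆ D.X

theorem X_sub_cent {Z0 : Subgroup K} (hZ : Z0 ≤ D.Zf) :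
    D.X ⊆ D.inv (Subgroup.centralizer (Z0 : Set K)) := fun _ hx =>
  ⟨Subgroup.mem_centralizer_iff.2 fun _ hz => (D.Zf_central hu (hZ hz) (D.X_sub_R hx)).eq, hx.2⟩

theorem stable_cent {Z0 : Subgroup K} (hZ : Z0 ≤ D.Zf) :
    D.Stable (Subgroup.centralizer (Z0 : Set K)) :=
  D.stable_centralizer fun z hz => by rw [show D.σ z = z from (hZ hz).2]; exact hz

theorem conj_mem_Zf {Z0 : Subgroup K} (hZ : Z0 ≤ D.Zf) {c : K} (hc : D.σ c = c)
    (hsub : D.cset c ⊆ D.inv (Subgroup.centralizer (Z0 : Set K))) {z : K} (hz : z ∈ Z0) :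
    c⁻¹ * z * c ∈ D.Zf := by
  refine D.zf_of_centralizes hu (hZ hz) hc fun x hx => ?_
  have hy : c * x * c⁻¹ ∈ D.cset c := by
    show c⁻¹ * (c * x * c⁻¹) * c ∈ D.X
    rw [show c⁻¹ * (c * x * c⁻¹) * c = x by group]; exact hx
  exact Subgroup.mem_centralizer_iff.1 (hsub hy).1 z hz

/-- Kernels of commutation with a shared point lie in every clique through it. -/
theorem ker_sub {Z0 : Subgroup K} (hZ : Z0 ≤ D.Zf)
    {c : K} (hc : D.σ c = c) (hsub : D.cset c ⊆ D.inv (Subgroup.centralizer (Z0 : Set K)))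
    {t : K} (htX : t ∈ D.X) (htc : t ∈ D.cset c) (ht1 : t ≠ 1) :
    ∀ i ∈ D.X, t * i * t⁻¹ * i⁻¹ ∈ Z0 → i ∈ D.cset c := by
  haveI := Fact.mk D.hp
  set L := Subgroup.centralizer (Z0 : Set K) with hL
  have hLs : D.Stable L := D.stable_cent hu hZ
  -- the subgroup generated by `t` and `Z₀`
  have hcom : ∀ z ∈ Z0, Commute t z := fun z hz => (D.Zf_central hu (hZ hz) (D.X_sub_R htX)).symm
  let Wt : Subgroup K :=
    { carrier := {w | ∃ k : ℤ, ∃ z ∈ Z0, w = t ^ k * z}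
      one_mem' := ⟨0, 1, Z0.one_mem, by simp⟩
      mul_mem' := by
        rintro _ _ ⟨k, z, hz, rfl⟩ ⟨k', z', hz', rfl⟩
        refine ⟨k + k', z * z', Z0.mul_mem hz hz', ?_⟩
        rw [zpow_add, mul_assoc, ← mul_assoc z, ← ((hcom z hz).zpow_left k').eq]
        group
      inv_mem' := by
        rintro _ ⟨k, z, hz, rfl⟩
        exact ⟨-k, z⁻¹, Z0.inv_mem hz, by
          rw [mul_inv_rev, ← zpow_neg, ((hcom _ (Z0.inv_mem hz)).zpow_left (-k)).eq]⟩ }
  have htW : t ∈ Wt := ⟨1, 1, Z0.one_mem, by simp⟩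
  have hWP : Wt ≤ D.sylP := by
    rintro _ ⟨k, z, hz, rfl⟩
    exact D.sylP.mul_mem (D.sylP.zpow_mem htX.1 k) (D.R_le (hZ hz).1)
  have hWs : D.Stable Wt := by
    rintro _ ⟨k, z, hz, rfl⟩
    exact ⟨-k, z, hz, by rw [map_mul, map_zpow, htX.2, show D.σ z = z from (hZ hz).2, inv_zpow, zpow_neg]⟩
  have hWfix : ∀ w ∈ Wt, D.σ w = w → w ∈ Z0 := by
    rintro _ ⟨k, z, hz, rfl⟩ e
    rw [map_mul, map_zpow, htX.2, show D.σ z = z from (hZ hz).2] at e
    have e' : (t ^ k)⁻¹ = t ^ k := by rw [← inv_zpow]; exact mul_right_cancel e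
    have : t ^ k = 1 := D.eq_one_of_sq (by nth_rw 1 [← e']; rw [inv_mul_cancel])
    rw [this, one_mul]; exact hz
  set M := Subgroup.normalizer (Wt : Set K) ⊓ L with hM
  have hMs : D.Stable M := D.stable_inf (D.stable_normalizer hWs) hLs
  -- the kernel set in a clique through `t`
  let A : K → Set K := fun d => {y | y ∈ D.cset d ∧ t * y * t⁻¹ * y⁻¹ ∈ Z0}
  have hA1 : ∀ d, D.σ d = d → t ∈ D.cset d → D.cset d ⊆ D.inv L →
      A d ⊆ D.inv M ∧ D.cset d ∩ D.inv M ⊆ A d := by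
    intro d hd htd hdL
    constructor
    · rintro y ⟨hy, hyt⟩
      refine ⟨⟨mem_normalizer_of_conj ?_, (hdL hy).1⟩, (hdL hy).2⟩
      rintro _ ⟨k, z, hz, rfl⟩
      have h1 : y * t * y⁻¹ ∈ Wt := by
        have : y * t * y⁻¹ = (t⁻¹ * (t * y * t⁻¹ * y⁻¹))⁻¹ := by group
        rw [this]
        exact Wt.inv_mem (Wt.mul_mem (Wt.inv_mem htW) ⟨0, _, hyt, by simp⟩)
      have h2 : y * z * y⁻¹ = z := by
        rw [← Subgroup.mem_centralizer_iff.1 (hdL hy).1 z hz, mul_inv_cancel_right]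
      have : y * (t ^ k * z) * y⁻¹ = (y * t * y⁻¹) ^ k * z := by
        rw [conj_zpow]
        calc y * (t ^ k * z) * y⁻¹ = y * t ^ k * y⁻¹ * (y * z * y⁻¹) := by group
          _ = y * t ^ k * y⁻¹ * z := by rw [h2]
      rw [this]
      exact Wt.mul_mem (Wt.zpow_mem h1 k) ⟨0, z, hz, by simp⟩
    · rintro y ⟨hy, hyM⟩
      refine ⟨hy, hWfix _ ?_ ?_⟩
      · have h1 : y * t⁻¹ * y⁻¹ ∈ Wt :=
          (Subgroup.mem_normalizer_iff.1 hyM.1.1 _).1 (Wt.inv_mem htW)
        simpa [mul_assoc] using Wt.mul_mem htW h1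
      · have h2 := (D.comm_mem hu (D.X_sub_R htd) (D.X_sub_R hy)).2
        rw [show t * y * t⁻¹ * y⁻¹ =
          d * ((d⁻¹ * t * d) * (d⁻¹ * y * d) * (d⁻¹ * t * d)⁻¹ * (d⁻¹ * y * d)⁻¹) * d⁻¹ by group]
        rw [map_mul, map_mul, map_inv, hd, show D.σ (_ : K) = _ from h2]; rfl
  have hA2 : ∀ d, D.σ d = d → t ∈ D.cset d → D.cset d ⊆ D.inv L →
      (A d).ncard * Nat.card D.Zf = Nat.card (D.ker hu ⟨t, D.X_sub_R htX⟩ Z0) := by
    intro d hd htd hdL
    set t' : D.R := ⟨d⁻¹ * t * d, D.X_sub_R htd⟩ with ht'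
    set Z0' : Subgroup K := Z0.comap (MulAut.conj d).toMonoidHom with hZ0'
    have hmem : ∀ w, w ∈ Z0' ↔ d * w * d⁻¹ ∈ Z0 := fun w => Iff.rfl
    have hZ' : Z0' ≤ D.Zf := fun w hw => by
      have := D.conj_mem_Zf hu hZ hd hdL ((hmem w).1 hw)
      simpa [mul_assoc] using this
    have h1 : (A d).ncard = Nat.card {i : K // i ∈ D.X ∧
        (t' : K) * i * (t' : K)⁻¹ * i⁻¹ ∈ Z0'} := by
      rw [← Nat.card_coe_set_eq]
      refine Nat.card_congr (Equiv.subtypeEquiv (MulAut.conj d⁻¹).toEquiv fun y => ?_)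
      show y ∈ A d ↔ d⁻¹ * y * d⁻¹⁻¹ ∈ D.X ∧ _
      rw [inv_inv, hmem]
      refine and_congr Iff.rfl ?_
      have : d * ((d⁻¹ * t * d) * (d⁻¹ * y * d⁻¹⁻¹) * (d⁻¹ * t * d)⁻¹ * (d⁻¹ * y * d⁻¹⁻¹)⁻¹) * d⁻¹ =
          t * y * t⁻¹ * y⁻¹ := by group
      show t * y * t⁻¹ * y⁻¹ ∈ Z0 ↔
        d * ((d⁻¹ * t * d) * (d⁻¹ * y * d⁻¹⁻¹) * (d⁻¹ * t * d)⁻¹ * (d⁻¹ * y * d⁻¹⁻¹)⁻¹) * d⁻¹ ∈ Z0
      rw [this]
    rw [h1, ← D.card_ker hu (t := t') htd hZ']
    obtain ⟨x, hx, hxe⟩ := D.fusion (A := (Wt : Set K)) (g := d⁻¹) hWP (by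
      rintro _ ⟨k, z, hz, rfl⟩
      rw [inv_inv]
      have : d⁻¹ * (t ^ k * z) * d = (d⁻¹ * t * d) ^ k * (d⁻¹ * z * d) := by
        have := conj_zpow (i := k) (a := d⁻¹) (b := t)
        rw [inv_inv] at this
        rw [this]; group
      rw [this]
      exact D.sylP.mul_mem (D.sylP.zpow_mem htd.1 k) (D.R_le (D.conj_mem_Zf hu hZ hd hdL hz).1))
    refine (Nat.card_congr (Equiv.subtypeEquiv (MulAut.conj x).toEquiv fun r => ?_)).symm
    show r ∈ D.ker hu _ Z0 ↔ x * r * x⁻¹ ∈ D.ker hu t' Z0'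
    rw [D.mem_ker hu, D.mem_ker hu]
    have hxt : x * t * x⁻¹ = d⁻¹ * t * d := by rw [← hxe t htW, inv_inv]
    constructor
    · rintro ⟨hr, h⟩
      refine ⟨D.conj_R hu hx hr, (hmem _).2 ?_⟩
      have e : (t' : K) * (x * r * x⁻¹) * (t' : K)⁻¹ * (x * r * x⁻¹)⁻¹ =
          d⁻¹ * (t * r * t⁻¹ * r⁻¹) * d := by
        rw [ht']; dsimp only
        rw [← hxt]
        have := hxe _ (⟨0, _, h, by simp⟩ : t * r * t⁻¹ * r⁻¹ ∈ Wt)
        rw [inv_inv] at this
        rw [this]; group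
      rw [e]
      simpa [mul_assoc] using h
    · rintro ⟨hr, h⟩
      have hr' : r ∈ D.R := by
        simpa [mul_assoc] using D.conj_R hu (Subgroup.inv_mem _ hx) hr
      refine ⟨hr', ?_⟩
      have h' := (hmem _).1 h
      have := hxe (d * ((t' : K) * (x * r * x⁻¹) * (t' : K)⁻¹ * (x * r * x⁻¹)⁻¹) * d⁻¹)
        ⟨0, _, h', by simp⟩
      rw [inv_inv] at this
      have e : t * r * t⁻¹ * r⁻¹ =
          x⁻¹ * ((t' : K) * (x * r * x⁻¹) * (t' : K)⁻¹ * (x * r * x⁻¹)⁻¹) * x := by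
        rw [ht']; dsimp only; rw [← hxt]; group
      rw [e]
      have e2 : d * ((t' : K) * (x * r * x⁻¹) * (t' : K)⁻¹ * (x * r * x⁻¹)⁻¹) * d⁻¹ =
          x⁻¹ * ((t' : K) * (x * r * x⁻¹) * (t' : K)⁻¹ * (x * r * x⁻¹)⁻¹) * x := by
        set w := (t' : K) * (x * r * x⁻¹) * (t' : K)⁻¹ * (x * r * x⁻¹)⁻¹
        have e3 : d⁻¹ * (d * w * d⁻¹) * d = w := by group
        rw [e3] at this
        calc d * w * d⁻¹ = x⁻¹ * (x * (d * w * d⁻¹) * x⁻¹) * x := by group
          _ = x⁻¹ * w * x := by rw [← this]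
      rw [← e2]
      exact h'
  -- a clique containing every inverted element of `M`
  have hMq : ∀ g ∈ D.inv M, orderOf g ≠ D.q := fun g hg hgo =>
    D.not_normalize hu hWP hWs htW htX.2 ht1 hg.2 hgo hg.1.1
  obtain ⟨SM, -, hSM, hSMs⟩ := D.exists_stable_syl (p := D.p) (W := ⊥) hMs
    (fun k hk => by rw [Subgroup.mem_bot] at hk ⊢; rw [hk, map_one]) bot_le IsPGroup.of_bot
  have hinvM : D.inv SM = D.inv M := by
    haveI := Fact.mk D.hq
    obtain ⟨Q, -, hQ, hQs⟩ := D.exists_stable_syl (p := D.q) (W := ⊥) hMs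
      (fun k hk => by rw [Subgroup.mem_bot] at hk ⊢; rw [hk, map_one]) bot_le IsPGroup.of_bot
    have hQ1 : Nat.card (D.inv Q) = 1 := by
      have key : ∀ a : D.inv Q, (a : K) = 1 := fun a => by
        rcases D.ord_cases a.2.2 with h | h | h
        · exact h
        · exact D.not_both (h ▸ pow_orderOf_eq_one (a : K))
            (D.swap.ord_of_isPGroup D.hq D.hpq.symm hQ.2.1 a.2)
        · exact absurd h (hMq a ⟨hQ.1 a.2.1, a.2.2⟩)
      exact Nat.card_eq_one_iff_unique.2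
        ⟨⟨fun a b => Subtype.ext ((key a).trans (key b).symm)⟩, ⟨⟨1, D.one_mem_inv Q⟩⟩⟩
    have hcd := D.card_inv hMs hSM hSMs hQ hQs
    rw [hQ1, mul_one] at hcd
    exact Set.eq_of_subset_of_ncard_le (D.inv_mono hSM.1)
      (by rw [← Nat.card_coe_set_eq, ← Nat.card_coe_set_eq, hcd]) (Set.toFinite _)
  obtain ⟨SL, hSL', hSL, hSLs⟩ := D.exists_stable_syl (p := D.p) hLs hSMs (hSM.1.trans inf_le_right)
    hSM.2.1
  obtain ⟨d, hd, hdS⟩ := D.exists_cset_of_syl hSL hSLs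
  have hdeq : D.inv SL = D.cset d := by
    obtain ⟨PL, hPL', hPL, hPLs⟩ := D.exists_stable_syl (p := D.p) hLs D.R_stable
      ((Subgroup.closure_le _).2 fun x hx => (D.X_sub_cent hu hZ hx).1)
      (D.sylP_spec.1.2.1.to_le D.R_le)
    have h1 : D.n ≤ Nat.card (D.inv SL) := by
      rw [← D.factorization_inv hLs hSL hSLs, D.factorization_inv hLs hPL hPLs, ← D.card_X,
        Nat.card_coe_set_eq]
      exact Set.ncard_le_ncard (fun x hx => (⟨hPL' (D.X_sub_R hx), hx.2⟩ : x ∈ D.inv PL)) (Set.toFinite _)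
    exact Set.eq_of_subset_of_ncard_le hdS (by rw [D.card_cset, ← Nat.card_coe_set_eq]; exact h1)
      (Set.toFinite _)
  have hdL : D.cset d ⊆ D.inv L := hdeq ▸ D.inv_mono hSL.1
  have hMd : D.inv M ⊆ D.cset d := hdeq ▸ hinvM ▸ D.inv_mono hSL'
  have htM : t ∈ D.inv M := ⟨⟨mem_normalizer_of_conj fun a ha => by
    simpa [mul_assoc] using Wt.mul_mem (Wt.mul_mem htW ha) (Wt.inv_mem htW),
    (D.X_sub_cent hu hZ htX).1⟩, htX.2⟩
  have htd : t ∈ D.cset d := hMd htM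
  have hAd : A d = D.inv M := Set.Subset.antisymm (hA1 d hd htd hdL).1
    fun y hy => (hA1 d hd htd hdL).2 ⟨hMd hy, hy⟩
  have hall : ∀ e, D.σ e = e → t ∈ D.cset e → D.cset e ⊆ D.inv L → A e = D.inv M := by
    intro e he hte heL
    refine Set.eq_of_subset_of_ncard_le (hA1 e he hte heL).1 (le_of_eq ?_) (Set.toFinite _)
    rw [← hAd]
    exact Nat.eq_of_mul_eq_mul_right Nat.card_pos ((hA2 d hd htd hdL).trans (hA2 e he hte heL).symm)
  have hX1 : D.cset 1 = D.X := by ext y; simp [cset]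
  have hAX := hall 1 (map_one _) (by rw [hX1]; exact htX) (by rw [hX1]; exact D.X_sub_cent hu hZ)
  have hAc := hall c hc htc hsub
  intro i hi hit
  have : i ∈ A c := by rw [hAc, ← hAX]; exact ⟨by rw [hX1]; exact hi, hit⟩
  exact this.1

/-- Two cliques in `C(Z₀)` through a common nonidentity point agree, if `Z₀` has small index. -/
theorem uniq_base {Z0 : Subgroup K} (hZ : Z0 ≤ D.Zf) (hlt : Z0.relIndex D.Zf ^ 2 < D.n)
    {c : K} (hc : D.σ c = c) (hsub : D.cset c ⊆ D.inv (Subgroup.centralizer (Z0 : Set K)))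
    {t : K} (htX : t ∈ D.X) (htc : t ∈ D.cset c) (ht1 : t ≠ 1) : D.cset c = D.X := by
  refine (Set.eq_of_subset_of_ncard_le ?_ (by rw [D.card_cset, D.card_X]) (Set.toFinite _)).symm
  by_contra hcon
  obtain ⟨u, huX, huc⟩ := Set.not_subset.1 hcon
  set t' : D.R := ⟨t, D.X_sub_R htX⟩
  set u' : D.R := ⟨u, D.X_sub_R huX⟩
  have hle : D.ker hu t' Z0 ⊓ D.ker hu u' Z0 ≤ D.Zf := by
    rintro r ⟨hrt, hru⟩
    change r ∈ D.ker hu t' Z0 at hrt
    change r ∈ D.ker hu u' Z0 at hru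
    rw [D.mem_ker hu] at hrt hru
    obtain ⟨i, hi, f, hf, rfl⟩ := D.decomp D.R_stable hrt.1
    have hfZ : f ∈ D.Zf := ⟨hf.1, hf.2⟩
    have hkill : ∀ {w : K}, w ∈ D.R →
        w * (i * f) * w⁻¹ * (i * f)⁻¹ = w * i * w⁻¹ * i⁻¹ := by
      intro w hw
      rw [D.br_hom hu hw hi.1 hfZ.1, ← (D.Zf_central hu hfZ hw).eq, mul_inv_cancel_right f w,
        mul_inv_cancel, mul_one]
    have h1 := hrt.2
    have h2 := hru.2
    rw [hkill t'.2] at h1
    rw [hkill u'.2] at h2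
    have hiX : i ∈ D.X := D.inv_R ▸ hi
    have hic := D.ker_sub hu hZ hc hsub htX htc ht1 i hiX h1
    by_cases hi1 : i = 1
    · rw [hi1, one_mul]; exact hfZ
    · refine absurd (D.ker_sub hu hZ hc hsub hiX hic hi1 u huX ?_) huc
      have := Z0.inv_mem h2
      simpa [u', mul_assoc] using this
  have h1 : D.n ≤ (D.ker hu t' Z0 ⊓ D.ker hu u' Z0).relIndex D.R := by
    rw [← D.relIndex_Zf hu]
    exact Nat.le_of_dvd (Nat.pos_of_ne_zero (relIndex_ne_zero' _ _))
      (Subgroup.relIndex_dvd_of_le_left _ hle)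
  have h2 := h1.trans (Subgroup.relIndex_inf_le)
  have h3 := h2.trans (Nat.mul_le_mul (D.relIndex_ker hu t') (D.relIndex_ker hu u'))
  rw [pow_two] at hlt
  omega

theorem X_eq_cset_one : D.X = D.cset 1 := by ext y; simp [cset]

/-- Two translates of the clique inside `C(Z₀)` meeting twice agree. -/
theorem tr_unique {Z0 : Subgroup K} (hZ : Z0 ≤ D.Zf) (hlt : Z0.relIndex D.Zf ^ 2 < D.n) {k1 k2 : K}
    (h1 : D.tr k1 ⊆ D.inv (Subgroup.centralizer (Z0 : Set K)))
    (h2 : D.tr k2 ⊆ D.inv (Subgroup.centralizer (Z0 : Set K))) {a b : K} (ha1 : a ∈ D.tr k1)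
    (hb1 : b ∈ D.tr k1) (ha2 : a ∈ D.tr k2) (hb2 : b ∈ D.tr k2) (hab : a ≠ b) :
    D.tr k1 = D.tr k2 := by
  set L := Subgroup.centralizer (Z0 : Set K)
  have hLs : D.Stable L := D.stable_cent hu hZ
  have haL := h1 ha1
  set l := (oddRoot a)⁻¹
  have hlL : l ∈ L := L.inv_mem (oddRoot_mem haL.1)
  have hla : D.act l a = 1 := (D.sq_root haL.2).2
  suffices D.tr (l * k1) = D.tr (l * k2) by
    rw [← D.tr_mul, ← D.tr_mul] at this
    exact Set.image_injective.2 (D.act_injective l) this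
  have hsub : ∀ k, D.tr k ⊆ D.inv L → D.tr (l * k) ⊆ D.inv L := by
    intro k hk
    rw [← D.tr_mul]
    rintro _ ⟨y, hy, rfl⟩
    exact D.act_mem_inv hLs hlL (hk hy)
  have g1 := hsub k1 h1
  have g2 := hsub k2 h2
  have one1 : (1 : K) ∈ D.tr (l * k1) := by rw [← D.tr_mul]; exact ⟨a, ha1, hla⟩
  have one2 : (1 : K) ∈ D.tr (l * k2) := by rw [← D.tr_mul]; exact ⟨a, ha2, hla⟩
  have hb1' : D.act l b ∈ D.tr (l * k1) := by rw [← D.tr_mul]; exact ⟨b, hb1, rfl⟩
  have hb2' : D.act l b ∈ D.tr (l * k2) := by rw [← D.tr_mul]; exact ⟨b, hb2, rfl⟩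
  have hne : D.act l b ≠ 1 := fun e => hab (D.act_injective l (hla.trans e.symm))
  obtain ⟨c1, hc1, e1⟩ := D.tr_eq_cset one1
  obtain ⟨c2, hc2, e2⟩ := D.tr_eq_cset one2
  rw [e1] at g1 hb1' ⊢
  rw [e2] at g2 hb2' ⊢
  set b' := D.act l b
  -- move the first clique to the base
  set Z0' : Subgroup K := Z0.comap (MulAut.conj c1).toMonoidHom with hZ0'
  have hmem : ∀ w, w ∈ Z0' ↔ c1 * w * c1⁻¹ ∈ Z0 := fun w => Iff.rfl
  have hZ' : Z0' ≤ D.Zf := fun w hw => by
    have := D.conj_mem_Zf hu hZ hc1 g1 ((hmem w).1 hw)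
    simpa [mul_assoc] using this
  have hidx : Z0'.relIndex D.Zf = Z0.relIndex D.Zf := by
    have e : Nat.card Z0' = Nat.card Z0 :=
      Nat.card_congr (Equiv.subtypeEquiv (MulAut.conj c1).toEquiv fun w => Iff.rfl)
    have k1 := Subgroup.card_mul_index (Z0'.subgroupOf D.Zf)
    have k2 := Subgroup.card_mul_index (Z0.subgroupOf D.Zf)
    rw [Nat.card_congr (Subgroup.subgroupOfEquivOfLe hZ').toEquiv, e] at k1
    rw [Nat.card_congr (Subgroup.subgroupOfEquivOfLe hZ).toEquiv] at k2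
    exact Nat.eq_of_mul_eq_mul_left Nat.card_pos (k1.trans k2.symm)
  have hconj : ∀ y, y ∈ D.cset (c1⁻¹ * c2) ↔ c1 * y * c1⁻¹ ∈ D.cset c2 := fun y => by
    show _ ∈ D.X ↔ _ ∈ D.X
    refine iff_of_eq (congrArg (· ∈ D.X) ?_)
    group
  have key := D.uniq_base hu hZ' (hidx.symm ▸ hlt) (c := c1⁻¹ * c2)
    (by rw [map_mul, map_inv, hc1, hc2]) (fun y hy => by
      have h := g2 ((hconj y).1 hy)
      refine ⟨Subgroup.mem_centralizer_iff.2 fun w hw => ?_, ?_⟩
      · have := Subgroup.mem_centralizer_iff.1 h.1 _ ((hmem w).1 hw)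
        apply (MulAut.conj c1).injective
        simpa only [map_mul, MulAut.conj_apply] using this
      · exact D.inv_cset (by rw [map_mul, map_inv, hc1, hc2]) hy)
    (t := c1⁻¹ * b' * c1) hb1' ((hconj _).2 (by simpa [mul_assoc] using hb2'))
    (fun e => hne (by simpa [mul_assoc] using congrArg (fun x => c1 * x * c1⁻¹) e))
  ext y
  show c1⁻¹ * y * c1 ∈ D.X ↔ y ∈ D.cset c2
  rw [← key, hconj]
  simp [mul_assoc]

variable (hnm : D.m < D.n)
include hnm

/-- Small index forces the fixed points to be the base clique. -/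
theorem fixes {Z0 : Subgroup K} (hZ : Z0 ≤ D.Zf) (hlt : Z0.relIndex D.Zf ^ 2 < D.n) :
    D.inv (Subgroup.centralizer (Z0 : Set K)) = D.X := by
  classical
  haveI := Fact.mk D.hp
  haveI := Fact.mk D.hq
  haveI := Fintype.ofFinite K
  set L := Subgroup.centralizer (Z0 : Set K) with hL
  have hLs : D.Stable L := D.stable_cent hu hZ
  have hXL : D.X ⊆ D.inv L := D.X_sub_cent hu hZ
  refine Set.Subset.antisymm ?_ hXL
  by_contra hcon
  obtain ⟨v0, hv0, hv0X⟩ := Set.not_subset.1 hcon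
  set Ω : Finset (Set K) :=
    Finset.univ.filter fun S => ∃ c, D.σ c = c ∧ S = D.cset c ∧ D.cset c ⊆ D.inv L with hΩ
  have hΩmem : ∀ S, S ∈ Ω ↔ ∃ c, D.σ c = c ∧ S = D.cset c ∧ D.cset c ⊆ D.inv L := fun S => by
    simp [hΩ]
  have hXΩ : D.X ∈ Ω := (hΩmem _).2 ⟨1, map_one _, D.X_eq_cset_one hu, D.X_eq_cset_one hu ▸ hXL⟩
  set pts : Finset K := Finset.univ.filter fun y => y ∈ D.inv L ∧ orderOf y = D.p with hpts
  have hunique : ∀ S ∈ Ω, ∀ S' ∈ Ω, ∀ y, y ∈ S → y ∈ S' → y ≠ 1 → S = S' := by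
    intro S hS S' hS' y hy hy' hy1
    obtain ⟨c, hc, rfl, hsub⟩ := (hΩmem S).1 hS
    obtain ⟨c', hc', rfl, hsub'⟩ := (hΩmem S').1 hS'
    rw [D.cset_eq_tr hc, D.cset_eq_tr hc'] at *
    exact D.tr_unique hu hZ hlt hsub hsub' hy (D.one_mem_tr c hc) hy' (D.one_mem_tr c' hc') hy1
  have hex : ∀ y ∈ D.inv L, orderOf y = D.p → ∃ S ∈ Ω, y ∈ S := by
    intro y hy ho
    obtain ⟨S, hyS, hS, hSs⟩ := D.exists_syl_of_inverted (p := D.p) (r := 1) hLs hy
      (by rw [pow_one, ← ho, pow_orderOf_eq_one])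
    obtain ⟨c, hc, hsub⟩ := D.exists_cset_of_syl hS hSs
    obtain ⟨PL, hPL', hPL, hPLs⟩ := D.exists_stable_syl (p := D.p) hLs D.R_stable
      ((Subgroup.closure_le _).2 fun x hx => (hXL hx).1) (D.sylP_spec.1.2.1.to_le D.R_le)
    have h1 : D.n ≤ Nat.card (D.inv S) := by
      rw [← D.factorization_inv hLs hS hSs, D.factorization_inv hLs hPL hPLs, ← D.card_X,
        Nat.card_coe_set_eq]
      exact Set.ncard_le_ncard (fun x hx => (⟨hPL' (D.X_sub_R hx), hx.2⟩ : x ∈ D.inv PL))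
        (Set.toFinite _)
    have e : D.inv S = D.cset c := Set.eq_of_subset_of_ncard_le hsub
      (by rw [D.card_cset, ← Nat.card_coe_set_eq]; exact h1) (Set.toFinite _)
    exact ⟨D.cset c, (hΩmem _).2 ⟨c, hc, rfl, e ▸ D.inv_mono hS.1⟩, e ▸ ⟨hyS, hy.2⟩⟩
  have hptsc : pts.card = Ω.card * (D.n - 1) := by
    have hpu : pts = Ω.biUnion fun S => (Finset.univ.filter (· ∈ S)).erase 1 := by
      ext y
      simp only [hpts, Finset.mem_filter, Finset.mem_univ, true_and, Finset.mem_biUnion,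
        Finset.mem_erase]
      constructor
      · rintro ⟨hy, ho⟩
        obtain ⟨S, hS, hyS⟩ := hex y hy ho
        exact ⟨S, hS, D.ne_of_ord_p ho, hyS⟩
      · rintro ⟨S, hS, hy1, hyS⟩
        obtain ⟨c, hc, rfl, hsub⟩ := (hΩmem S).1 hS
        refine ⟨hsub hyS, ?_⟩
        have h2 := D.X_ord hyS (fun e => hy1 (by simpa [mul_assoc] using congrArg (fun x => c * x * c⁻¹) e))
        rw [← h2, show c⁻¹ * y * c = MulAut.conj c⁻¹ y by simp, MulEquiv.orderOf_eq]
    rw [hpu, Finset.card_biUnion, Finset.sum_const_nat]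
    · intro S hS
      obtain ⟨c, hc, rfl, -⟩ := (hΩmem S).1 hS
      rw [Finset.card_erase_of_mem (by simpa using D.one_mem_cset c), ← D.card_cset c,
        Set.ncard_eq_toFinset_card']
      congr 2
      ext y; simp
    · intro S hS S' hS' hne
      rw [Function.onFun, Finset.disjoint_left]
      intro y hy hy'
      simp only [Finset.mem_erase, Finset.mem_filter, Finset.mem_univ, true_and] at hy hy'
      exact hne (hunique S hS S' hS' y hy.2 hy'.2 hy.1)
  set A : Finset K := Finset.univ.filter fun v => v ∈ D.inv L ∧ v ∉ D.X with hA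
  set B : Finset K := Finset.univ.filter (· ∈ D.X) with hB
  set rel : K → K → Prop := fun v x => orderOf (v⁻¹ * x) = D.p with hrel
  have hBc : B.card = D.n := by
    rw [← D.card_X, Set.ncard_eq_toFinset_card']
    congr 1; ext v; simp [hB]
  have hAc : A.card + D.n = Nat.card (D.inv L) := by
    rw [← hBc, Nat.card_coe_set_eq, Set.ncard_eq_toFinset_card', ← Finset.card_union_of_disjoint]
    · congr 1; ext v
      simp only [hA, hB, Set.mem_toFinset, Finset.mem_union, Finset.mem_filter, Finset.mem_univ, true_and]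
      exact ⟨fun h => h.elim (·.1) (fun h => hXL h), fun h => by tauto⟩
    · simp only [hA, hB, Finset.disjoint_filter]; tauto
  have hl : ∀ v ∈ A, (Finset.bipartiteAbove rel B v).card = D.n - D.T ∧ D.n - D.T + 1 ≤ Ω.card := by
    intro v hv
    simp only [hA, Finset.mem_filter, Finset.mem_univ, true_and] at hv
    have he : (Finset.bipartiteAbove rel B v).card = D.n - D.T := by
      have := D.card_pnbr (v := v) ⟨trivial, hv.1.2⟩ hv.2
      rw [Nat.card_coe_set_eq, Set.ncard_eq_toFinset_card'] at this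
      have e : (Finset.bipartiteAbove rel B v) = (D.pnbr v).toFinset := by
        ext x
        rw [Set.mem_toFinset]
        simp [Finset.bipartiteAbove, hB, hrel, pnbr]
      rw [e]; omega
    refine ⟨he, ?_⟩
    rw [← he]
    obtain ⟨e1, e2⟩ := D.sq_root hv.1.2
    set s := oddRoot v with hs
    have hsL : s ∈ L := oddRoot_mem hv.1.1
    have hsub : ∀ y ∈ Finset.bipartiteAbove rel B v, D.act s⁻¹ y ∈ D.inv L ∧
        orderOf (D.act s⁻¹ y) = D.p := by
      intro y hy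
      simp only [Finset.bipartiteAbove, hB, hrel, Finset.mem_filter, Finset.mem_univ, true_and] at hy
      refine ⟨D.act_mem_inv hLs (L.inv_mem hsL) (hXL hy.1), ?_⟩
      have := D.orderOf_rel_act s⁻¹ v y
      rw [e2, inv_one, one_mul] at this
      exact this.trans hy.2
    choose F hF1 hF2 using fun y (hy : y ∈ Finset.bipartiteAbove rel B v) =>
      hex _ (hsub y hy).1 (hsub y hy).2
    have htrX : D.tr s⁻¹ ⊆ D.inv L := by
      rintro _ ⟨y, hy, rfl⟩
      exact D.act_mem_inv hLs (L.inv_mem hsL) (hXL hy)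
    have hone : (1 : K) ∉ D.tr s⁻¹ := by
      rintro ⟨y, hy, e⟩
      exact hv.2 (D.act_injective s⁻¹ (e2.trans e.symm) ▸ hy)
    have hFne : ∀ y hy, F y hy ≠ D.X := by
      intro y hy hFX
      have h1 : D.act s⁻¹ y ∈ D.X := hFX ▸ hF2 y hy
      have hyX : y ∈ D.X := by
        simp only [Finset.bipartiteAbove, hB, Finset.mem_filter, Finset.mem_univ, true_and] at hy
        exact hy.1
      have hsσ : D.σ s = s⁻¹ := D.root_inv hv.1.2
      set x := D.act s⁻¹ y with hx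
      have hsy : D.act s x = y := by rw [hx, D.act_act, mul_inv_cancel, D.act_one]
      have hsy' : D.act s y⁻¹ = x⁻¹ := by
        rw [D.act_inv hsσ, hx, D.act_inv (show D.σ s⁻¹ = (s⁻¹)⁻¹ by rw [map_inv, hsσ])]
        group
      have htrs : D.tr s ⊆ D.inv L := by
        rintro _ ⟨z, hz, rfl⟩
        exact D.act_mem_inv hLs hsL (hXL hz)
      by_cases hxy : y = x⁻¹
      · have hsX : s = y := by
          have h2 : s * y⁻¹ * s = y := by rw [← D.act_inv hsσ, hsy', hxy]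
          have h3 : (y⁻¹ * s) * (y⁻¹ * s) = 1 := by
            calc (y⁻¹ * s) * (y⁻¹ * s) = y⁻¹ * (s * y⁻¹ * s) := by group
              _ = 1 := by rw [h2, inv_mul_cancel]
          exact (inv_mul_eq_one.1 (D.eq_one_of_sq h3)).symm
        exact hv.2 ⟨by rw [← D.root_sq v, ← hs, hsX]; exact D.sylP.mul_mem hyX.1 hyX.1, hv.1.2⟩
      · have e : D.tr 1 = D.tr s := by
          refine D.tr_unique hu hZ hlt ?_ htrs (a := y) (b := x⁻¹) ?_ ?_ ?_ ?_ hxy
          · simpa [tr] using hXL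
          · simpa [tr] using hyX
          · exact ⟨x⁻¹, D.inv_inv_mem h1, D.act_one _⟩
          · exact ⟨x, h1, hsy⟩
          · exact ⟨y⁻¹, D.inv_inv_mem hyX, hsy'⟩
        have : v ∈ D.tr s := ⟨1, D.one_mem_X, e1⟩
        rw [← e] at this
        exact hv.2 (by simpa [tr] using this)
    have hinj : ∀ y1 h1 y2 h2, F y1 h1 = F y2 h2 → y1 = y2 := by
      intro y1 h1 y2 h2 he
      by_contra hne
      obtain ⟨c, hc, hS, hsubc⟩ := (hΩmem _).1 (hF1 y1 h1)
      have hb1 := hF2 y1 h1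
      have hb2 := hF2 y2 h2
      rw [← he] at hb2
      rw [hS, D.cset_eq_tr hc] at hb1 hb2
      rw [D.cset_eq_tr hc] at hsubc
      have hy1 : y1 ∈ D.X := by
        simp only [Finset.bipartiteAbove, hB, Finset.mem_filter, Finset.mem_univ, true_and] at h1
        exact h1.1
      have hy2 : y2 ∈ D.X := by
        simp only [Finset.bipartiteAbove, hB, Finset.mem_filter, Finset.mem_univ, true_and] at h2
        exact h2.1
      have e := D.tr_unique hu hZ hlt htrX hsubc (a := D.act s⁻¹ y1) (b := D.act s⁻¹ y2) ⟨y1, hy1, rfl⟩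
        ⟨y2, hy2, rfl⟩ hb1 hb2 (fun e => hne (D.act_injective _ e))
      exact hone (e ▸ D.one_mem_tr c hc)
    have hcard : (Finset.bipartiteAbove rel B v).card ≤ (Ω.erase D.X).card := by
      rw [← Finset.card_attach]
      refine Finset.card_le_card_of_injOn (fun y => F y.1 y.2)
        (fun y _ => Finset.mem_erase.2 ⟨hFne y.1 y.2, hF1 y.1 y.2⟩) ?_
      exact fun y1 _ y2 _ he => Subtype.ext (hinj _ _ _ _ he)
    rw [Finset.card_erase_of_mem hXΩ] at hcard
    have : 0 < Ω.card := Finset.card_pos.2 ⟨_, hXΩ⟩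
    omega
  have hr : ∀ x ∈ B, (Finset.bipartiteBelow rel A x).card + (D.n - 1) = pts.card := by
    intro x hx
    simp only [hB, Finset.mem_filter, Finset.mem_univ, true_and] at hx
    obtain ⟨e1, e2⟩ := D.sq_root hx.2
    have hsR : oddRoot x ∈ D.sylP := oddRoot_mem hx.1
    have hsL : oddRoot x ∈ L := oddRoot_mem (hXL hx).1
    have hkey : (Finset.bipartiteBelow rel (A ∪ B) x).card = pts.card := by
      refine Finset.card_bij (fun v _ => D.act (oddRoot x)⁻¹ v) ?_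
        (fun a _ b _ h => D.act_injective _ h) ?_
      · intro v hv
        simp only [Finset.bipartiteBelow, hA, hB, hrel, hpts, Finset.mem_filter, Finset.mem_union,
          Finset.mem_univ, true_and] at hv ⊢
        have hvL : v ∈ D.inv L := hv.1.elim (·.1) (fun h => hXL h)
        refine ⟨D.act_mem_inv hLs (L.inv_mem hsL) hvL, ?_⟩
        have h3 := D.orderOf_rel_act (oddRoot x)⁻¹ x v
        rw [e2, inv_one, one_mul, D.orderOf_rel_symm] at h3
        exact h3.trans hv.2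
      · intro g hg
        simp only [hpts, Finset.mem_filter, Finset.mem_univ, true_and] at hg
        refine ⟨D.act (oddRoot x) g, ?_, by rw [D.act_act, inv_mul_cancel, D.act_one]⟩
        simp only [Finset.bipartiteBelow, hA, hB, hrel, Finset.mem_filter, Finset.mem_union,
          Finset.mem_univ, true_and]
        refine ⟨?_, ?_⟩
        · have := D.act_mem_inv hLs hsL hg.1
          tauto
        · nth_rw 2 [← e1]
          rw [D.orderOf_rel_act, mul_one, orderOf_inv, hg.2]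
    have hB' : (Finset.bipartiteBelow rel B x).card = D.n - 1 := by
      have : Finset.bipartiteBelow rel B x = B.erase x := by
        ext y
        simp only [Finset.bipartiteBelow, hB, hrel, Finset.mem_filter, Finset.mem_univ, true_and,
          Finset.mem_erase]
        constructor
        · rintro ⟨hy, ho⟩
          refine ⟨?_, hy⟩
          rintro rfl
          rw [inv_mul_cancel, orderOf_one] at ho
          exact D.hp.one_lt.ne ho
        · rintro ⟨hne, hy⟩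
          refine ⟨hy, ?_⟩
          rcases D.rel_cases hy.2 hx.2 with h | h | h
          · exact absurd h hne
          · exact h
          · exact absurd h (D.rel_X hy hx)
      rw [this, Finset.card_erase_of_mem (by simpa [hB] using hx), hBc]
    rw [← hkey, ← hB', Finset.bipartiteBelow, Finset.bipartiteBelow, Finset.bipartiteBelow,
      Finset.filter_union, Finset.card_union_of_disjoint]
    refine Finset.disjoint_filter_filter ?_
    simp only [hA, hB, Finset.disjoint_filter]; tauto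
  have hdc := Finset.sum_card_bipartiteAbove_eq_sum_card_bipartiteBelow rel (s := A) (t := B)
  rw [Finset.sum_congr rfl fun v hv => (hl v hv).1, Finset.sum_const, smul_eq_mul] at hdc
  have hBsum : ∑ x ∈ B, (Finset.bipartiteBelow rel A x).card = D.n * ((Ω.card - 1) * (D.n - 1)) := by
    rw [Finset.sum_congr rfl fun x hx => (show (Finset.bipartiteBelow rel A x).card =
      (Ω.card - 1) * (D.n - 1) by
        have := hr x hx
        rw [hptsc] at this
        have h2 : 0 < Ω.card := Finset.card_pos.2 ⟨_, hXΩ⟩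
        rw [Nat.sub_one_mul]; omega), Finset.sum_const, hBc, smul_eq_mul]
  rw [hBsum] at hdc
  have hv0A : v0 ∈ A := Finset.mem_filter.2 ⟨Finset.mem_univ _, hv0, hv0X⟩
  have he1 := (hl v0 hv0A).2
  have he0 : 0 < D.n - D.T := by
    have h1 := hu v0 ⟨trivial, hv0.2⟩ hv0X
    have h2 := D.card_pnbr (v := v0) ⟨trivial, hv0.2⟩ hv0X
    omega
  have hLn : Nat.card (D.inv L) ≤ D.n * D.m := by
    rw [← D.card_top, Nat.card_coe_set_eq, Nat.card_coe_set_eq]
    exact Set.ncard_le_ncard (D.inv_mono le_top) (Set.toFinite _)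
  have h5 : D.n * (D.n - 1) ≤ A.card := by
    refine Nat.le_of_mul_le_mul_right ?_ he0
    rw [hdc, mul_assoc, mul_comm (Ω.card - 1)]
    exact Nat.mul_le_mul_left _ (Nat.mul_le_mul_left _ (by omega))
  have h6 : D.n * D.m < D.n * D.n := Nat.mul_lt_mul_of_pos_left hnm (by omega)
  rw [Nat.mul_sub_one] at h5
  have h7 : D.n ≤ D.n * D.n := Nat.le_mul_self _
  omega

theorem exists_dvd : ∃ k, D.n ≤ (D.p ^ k) ^ 2 ∧ D.p ^ k ∣ D.m - 1 := by
  classical
  haveI := Fact.mk D.hp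
  obtain ⟨a, ha⟩ := D.n_eq_pow
  refine ⟨(a + 1) / 2, ?_, ?_⟩
  · rw [ha, ← pow_mul]; exact Nat.pow_le_pow_right D.hp.pos (by omega)
  let α := {v : K // v ∈ D.inv ⊤ ∧ v ∉ D.X}
  letI : MulAction D.R α :=
    { smul := fun r v => ⟨D.act (r : K) v.1, ⟨trivial, D.act_inverted v.2.1.2⟩, fun h => v.2.2 (by
        have := D.act_mem_inv D.sylP_spec.2 (D.sylP.inv_mem (D.R_le r.2)) h
        rwa [D.act_act, inv_mul_cancel, D.act_one] at this)⟩
      one_smul := fun v => Subtype.ext (D.act_one v.1)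
      mul_smul := fun r s v => Subtype.ext (D.act_act (r : K) (s : K) v.1).symm }
  have hcard : Nat.card α = D.n * (D.m - 1) := by
    have h1 : (D.inv ⊤ \ D.X).ncard = D.n * D.m - D.n := by
      rw [Set.ncard_sdiff (show D.X ⊆ D.inv ⊤ from fun x hx => ⟨trivial, hx.2⟩), D.card_X, ← Nat.card_coe_set_eq,
        D.card_top]
    rw [Nat.mul_sub_one, ← h1, ← Nat.card_coe_set_eq]
    rfl
  have hdvd : D.n * D.p ^ ((a + 1) / 2) ∣ Nat.card α := by
    rw [Nat.card_congr (MulAction.selfEquivSigmaOrbits D.R α)]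
    haveI := Fintype.ofFinite (MulAction.orbitRel.Quotient D.R α)
    rw [Nat.card_sigma]
    refine Finset.dvd_sum fun o _ => ?_
    set v := Quotient.out o
    rw [Nat.card_coe_set_eq, ← MulAction.index_stabilizer]
    set S := (MulAction.stabilizer D.R v).map D.R.subtype with hS
    have hSR : S ≤ D.R := Subgroup.map_subtype_le _
    have hSZ : S ≤ D.Zf := by
      rintro _ ⟨r, hr, rfl⟩
      exact D.stab_le hu r.2 v.2.1.2 (congrArg Subtype.val hr)
    have e : (MulAction.stabilizer D.R v).index = S.relIndex D.R := by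
      rw [hS, Subgroup.relIndex, Subgroup.subgroupOf,
        Subgroup.comap_map_eq_self_of_injective D.R.subtype_injective]
    rw [e, ← Subgroup.relIndex_mul_relIndex S D.Zf D.R hSZ inf_le_left, D.relIndex_Zf hu, mul_comm]
    refine mul_dvd_mul_right ?_ _
    have hbig : D.n ≤ S.relIndex D.Zf ^ 2 := by
      by_contra hlt
      push Not at hlt
      refine v.2.2 ((D.fixes hu hnm hSZ hlt).le ⟨?_, v.2.1.2⟩)
      refine Subgroup.mem_centralizer_iff.2 ?_
      rintro _ ⟨r, hr, rfl⟩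
      have h1 : D.act (r : K) v.1 = v.1 := congrArg Subtype.val hr
      have hf : D.σ (r : K) = r := (hSZ ⟨r, hr, rfl⟩).2
      rw [D.act_fix hf, mul_inv_eq_iff_eq_mul] at h1
      exact h1
    have hp : IsPGroup D.p D.Zf := D.sylP_spec.1.2.1.to_le (inf_le_left.trans D.R_le)
    obtain ⟨j, hj⟩ : ∃ j, S.relIndex D.Zf = D.p ^ j := by
      obtain ⟨j, hj⟩ := hp.index (S.subgroupOf D.Zf)
      exact ⟨j, hj⟩
    rw [hj]
    refine pow_dvd_pow _ ?_
    rw [hj, ha, ← pow_mul] at hbig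
    have := (Nat.pow_le_pow_iff_right D.hp.one_lt).1 hbig
    omega
  rw [hcard] at hdvd
  exact Nat.dvd_of_mul_dvd_mul_left (by have := D.one_lt_n; omega) hdvd

end TwoPrime

end CfsgLib.RankThreeInv
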