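import Mathlib

/-!
Sets of involutions whose non-commuting pairs have product of one fixed odd prime order.
-/

set_option autoImplicit false
set_option linter.unusedSectionVars false
set_option linter.style.haveILetI false

namespace CfsgLib.RankThreeInv

universe u

/-- A conjugation closed set of elements squaring to one whose non-commuting pairs have product of
exponent `p`, a prime at least five. -/
structure Pure {G : Type u} [Group G] (p : ℕ) (D : Set G) : Prop where
  prime : p.Prime
  five : 5 ≤ p
  sq : ∀ d ∈ D, d * d = 1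
  conj : ∀ d ∈ D, ∀ g : G, g * d * g⁻¹ ∈ D
  ord : ∀ a ∈ D, ∀ b ∈ D, ¬ Commute a b → (a * b) ^ p = 1

theorem commute_of_pow_eq_one {G : Type u} [Group G] {c h : G} {p k : ℕ} (hp : p.Prime) (hh : h ^ p = 1)
    (hk : ¬ p ∣ k) (hc : Commute c (h ^ k)) : Commute c h := by
  have hco : k.Coprime (orderOf h) :=
    ((hp.coprime_iff_not_dvd.2 hk).symm).coprime_dvd_right (orderOf_dvd_of_pow_eq_one hh)
  obtain ⟨m, hm⟩ := exists_pow_eq_self_of_coprime hco
  rw [← hm]
  exact hc.pow_right m

namespace Pure

variable {G : Type u} [Group G] {p : ℕ} {D : Set G} (P : Pure p D)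
include P

theorem inv_eq {d : G} (hd : d ∈ D) : d⁻¹ = d := inv_eq_of_mul_eq_one_right (P.sq d hd)

theorem cancel {d : G} (hd : d ∈ D) (y : G) : d * (d * y) = y := by rw [← mul_assoc, P.sq d hd, one_mul]

theorem conj_self {a : G} (ha : a ∈ D) (g : G) : a * g * a⁻¹ = a * g * a := by rw [P.inv_eq ha]

theorem conj_mem {a b : G} (ha : a ∈ D) (hb : b ∈ D) : a * b * a ∈ D := by
  rw [← P.conj_self ha]; exact P.conj b hb a

theorem odd : Odd p := P.prime.odd_of_ne_two (by have := P.five; omega)

theorem not_dvd {k : ℕ} (hk : 0 < k) (hk5 : k < 5) : ¬ p ∣ k :=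
  fun h => by have := Nat.le_of_dvd hk h; have := P.five; omega

theorem mul_ne_one {a b : G} (ha : a ∈ D) (h : ¬ Commute a b) : a * b ≠ 1 := fun e => h (by
  rw [← inv_eq_of_mul_eq_one_right e]; exact (Commute.refl a).inv_right)

theorem orderOf_mul {a b : G} (ha : a ∈ D) (hb : b ∈ D) (h : ¬ Commute a b) : orderOf (a * b) = p :=
  haveI := Fact.mk P.prime
  orderOf_eq_prime (P.ord a ha b hb h) (P.mul_ne_one ha h)

/-- Conjugation by a member inverts the products it takes part in. -/
theorem conj_mul_left {a b : G} (ha : a ∈ D) (hb : b ∈ D) : a * (a * b) * a = (a * b)⁻¹ := by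
  rw [P.cancel ha, mul_inv_rev, P.inv_eq ha, P.inv_eq hb]

theorem conj_mul_right {a b : G} (ha : a ∈ D) (hb : b ∈ D) : b * (a * b) * b = (a * b)⁻¹ := by
  rw [mul_inv_rev, P.inv_eq ha, P.inv_eq hb, mul_assoc, mul_assoc, P.sq b hb, mul_one]

theorem commute_iff_sq {a b : G} (ha : a ∈ D) (hb : b ∈ D) : Commute a b ↔ (a * b) ^ 2 = 1 := by
  constructor
  · intro h; rw [h.mul_pow, pow_two, pow_two, P.sq a ha, P.sq b hb, one_mul]
  · intro h
    have e : (a * b)⁻¹ = a * b := inv_eq_of_mul_eq_one_right (by rwa [← pow_two])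
    rw [mul_inv_rev, P.inv_eq ha, P.inv_eq hb] at e
    exact e.symm

theorem nc_conj {a b : G} (ha : a ∈ D) (hb : b ∈ D) (h : ¬ Commute a b) : ¬ Commute b (a * b * a) := by
  intro hc
  rw [P.commute_iff_sq hb (P.conj_mem ha hb)] at hc
  refine P.mul_ne_one hb (fun e => h e.symm) ?_
  have h4 : (b * a) ^ 4 = 1 := by
    rw [← hc]; simp only [pow_succ, pow_zero, one_mul, mul_assoc]
  have hp : (b * a) ^ p = 1 := P.ord b hb a ha fun e => h e.symm
  exact orderOf_eq_one_iff.1 (Nat.eq_one_of_dvd_coprimes
    (P.prime.coprime_iff_not_dvd.2 (P.not_dvd (by norm_num) (by norm_num)))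
    (orderOf_dvd_of_pow_eq_one hp) (orderOf_dvd_of_pow_eq_one h4))

/-- The reflections of a dihedral subgroup are members. -/
theorem refl_mem {a b : G} (ha : a ∈ D) (hb : b ∈ D) : ∀ i : ℕ, (a * b) ^ i * a ∈ D
  | 0 => by simpa using ha
  | 1 => by simpa using P.conj_mem ha hb
  | i + 2 => by
    have h := P.conj_mem ha (P.conj_mem hb (refl_mem ha hb i))
    have e : (a * b) ^ (i + 2) * a = a * (b * ((a * b) ^ i * a) * b) * a := by
      rw [pow_succ, pow_succ']; simp only [mul_assoc]
    rwa [e]

/-- Two non-commuting members are exchanged by a third. -/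
theorem exists_swap {a b : G} (ha : a ∈ D) (hb : b ∈ D) (h : ¬ Commute a b) :
    ∃ j ∈ D, j * a * j = b := by
  obtain ⟨m, hm⟩ := P.odd
  refine ⟨_, P.refl_mem ha hb m, ?_⟩
  have e : (a * b) ^ (2 * m) = (a * b)⁻¹ :=
    eq_inv_of_mul_eq_one_left (by rw [← pow_succ, ← hm, P.ord a ha b hb h])
  calc (a * b) ^ m * a * a * ((a * b) ^ m * a) = (a * b) ^ (2 * m) * a := by
        rw [mul_assoc ((a * b) ^ m) a a, P.sq a ha, mul_one, ← mul_assoc, two_mul, pow_add]
    _ = b := by rw [e, mul_inv_rev, P.inv_eq ha, P.inv_eq hb, mul_assoc, P.sq a ha, mul_one]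

theorem line_two {a b c : G} (ha : a ∈ D) (hb : b ∈ D) (hab : ¬ Commute a b) (h1 : Commute c a)
    (h2 : Commute c (b * a * b)) : Commute c b := by
  have h : Commute c ((a * b) ^ 2) := by
    have := h1.mul_right h2
    rwa [show a * (b * a * b) = (a * b) ^ 2 by rw [pow_two]; simp only [mul_assoc]] at this
  have h3 := commute_of_pow_eq_one P.prime (P.ord a ha b hb hab) (P.not_dvd two_pos (by norm_num)) h
  simpa [P.cancel ha] using h1.mul_right h3

/-- A member centralising an element commutes with the members inverting it. -/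
theorem inv_rot {y j h : G} (hy : y ∈ D) (hj : j ∈ D) (hc : Commute y h) (hjh : j * h * j = h⁻¹)
    (h2 : h * h ≠ 1) : Commute y j := by
  by_contra hne
  obtain ⟨m, hm⟩ := P.odd
  set r := y * j with hr
  have h1 : r * h * r⁻¹ = h⁻¹ := by
    rw [hr, mul_inv_rev, P.inv_eq hj, P.inv_eq hy,
      show y * j * h * (j * y) = y * (j * h * j) * y by group, hjh, hc.inv_right.eq, mul_assoc,
      P.sq y hy, mul_one]
  have h3 : r * h⁻¹ * r⁻¹ = h := by
    have := congrArg (·⁻¹) h1
    simpa only [mul_inv_rev, inv_inv, mul_assoc] using this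
  have h4 : Commute (r ^ 2) h := by
    rw [commute_iff_eq, ← mul_inv_eq_iff_eq_mul]
    calc r ^ 2 * h * (r ^ 2)⁻¹ = r * (r * h * r⁻¹) * r⁻¹ := by
          rw [pow_two, mul_inv_rev]; simp only [mul_assoc]
      _ = h := by rw [h1, h3]
  have h5 : Commute r h := by
    have e : (r ^ 2) ^ (m + 1) = r := by
      rw [← pow_mul, show 2 * (m + 1) = p + 1 by omega, pow_succ, hr, P.ord y hy j hj hne, one_mul]
    rw [← e]; exact h4.pow_left _
  refine h2 ?_
  rw [h5.eq, mul_assoc, mul_inv_cancel, mul_one] at h1
  nth_rw 2 [h1]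
  rw [mul_inv_cancel]

theorem twin {x z y : G} (hx : x ∈ D) (hz : z ∈ D) (hy : y ∈ D) (hxz : x ≠ z) (hc : Commute x z)
    (h : Commute y (x * z)) : Commute y x := by
  by_contra hne
  set u := x * z with hu
  have hu1 : u ≠ 1 := fun e => hxz (by rw [← P.inv_eq hz]; exact eq_inv_of_mul_eq_one_left e)
  have hu2 : u * u = 1 := by
    rw [hu, hc.symm.mul_mul_mul_comm, P.sq x hx, P.sq z hz, one_mul]
  have hux : Commute u x := (Commute.refl x).mul_left hc.symm
  have hzu : z = u * x := by rw [hux.eq, hu, P.cancel hx]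
  by_cases hzy : Commute z y
  · refine hne ?_
    have : x = u * z := by rw [hu, mul_assoc, P.sq z hz, mul_one]
    rw [this]
    exact h.mul_right hzy.symm
  have hord := P.ord z hz y hy hzy
  have hcm : Commute u (x * y) := hux.mul_right h.symm
  rw [hzu, mul_assoc, hcm.mul_pow, P.ord x hx y hy fun e => hne e.symm, mul_one] at hord
  obtain ⟨m, hm⟩ := P.odd
  rw [hm, pow_succ, pow_mul, pow_two, hu2, one_pow, one_mul] at hord
  exact hu1 hord

theorem twin' {x z y : G} (hx : x ∈ D) (hz : z ∈ D) (hy : y ∈ D) (hxz : x ≠ z) (hc : Commute x z)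
    (h : Commute y (x * z)) : Commute y z :=
  P.twin hz hx hy hxz.symm hc.symm (by rwa [hc.eq] at h)

/-- A member commuting with one of a special pair commutes with both. -/
theorem special {x z y : G} (hx : x ∈ D) (hz : z ∈ D) (hy : y ∈ D) (hc : Commute x z) (hu : x * z ∈ D)
    (hx1 : x ≠ 1) (h : Commute y x) : Commute y z := by
  by_cases e : x * z = z
  · exact absurd (mul_eq_right.1 e) hx1
  refine P.twin' hu hz hy e (hc.mul_left (Commute.refl z)) ?_
  rwa [mul_assoc, P.sq z hz, mul_one]

theorem lemmaX {x z w : G} (hx : x ∈ D) (hz : z ∈ D) (hw : w ∈ D) (hxz : Commute x z)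
    (hwx : ¬ Commute w x) (hwz : ¬ Commute w z) : ¬ Commute (w * x * w) (z * w * z) := by
  intro h
  refine hwx ?_
  have hv : z * w * z ∈ D := P.conj_mem hz hw
  -- conjugate by `z`
  have h1 : Commute ((z * w * z) * x * (z * w * z)) w := by
    have h' := h.map (MulAut.conj z).toMonoidHom
    simp only [MulEquiv.coe_toMonoidHom, MulAut.conj_apply, P.inv_eq hz] at h'
    rw [show z * w * z * x * (z * w * z) = z * (w * x * w) * z by
      have : z * x * z = x := by rw [← hxz.eq, mul_assoc, P.sq z hz, mul_one]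
      calc z * w * z * x * (z * w * z) = z * w * (z * x * z) * w * z := by simp only [mul_assoc]
        _ = _ := by rw [this]; simp only [mul_assoc]]
    have e : z * (z * w * z) * z = w := by
      simp only [mul_assoc, P.sq z hz, mul_one, P.cancel hz]
    rwa [e] at h'
  have h2 : Commute x ((z * w * z) * w * (z * w * z)) := by
    have h' := h1.map (MulAut.conj (z * w * z)).toMonoidHom
    simp only [MulEquiv.coe_toMonoidHom, MulAut.conj_apply, P.inv_eq hv] at h'
    have e : z * w * z * (z * w * z * x * (z * w * z)) * (z * w * z) = x := by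
      rw [mul_assoc _ x, P.cancel hv, mul_assoc, P.sq _ hv, mul_one]
    rwa [e] at h'
  have h3 : Commute x ((w * z) ^ 3) := by
    have := hxz.mul_right h2
    rwa [show z * (z * w * z * w * (z * w * z)) = (w * z) ^ 3 by
      simp only [mul_assoc, P.cancel hz, pow_succ, pow_zero, one_mul]] at this
  have h4 := commute_of_pow_eq_one P.prime (P.ord w hw z hz hwz) (P.not_dvd three_pos (by norm_num)) h3
  have h5 := h4.mul_right hxz
  rw [mul_assoc, P.sq z hz, mul_one] at h5
  exact h5.symm

/-- With commuting transported, there is no induced path on four members. -/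
theorem no_path (hR : ∀ x ∈ D, ∀ z ∈ D, ∀ w ∈ D, Commute x z → ¬ Commute w x → ¬ Commute w z →
      Commute (x * z * w * (x * z)⁻¹) w)
    {a b c d : G} (ha : a ∈ D) (hb : b ∈ D) (hc : c ∈ D) (hd : d ∈ D) (hac : Commute a c)
    (had : Commute a d) (hbd : Commute b d) (hab : ¬ Commute a b) (hbc : ¬ Commute b c)
    (hcd : ¬ Commute c d) : False := by
  have cj : ∀ (g : G) {s t : G}, g ∈ D → Commute s t → Commute (g * s * g) (g * t * g) := fun g s t hg h => by
    have := h.map (MulAut.conj g).toMonoidHom
    simpa only [MulEquiv.coe_toMonoidHom, MulAut.conj_apply, P.inv_eq hg] using this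
  have fx : ∀ {g s : G}, g ∈ D → Commute g s → g * s * g = s := fun {g s} hg h => by
    rw [h.eq, mul_assoc, P.sq g hg, mul_one]
  set e := b * c * b with he
  have heD : e ∈ D := P.conj_mem hb hc
  have hinv : ∀ {s t : G}, s ∈ D → t ∈ D → Commute s t → ∀ v, s * t * v * (s * t)⁻¹ = s * (t * v * t) * s := by
    intro s t hs ht _ v; rw [mul_inv_rev, P.inv_eq hs, P.inv_eq ht]; simp only [mul_assoc]
  have h1 : Commute c (d * e * d) := by
    have := hR b hb d hd c hc hbd (fun h => hbc h.symm) hcd
    rw [hbd.eq, hinv hd hb hbd.symm] at this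
    exact this.symm
  have hea : ¬ Commute a e := fun h => hab (P.line_two hc hb (fun h' => hbc h'.symm) hac h)
  have hed : ¬ Commute d e := fun h => hcd (by
    have := cj b hb h
    rw [fx hb hbd, he] at this
    simpa only [mul_assoc, P.cancel hb, P.sq b hb, mul_one] using this.symm)
  have h2 : Commute (d * e * d) (a * e * a) := by
    have := hR a ha d hd e heD had (fun h => hea h.symm) (fun h => hed h.symm)
    rw [had.eq, hinv hd ha had.symm] at this
    have := cj d hd this
    rwa [show d * (d * (a * e * a) * d) * d = a * e * a by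
      simp only [mul_assoc, P.cancel hd, P.sq d hd, mul_one], Commute.symm_iff] at this
  have hnb : ¬ Commute c (a * b * a) := fun h => hbc (by
    have := cj a ha h
    rw [fx ha hac] at this
    simpa only [mul_assoc, P.cancel ha, P.sq a ha, mul_one] using this.symm)
  have haba : a * b * a ∈ D := P.conj_mem ha hb
  have h3 : Commute (d * e * d) (a * b * a) := by
    refine P.line_two hc haba hnb h1.symm ?_
    rwa [show a * b * a * c * (a * b * a) = a * e * a by
      rw [he]
      calc a * b * a * c * (a * b * a) = a * b * (a * c * a) * b * a := by simp only [mul_assoc]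
        _ = _ := by rw [fx ha hac]; simp only [mul_assoc]]
  have h4 := cj d hd h3
  rw [show d * (d * e * d) * d = e by simp only [mul_assoc, P.cancel hd, P.sq d hd, mul_one],
    fx hd ((had.symm.mul_right hbd.symm).mul_right had.symm)] at h4
  exact P.lemmaX hc ha hb hac.symm hbc (fun h => hab h.symm) h4

end Pure

/-- A graph without induced paths on four vertices on at least two vertices, or its complement,
is disconnected. -/
theorem exists_split {α : Type*} [DecidableEq α] (R : α → α → Prop) (hs : ∀ a b, R a b → R b a)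
    (hP : ∀ a b c d, R a c → R a d → R b d → ¬ R a b → ¬ R b c → ¬ R c d → False) (s : Finset α)
    (h : 1 < s.card) :
    ∃ A B : Finset α, A.Nonempty ∧ B.Nonempty ∧ Disjoint A B ∧ A ∪ B = s ∧
      ((∀ a ∈ A, ∀ b ∈ B, R a b) ∨ ∀ a ∈ A, ∀ b ∈ B, ¬ R a b) := by
  classical
  induction s using Finset.induction with
  | empty => simp at h
  | @insert v s hv ih =>
    by_cases hall : ∀ y ∈ s, R v y
    · refine ⟨{v}, s, Finset.singleton_nonempty v, ?_, by simpa using hv, by simp, Or.inl (by simpa using hall)⟩
      rw [Finset.card_insert_of_notMem hv] at h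
      exact Finset.card_pos.1 (by omega)
    by_cases hnone : ∀ y ∈ s, ¬ R v y
    · refine ⟨{v}, s, Finset.singleton_nonempty v, ?_, by simpa using hv, by simp, Or.inr (by simpa using hnone)⟩
      rw [Finset.card_insert_of_notMem hv] at h
      exact Finset.card_pos.1 (by omega)
    push Not at hall hnone
    obtain ⟨y, hy, hvy⟩ := hall
    obtain ⟨z, hz, hvz⟩ := hnone
    have hyz : y ≠ z := fun e => hvy (e ▸ hvz)
    obtain ⟨A, B, hA, hB, hAB, hU, hsplit⟩ := ih (Finset.one_lt_card.2 ⟨y, hy, z, hz, hyz⟩)
    -- the general step, for a relation on which the two parts are unrelated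
    have key : ∀ S : α → α → Prop, (∀ a b, S a b → S b a) →
        (∀ a b c d, S a c → S a d → S b d → ¬ S a b → ¬ S b c → ¬ S c d → False) →
        (∀ a ∈ A, ∀ b ∈ B, ¬ S a b) →
        ∃ A' B' : Finset α, A'.Nonempty ∧ B'.Nonempty ∧ Disjoint A' B' ∧ A' ∪ B' = insert v s ∧
          ((∀ a ∈ A', ∀ b ∈ B', S a b) ∨ ∀ a ∈ A', ∀ b ∈ B', ¬ S a b) := by
      intro S hSs hSP hcross
      by_cases hvA : ∀ a ∈ A, ¬ S v a
      · refine ⟨A, insert v B, hA, Finset.insert_nonempty _ _, ?_, ?_, Or.inr ?_⟩
        · rw [Finset.disjoint_insert_right]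
          exact ⟨fun h => hv (hU ▸ Finset.mem_union_left _ h), hAB⟩
        · rw [Finset.union_insert, hU]
        · intro a ha b hb
          rcases Finset.mem_insert.1 hb with rfl | hb
          · exact fun h => hvA a ha (hSs _ _ h)
          · exact hcross a ha b hb
      by_cases hvB : ∀ b ∈ B, ¬ S v b
      · refine ⟨insert v A, B, Finset.insert_nonempty _ _, hB, ?_, ?_, Or.inr ?_⟩
        · rw [Finset.disjoint_insert_left]
          exact ⟨fun h => hv (hU ▸ Finset.mem_union_right _ h), hAB⟩
        · rw [Finset.insert_union, hU]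
        · intro a ha b hb
          rcases Finset.mem_insert.1 ha with rfl | ha
          · exact hvB b hb
          · exact hcross a ha b hb
      push Not at hvA hvB
      obtain ⟨a1, ha1, hva1⟩ := hvA
      obtain ⟨b1, hb1, hvb1⟩ := hvB
      -- the neighbours of `v` split off
      set M := s.filter (fun w => ¬ S v w) with hM
      by_cases hMe : M = ∅
      · refine ⟨{v}, s, Finset.singleton_nonempty v, ⟨a1, hU ▸ Finset.mem_union_left _ ha1⟩,
          by simpa using hv, by simp, Or.inl ?_⟩
        intro a ha b hb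
        rw [Finset.mem_singleton] at ha
        subst ha
        by_contra hc
        exact Finset.eq_empty_iff_forall_notMem.1 hMe b (Finset.mem_filter.2 ⟨hb, hc⟩)
      refine ⟨insert v (s.filter (fun w => S v w)), M, Finset.insert_nonempty _ _,
        Finset.nonempty_iff_ne_empty.2 hMe, ?_, ?_, Or.inr ?_⟩
      · rw [Finset.disjoint_insert_left]
        exact ⟨fun h => hv (Finset.mem_filter.1 h).1, Finset.disjoint_filter_filter_not _ _ _⟩
      · rw [Finset.insert_union, Finset.filter_union_filter_not_eq]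
      · intro a ha b hb
        obtain ⟨hbs, hvb⟩ := Finset.mem_filter.1 hb
        rcases Finset.mem_insert.1 ha with rfl | ha
        · exact hvb
        · intro hab
          obtain ⟨has, hva⟩ := Finset.mem_filter.1 ha
          rcases Finset.mem_union.1 (hU ▸ has) with haA | haB
          · rcases Finset.mem_union.1 (hU ▸ hbs) with hbA | hbB
            · exact hSP v b b1 a hvb1 hva (hSs _ _ hab) hvb (hcross b hbA b1 hb1)
                (fun h => hcross a haA b1 hb1 (hSs _ _ h))
            · exact hcross a haA b hbB hab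
          · rcases Finset.mem_union.1 (hU ▸ hbs) with hbA | hbB
            · exact hcross b hbA a haB (hSs _ _ hab)
            · exact hSP v b a1 a hva1 hva (hSs _ _ hab) hvb
                (fun h => hcross a1 ha1 b hbB (hSs _ _ h)) (hcross a1 ha1 a haB)
    rcases hsplit with hsplit | hsplit
    · obtain ⟨A', B', h1, h2, h3, h4, h5⟩ := key (fun a b => ¬ R a b)
        (fun a b h h' => h (hs _ _ h'))
        (fun a b c d h1 h2 h3 h4 h5 h6 => hP c a d b (not_not.1 h6)
          (hs _ _ (not_not.1 h5)) (not_not.1 h4) (fun h => h1 (hs _ _ h)) h2 (fun h => h3 (hs _ _ h)))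
        (fun a ha b hb => not_not.2 (hsplit a ha b hb))
      exact ⟨A', B', h1, h2, h3, h4, h5.symm.imp (fun h a ha b hb => not_not.1 (h a ha b hb)) id⟩
    · exact key R hs hP hsplit

end CfsgLib.RankThreeInv
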