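import Cfsg.Agent.RankThreeInv.Numeric
import Cfsg.Agent.RankThreeInv.Blocks
import Cfsg.Agent.RankThreeInv.Orbit
import Cfsg.Agent.RankThreeInv.Eigen

/-!
The two-prime configuration does not occur.
-/

set_option autoImplicit false
set_option linter.unusedSectionVars false
set_option linter.style.haveILetI false

namespace CfsgLib.RankThreeInv

universe u

namespace TwoPrime

variable {K : Type u} [Group K] [Finite K] (D : TwoPrime K)
include D

theorem false_of_lt (hP : ∀ N : Subgroup K, N.Normal → IsPGroup D.p N → N = ⊥)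
    (hQ : ∀ N : Subgroup K, N.Normal → IsPGroup D.q N → N = ⊥) (hmn : D.m < D.n) : False := by
  by_cases ht1 : D.t = 1
  · exact D.no_blocks ht1 hP
  by_cases hT1 : D.T = 1
  · exact D.swap.no_blocks (show D.swap.t = 1 from hT1) hQ
  have hn1 := D.one_lt_n
  have hm1 := D.one_lt_m
  have ht0 := D.t_pos
  have hT0 := D.T_pos
  have htot := D.card_total
  have hu : ∀ v ∈ D.inv ⊤, v ∉ D.X → 0 < Nat.card (D.pnbr v) := by
    intro v hv hvX
    refine Nat.pos_of_ne_zero fun h => ?_
    have h1 := D.card_pnbr hv hvX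
    rw [h, zero_add] at h1
    rw [h1] at htot
    obtain ⟨n', hn'⟩ : ∃ n', D.n = n' + 1 := ⟨D.n - 1, by omega⟩
    obtain ⟨m', hm'⟩ : ∃ m', D.m = m' + 1 := ⟨D.m - 1, by omega⟩
    rw [hn', hm', Nat.add_sub_cancel, Nat.add_sub_cancel] at htot
    have h2 : n' * D.t = n' * 1 := by linarith [show (n' + 1) * (m' + 1) = n' * m' + n' + m' + 1 from by ring,
      show m' * (n' + 1) = n' * m' + m' from by ring]
    exact ht1 (Nat.eq_of_mul_eq_mul_left (by omega) h2)
  obtain ⟨d, α, β, hd, hαβ, hα, hβ⟩ : ∃ d α β, 0 < d ∧ Nat.Coprime α β ∧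
      D.n = 1 + α * d ∧ D.m = 1 + β * d := by
    obtain ⟨α, β, hco, e1, e2⟩ := Nat.exists_coprime (D.n - 1) (D.m - 1)
    refine ⟨(D.n - 1).gcd (D.m - 1), α, β, Nat.gcd_pos_of_pos_left _ (by omega : 0 < D.n - 1), hco, ?_, ?_⟩
    · rw [← e1]; omega
    · rw [← e2]; omega
  have hlt : β < α := by
    rw [hα, hβ] at hmn
    exact Nat.lt_of_mul_lt_mul_right (a := d) (by omega)
  have hβ0 : 0 < β := by
    rcases Nat.eq_zero_or_pos β with h | h
    · rw [h, zero_mul] at hβ; omega
    · exact h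
  obtain ⟨t', ht'⟩ : ∃ t', D.t = 1 + t' := ⟨D.t - 1, by omega⟩
  obtain ⟨T', hT'⟩ : ∃ T', D.T = 1 + T' := ⟨D.T - 1, by omega⟩
  have key : α * t' + β * T' = α * β * d := by
    rw [hα, hβ, ht', hT', Nat.add_sub_cancel_left, Nat.add_sub_cancel_left] at htot
    refine Nat.eq_of_mul_eq_mul_left hd ?_
    linarith [show (1 + α * d) * (1 + β * d) = 1 + α * d + β * d + d * (α * β * d) from by ring,
      show α * d * (1 + t') = α * d + d * (α * t') from by ring,
      show β * d * (1 + T') = β * d + d * (β * T') from by ring]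
  obtain ⟨u, hu'⟩ : β ∣ t' := by
    have h : β ∣ α * t' + β * T' := by rw [key]; exact ⟨α * d, by ring⟩
    exact hαβ.symm.dvd_of_dvd_mul_left ((Nat.dvd_add_left (Dvd.intro T' rfl)).1 h)
  obtain ⟨v, hv'⟩ : α ∣ T' := by
    have h : α ∣ α * t' + β * T' := by rw [key]; exact ⟨β * d, by ring⟩
    exact hαβ.dvd_of_dvd_mul_left ((Nat.dvd_add_right (Dvd.intro t' rfl)).1 h)
  subst hu' hv'
  have e : α * (β * u) + β * (α * v) = α * β * (u + v) := by ring
  have huv : u + v = d :=
    Nat.eq_of_mul_eq_mul_left (show 0 < α * β from Nat.mul_pos (by omega) hβ0) (e.symm.trans key)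
  have hu0 : 0 < u := by
    rcases Nat.eq_zero_or_pos u with h | h
    · rw [h] at ht'; simp at ht'; exact absurd ht' ht1
    · exact h
  have hv0 : 0 < v := by
    rcases Nat.eq_zero_or_pos v with h | h
    · rw [h] at hT'; simp at hT'; exact absurd hT' hT1
    · exact h
  obtain ⟨a, ha⟩ := D.n_eq_pow
  obtain ⟨b, hb⟩ := D.swap.n_eq_pow
  obtain ⟨k, hk1, hk2⟩ := D.exists_dvd hu hmn
  have hk : k ≠ 0 := by
    rintro rfl
    simp at hk1
    omega
  have hpd : D.p.Coprime d := by
    rw [D.hp.coprime_iff_not_dvd]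
    intro h
    have h1 : D.p ∣ 1 + α * d := by
      rw [← hα, ha]
      refine dvd_pow_self _ ?_
      rintro rfl
      simp at ha
      omega
    exact D.hp.not_dvd_one ((Nat.dvd_add_left (dvd_mul_of_dvd_right h α)).1 h1)
  have hpk : D.p ^ k ∣ β := by
    rw [hβ, Nat.add_sub_cancel_left] at hk2
    exact (hpd.pow_left k).dvd_of_dvd_mul_right hk2
  have hn2 : D.n ≤ β * β := hk1.trans (by
    rw [sq]; exact Nat.mul_le_mul (Nat.le_of_dvd hβ0 hpk) (Nat.le_of_dvd hβ0 hpk))
  obtain ⟨hf, htm, hTn⟩ := D.eigen hα hβ ht' hT' huv hd hαβ hlt hn2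
  rw [ht', hT'] at htm hTn
  exact no_parameters D.hp D.hq D.hpq ha hb hα hβ hlt hn2 ((dvd_pow_self _ hk).trans hpk) huv
    hu0 hv0 htm hTn hf

/-- The two-prime configuration has a normal subgroup of prime power order. -/
theorem two_prime_false (hP : ∀ N : Subgroup K, N.Normal → IsPGroup D.p N → N = ⊥)
    (hQ : ∀ N : Subgroup K, N.Normal → IsPGroup D.q N → N = ⊥) : False := by
  rcases lt_trichotomy D.m D.n with h | h | h
  · exact D.false_of_lt hP hQ h
  · have := D.coprime_n_m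
    rw [h, Nat.coprime_self] at this
    have := D.one_lt_n
    omega
  · exact D.swap.false_of_lt hQ hP h

end TwoPrime

end CfsgLib.RankThreeInv
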