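import Cfsg.Agent.RankThreeInv.NoConfig
import Cfsg.Agent.RankThreeInv.TwoPrimeFinal
import Cfsg.Agent.Invol.BaerSuzuki
import Cfsg.Agent.ZStar.Final

/-!
The reduction of the rank three involution theorem to the two configurations.
-/

set_option autoImplicit false
set_option linter.unusedSectionVars false
set_option linter.style.haveILetI false

namespace CfsgLib.RankThreeInv

open CfsgLib.Recog

universe u

variable {G : Type u} [Group G] [Finite G]

theorem pGroup_eq_bot (hsol : ∀ N : Subgroup G, N.Normal → Group.IsSolvable N → N = ⊥) {p : ℕ}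
    [Fact p.Prime] {N : Subgroup G} (hN : N.Normal) (hp : IsPGroup p N) : N = ⊥ := by
  haveI : Group.IsNilpotent N := hp.isNilpotent
  exact hsol N hN inferInstance

theorem pCore_eq_bot_of_normal (hsol : ∀ N : Subgroup G, N.Normal → Group.IsSolvable N → N = ⊥) {p : ℕ}
    [Fact p.Prime] {N : Subgroup G} [N.Normal] {M : Subgroup N} (hM : M.Normal) (hp : IsPGroup p M) :
    M = ⊥ := by
  haveI : (Cfsg.pCore p N).Characteristic := Subgroup.characteristic_iff_map_le.2 fun φ => by
    refine le_sSup ⟨?_, (CfsgLib.Comp.pCore_isPGroup' p).map _⟩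
    haveI : (Cfsg.pCore p N).Normal := inferInstance
    exact Subgroup.Normal.map inferInstance _ φ.surjective
  have h1 : M ≤ Cfsg.pCore p N := le_sSup ⟨hM, hp⟩
  have h2 : (Cfsg.pCore p N).map N.subtype = ⊥ :=
    pGroup_eq_bot hsol inferInstance ((CfsgLib.Comp.pCore_isPGroup' p).map _)
  rw [Subgroup.map_eq_bot_iff, Subgroup.ker_subtype, le_bot_iff] at h2
  exact le_bot_iff.1 (h2 ▸ h1)

/-- Pure sets do not give rank three groups. -/
theorem pure_false {p : ℕ} {D : Set G} (P : Pure p D)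
    (hsol : ∀ N : Subgroup G, N.Normal → Group.IsSolvable N → N = ⊥)
    (hconjC : ∀ a ∈ D, ∀ b ∈ D, ∃ g : G, g * a * g⁻¹ = b) (hgen : Subgroup.closure D = ⊤)
    (hcom : ∀ x ∈ D, ∃ y ∈ D, y ≠ x ∧ Commute x y) (hnc : ∀ x ∈ D, ∃ y ∈ D, ¬ Commute x y)
    (htr : ∀ x ∈ D, ∀ c ∈ D, ∀ d ∈ D, ¬ Commute x c → ¬ Commute x d →
      ∃ g : G, Commute g x ∧ g * c * g⁻¹ = d)
    (hne : D.Nonempty) : False := by
  classical
  haveI : Fintype {d // d ∈ D} := Fintype.ofFinite _
  obtain ⟨x, hx⟩ := hne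
  obtain ⟨y, hy, hxy⟩ := hnc x hx
  obtain ⟨A, B, ⟨a0, ha0⟩, ⟨b0, hb0⟩, hAB, hU, hsplit⟩ := exists_split
    (fun a b : {d // d ∈ D} => Commute (a : G) b) (fun _ _ h => h.symm)
    (fun a b c d h1 h2 h3 h4 h5 h6 => P.no_path P.R a.2 b.2 c.2 d.2 h1 h2 h3 h4 h5 h6) Finset.univ
    (Finset.one_lt_card.2 ⟨⟨x, hx⟩, Finset.mem_univ _, ⟨y, hy⟩, Finset.mem_univ _,
      fun e => hxy (by rw [show x = y from congrArg Subtype.val e])⟩)
  have hside : ∀ d, d ∈ A ∨ d ∈ B := fun d => Finset.mem_union.1 (hU ▸ Finset.mem_univ d)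
  have hdisj : ∀ {d}, d ∈ A → d ∉ B := fun h => Finset.disjoint_left.1 hAB h
  rcases hsplit with hall | hcross
  · let SA : Set G := {g | ∃ h : g ∈ D, (⟨g, h⟩ : {d // d ∈ D}) ∈ A}
    have hN : ∀ g ∈ D, ∀ a ∈ SA, g * a * g ∈ SA := by
      intro g hg a ha
      obtain ⟨ha1, ha2⟩ := ha
      refine ⟨P.conj_mem hg ha1, ?_⟩
      rcases hside ⟨g, hg⟩ with hgA | hgB
      · by_contra hb
        have hbB := (hside ⟨g * a * g, P.conj_mem hg ha1⟩).resolve_left hb
        have h := (hall _ hgA _ hbB : Commute g (g * a * g))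
        have e : g * a * g = a := by
          have h1 : g * (g * a * g) * g = g * a * g := by rw [h.eq, mul_assoc, P.sq g hg, mul_one]
          simp only [mul_assoc, P.cancel hg, P.sq g hg, mul_one] at h1 ⊢
          exact h1.symm
        exact hb (by simpa only [e] using ha2)
      · have h := (hall _ ha2 _ hgB : Commute a g)
        have e : g * a * g = a := by rw [← h.eq, mul_assoc, P.sq g hg, mul_one]
        simpa only [e] using ha2
    have hall' : ∀ g : G, g ∈ Subgroup.normalizer SA := fun g => by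
      have hle : Subgroup.closure D ≤ Subgroup.normalizer SA := (Subgroup.closure_le _).2 fun d hd => by
        rw [SetLike.mem_coe, Subgroup.mem_set_normalizer_iff]
        intro a
        rw [P.conj_self hd]
        refine ⟨hN d hd a, fun h => ?_⟩
        have := hN d hd _ h
        rwa [show d * (d * a * d) * d = a by simp only [mul_assoc, P.cancel hd, P.sq d hd, mul_one]] at this
      exact hle (hgen ▸ Subgroup.mem_top g)
    obtain ⟨g, hg⟩ := hconjC _ a0.2 _ b0.2
    obtain ⟨h1, h2⟩ := ((Subgroup.mem_set_normalizer_iff.1 (hall' g)) (a0 : G)).1 ⟨a0.2, ha0⟩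
    simp only [hg] at h2
    exact hdisj h2 hb0
  -- commuting members lie on one side
  have hsame : ∀ {a b : {d // d ∈ D}}, Commute (a : G) b → (a ∈ A ↔ b ∈ A) := fun {a b} h =>
    ⟨fun ha => (hside b).resolve_right fun hb => hcross a ha b hb h,
      fun hb => (hside a).resolve_right fun ha => hcross b hb a ha h.symm⟩
  have htrans : ∀ {a b c : G}, a ∈ D → b ∈ D → c ∈ D → Commute a b → Commute b c → Commute a c := by
    intro a b c ha hb hc hab hbc
    by_contra hac
    obtain ⟨d, hd, hdA⟩ : ∃ d, ∃ hd : d ∈ D, ((⟨d, hd⟩ : {d // d ∈ D}) ∈ A ↔ ¬ (⟨a, ha⟩ : {d // d ∈ D}) ∈ A) := by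
      by_cases h : (⟨a, ha⟩ : {d // d ∈ D}) ∈ A
      · exact ⟨b0, b0.2, iff_of_false (fun h' => hdisj h' hb0) (not_not.2 h)⟩
      · exact ⟨a0, a0.2, iff_of_true ha0 h⟩
    have had : ¬ Commute a d := fun h => by
      have := (hsame (a := ⟨a, ha⟩) (b := ⟨d, hd⟩) h)
      tauto
    obtain ⟨g, hga, hgd⟩ := htr a ha c hc d hd hac had
    have h1 : Commute a (g * b * g⁻¹) := by
      have := commute_conj g hab
      rwa [hga.eq, mul_inv_cancel_right] at this
    have h2 : Commute (g * b * g⁻¹) d := hgd ▸ commute_conj g hbc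
    have e1 := hsame (a := ⟨a, ha⟩) (b := ⟨_, P.conj b hb g⟩) h1
    have e2 := hsame (a := ⟨_, P.conj b hb g⟩) (b := ⟨d, hd⟩) h2
    tauto
  let N : Subgroup G :=
    { carrier := {k | ∀ v ∈ D, Commute v (k * v * k⁻¹)}
      one_mem' := fun v _ => by simp
      mul_mem' := fun {k l} hk hl v hv => by
        have h1 := commute_conj k (hl v hv)
        have h2 := htrans hv (P.conj v hv k) (P.conj _ (P.conj v hv l) k) (hk v hv) h1
        simpa [mul_assoc] using h2
      inv_mem' := fun {k} hk v hv => by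
        have h1 := hk _ (P.conj v hv k⁻¹)
        simpa [mul_assoc] using h1.symm }
  haveI hN : N.Normal := ⟨fun k hk g v hv => by
    have h1 := commute_conj g (hk _ (P.conj v hv g⁻¹))
    simpa [mul_assoc] using h1⟩
  obtain ⟨z, hz, hzx, hxz⟩ := hcom x hx
  have hu : x * z ∈ N := by
    intro v hv
    by_cases hvx : Commute v x
    · have h1 : Commute v (x * z) := hvx.mul_right (htrans hv hx hz hvx hxz)
      rw [← h1.eq, mul_inv_cancel_right]
    · exact (P.R x hx z hz v hv hxz hvx fun h => hvx (htrans hv hz hx h hxz.symm)).symm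
  let Bl : Set G := {d | d ∈ D ∧ Commute x d}
  set W := Subgroup.closure Bl with hW
  have hWc : ∀ g ∈ W, ∀ h ∈ W, Commute g h := by
    have h1 : W ≤ Subgroup.centralizer Bl := (Subgroup.closure_le _).2 fun a ha => by
      rw [SetLike.mem_coe, Subgroup.mem_centralizer_iff]
      exact fun b hb => (htrans hb.1 hx ha.1 hb.2.symm ha.2).eq
    have h2 : W ≤ Subgroup.centralizer (W : Set G) := (Subgroup.closure_le _).2 fun a ha => by
      rw [SetLike.mem_coe, Subgroup.mem_centralizer_iff]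
      exact fun b hb => ((Subgroup.mem_centralizer_iff.1 (h1 hb)) a ha).symm
    exact fun g hg h hh => ((Subgroup.mem_centralizer_iff.1 (h2 hg)) h hh).symm
  haveI : Fact (Nat.Prime 2) := ⟨Nat.prime_two⟩
  have hW2 : IsPGroup 2 W := fun g => ⟨1, Subtype.ext (by
    show (g : G) ^ (2 ^ 1) = 1
    rw [pow_one, pow_two]
    have key : ∀ g ∈ W, g ∈ W ∧ g * g = 1 := by
      intro g hg
      induction hg using Subgroup.closure_induction with
      | mem a ha => exact ⟨Subgroup.subset_closure ha, P.sq a ha.1⟩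
      | one => exact ⟨W.one_mem, one_mul 1⟩
      | mul a b _ _ ha hb =>
        exact ⟨W.mul_mem ha.1 hb.1, by rw [(hWc b hb.1 a ha.1).mul_mul_mul_comm, ha.2, hb.2, one_mul]⟩
      | inv a _ ha => exact ⟨W.inv_mem ha.1, by rw [← mul_inv_rev, ha.2, inv_one]⟩
    exact (key g g.2).2)⟩
  have hMn : (W.subgroupOf N).Normal := ⟨fun k hk n => by
    rw [Subgroup.mem_subgroupOf] at hk ⊢
    have hle : W.map (MulAut.conj (n : G)).toMonoidHom ≤ W := by
      rw [hW, MonoidHom.map_closure]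
      refine Subgroup.closure_mono ?_
      rintro _ ⟨d, hd, rfl⟩
      exact ⟨P.conj d hd.1 n, htrans hx hd.1 (P.conj d hd.1 n) hd.2 (n.2 d hd.1)⟩
    exact hle ⟨_, hk, rfl⟩⟩
  have h := pCore_eq_bot_of_normal hsol hMn (hW2.comap_of_injective N.subtype N.subtype_injective)
  have hxzW : x * z ∈ W := W.mul_mem (Subgroup.subset_closure ⟨hx, Commute.refl x⟩)
    (Subgroup.subset_closure ⟨hz, hxz⟩)
  have h1 : (⟨x * z, hu⟩ : N) ∈ W.subgroupOf N := hxzW
  rw [h, Subgroup.mem_bot] at h1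
  exact hzx (((P.inv_eq hz).symm.trans (eq_inv_of_mul_eq_one_left (congrArg Subtype.val h1)).symm))

theorem isPGroup_pair {x y : G} (hx : x * x = 1) (hy : y * y = 1) (h : orderOf (x * y) ∣ 4) :
    IsPGroup 2 (Subgroup.closure ({x, y} : Set G)) := by
  haveI : Fact (Nat.Prime 2) := ⟨Nat.prime_two⟩
  set r := x * y with hr
  have hR : IsPGroup 2 (Subgroup.zpowers r) := by
    obtain ⟨i, -, hi⟩ := (Nat.dvd_prime_pow Nat.prime_two).1 (show orderOf r ∣ 2 ^ 2 from h)
    exact IsPGroup.of_card (n := i) (by rw [Nat.card_zpowers, hi])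
  have hX : IsPGroup 2 (Subgroup.zpowers x) := by
    obtain ⟨i, -, hi⟩ := (Nat.dvd_prime_pow Nat.prime_two).1
      (show orderOf x ∣ 2 ^ 1 from orderOf_dvd_of_pow_eq_one (by rw [pow_one, pow_two, hx]))
    exact IsPGroup.of_card (n := i) (by rw [Nat.card_zpowers, hi])
  have hxi : x⁻¹ = x := inv_eq_of_mul_eq_one_right hx
  have hn : Subgroup.zpowers x ≤ Subgroup.normalizer (Subgroup.zpowers r : Set G) := by
    rw [Subgroup.zpowers_le, Subgroup.mem_normalizer_iff]
    have e : x * r * x⁻¹ = r⁻¹ := by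
      rw [hr, hxi, mul_inv_rev, hxi, inv_eq_of_mul_eq_one_right hy, ← mul_assoc, hx, one_mul]
    have key : ∀ k ∈ Subgroup.zpowers r, x * k * x⁻¹ ∈ Subgroup.zpowers r := by
      intro k hk
      obtain ⟨i, rfl⟩ := Subgroup.mem_zpowers_iff.1 hk
      rw [← conj_zpow, e, inv_zpow]
      exact inv_mem (Subgroup.zpow_mem _ (Subgroup.mem_zpowers r) i)
    refine fun k => ⟨key k, fun hk => ?_⟩
    have := key _ hk
    rwa [hxi, show x * (x * k * x) * x = k by
      rw [show x * (x * k * x) * x = x * x * k * (x * x) by simp only [mul_assoc], hx, one_mul, mul_one]]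
      at this
  refine (IsPGroup.to_sup_of_normal_left' hR hX hn).to_le ((Subgroup.closure_le _).2 ?_)
  rintro w (rfl | rfl)
  · exact Subgroup.mem_sup_right (Subgroup.mem_zpowers _)
  · have : w = x * r := by rw [hr, ← mul_assoc, hx, one_mul]
    rw [this]
    exact mul_mem (Subgroup.mem_sup_right (Subgroup.mem_zpowers _))
      (Subgroup.mem_sup_left (Subgroup.mem_zpowers _))

theorem refl_mem' {D : Set G} (hsq : ∀ d ∈ D, d * d = 1) (hcj : ∀ d ∈ D, ∀ g : G, g * d * g⁻¹ ∈ D)
    {a b : G} (ha : a ∈ D) (hb : b ∈ D) : ∀ i : ℕ, (a * b) ^ i * a ∈ D := by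
  have hmem : ∀ {s t : G}, s ∈ D → t ∈ D → s * t * s ∈ D := fun {s t} hs ht => by
    have := hcj t ht s
    rwa [inv_eq_of_mul_eq_one_right (hsq s hs)] at this
  intro i
  induction i using Nat.twoStepInduction with
  | zero => simpa using ha
  | one => simpa using hmem ha hb
  | more i h _ =>
    have e : (a * b) ^ (i + 2) * a = a * (b * ((a * b) ^ i * a) * b) * a := by
      rw [pow_succ, pow_succ']; simp only [mul_assoc]
    rw [e]; exact hmem ha (hmem hb h)

/-- The class of a rank three group consists of 3-transpositions. -/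
theorem rank_three (hsol : ∀ N : Subgroup G, N.Normal → Group.IsSolvable N → N = ⊥) {D : Set G}
    (hinv : ∀ d ∈ D, orderOf d = 2) (hconj : ∃ d ∈ D, D = conjugatesOf d) (hgen : Subgroup.closure D = ⊤)
    (htwo : ∀ x ∈ D, ∃ y ∈ D, ∃ z ∈ D, y ≠ x ∧ z ≠ x ∧ ∀ w ∈ D, w ≠ x →
      (∃ g : G, Commute g x ∧ g * y * g⁻¹ = w) ∨ ∃ g : G, Commute g x ∧ g * z * g⁻¹ = w) :
    ∀ a ∈ D, ∀ b ∈ D, (a * b) ^ 2 = 1 ∨ (a * b) ^ 3 = 1 := by
  classical
  obtain ⟨d0, hd0, hD⟩ := hconj
  have hsq : ∀ d ∈ D, d * d = 1 := fun d hd => by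
    have := pow_orderOf_eq_one d
    rwa [hinv d hd, pow_two] at this
  have hi : ∀ {d}, d ∈ D → d⁻¹ = d := fun hd => inv_eq_of_mul_eq_one_right (hsq _ hd)
  have hcj : ∀ d ∈ D, ∀ g : G, g * d * g⁻¹ ∈ D := fun d hd g => by
    rw [hD] at hd ⊢
    exact IsConj.trans hd (isConj_iff.2 ⟨g, rfl⟩)
  have hconjC : ∀ a ∈ D, ∀ b ∈ D, ∃ g : G, g * a * g⁻¹ = b := fun a ha b hb => by
    rw [hD] at ha hb
    exact isConj_iff.1 (IsConj.trans (IsConj.symm ha) hb)
  have hcomm_sq : ∀ {a b}, a ∈ D → b ∈ D → (Commute a b ↔ (a * b) ^ 2 = 1) := by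
    intro a b ha hb
    constructor
    · intro h; rw [h.mul_pow, pow_two, pow_two, hsq a ha, hsq b hb, one_mul]
    · intro h
      have e : (a * b)⁻¹ = a * b := inv_eq_of_mul_eq_one_right (by rwa [← pow_two])
      rw [mul_inv_rev, hi ha, hi hb] at e
      exact e.symm
  -- two classes at each member
  have two : ∀ x ∈ D, ∀ a ∈ D, ∀ b ∈ D, ∀ c ∈ D, a ≠ x → b ≠ x → c ≠ x →
      (∃ g, Commute g x ∧ g * a * g⁻¹ = b) ∨ (∃ g, Commute g x ∧ g * a * g⁻¹ = c) ∨
        ∃ g, Commute g x ∧ g * b * g⁻¹ = c := by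
    intro x hx a ha b hb c hc hax hbx hcx
    obtain ⟨y, hy, z, hz, -, -, h⟩ := htwo x hx
    have key : ∀ {o s t : G}, (∃ g, Commute g x ∧ g * o * g⁻¹ = s) → (∃ g, Commute g x ∧ g * o * g⁻¹ = t) →
        ∃ g, Commute g x ∧ g * s * g⁻¹ = t := by
      rintro o _ _ ⟨g, hg, rfl⟩ ⟨l, hl, rfl⟩
      exact ⟨l * g⁻¹, hl.mul_left hg.inv_left, by simp [mul_assoc]⟩
    rcases h a ha hax with ha' | ha' <;> rcases h b hb hbx with hb' | hb' <;>
      rcases h c hc hcx with hc' | hc'
    all_goals first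
      | exact Or.inl (key ha' hb') | exact Or.inr (Or.inl (key ha' hc'))
      | exact Or.inr (Or.inr (key hb' hc'))
  by_cases hpair : ∃ a ∈ D, ∃ b ∈ D, a ≠ b ∧ Commute a b
  · by_cases hall : ∀ a ∈ D, ∀ b ∈ D, Commute a b
    · exact fun a ha b hb => Or.inl ((hcomm_sq ha hb).1 (hall a ha b hb))
    push Not at hall
    obtain ⟨a1, ha1, b1, hb1, hab1⟩ := hall
    obtain ⟨a2, ha2, b2, hb2, hne2, hab2⟩ := hpair
    have hncx : ∀ x ∈ D, ∃ y ∈ D, ¬ Commute x y := fun x hx => by
      obtain ⟨g, rfl⟩ := hconjC a1 ha1 x hx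
      exact ⟨_, hcj b1 hb1 g, fun h => hab1 (by simpa [mul_assoc] using commute_conj g⁻¹ h)⟩
    have hcx : ∀ x ∈ D, ∃ y ∈ D, y ≠ x ∧ Commute x y := fun x hx => by
      obtain ⟨g, rfl⟩ := hconjC a2 ha2 x hx
      exact ⟨_, hcj b2 hb2 g, fun h => hne2 (mul_left_cancel (mul_right_cancel h)).symm, commute_conj g hab2⟩
    have htr : ∀ x ∈ D, ∀ c ∈ D, ∀ d ∈ D, ¬ Commute x c → ¬ Commute x d →
        ∃ g : G, Commute g x ∧ g * c * g⁻¹ = d := by
      intro x hx c hc d hd hxc hxd
      obtain ⟨y, hy, hyx, hxy⟩ := hcx x hx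
      have key : ∀ {s t : G}, Commute x s → ¬ Commute x t → ¬ ∃ g, Commute g x ∧ g * t * g⁻¹ = s := by
        rintro _ t hs ht ⟨g, hg, rfl⟩
        refine ht ?_
        have := commute_conj g⁻¹ hs
        rwa [inv_inv, (hg.inv_left).eq, mul_assoc, inv_mul_cancel, mul_one,
          show g⁻¹ * (g * t * g⁻¹) * g = t by simp [mul_assoc]] at this
      rcases two x hx c hc d hd y hy (fun e => hxc (e ▸ Commute.refl x)) (fun e => hxd (e ▸ Commute.refl x))
        hyx with h | h | h
      · exact h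
      · exact absurd h (key hxy hxc)
      · exact absurd h (key hxy hxd)
    set k := orderOf (a1 * b1) with hk
    have hord : ∀ a ∈ D, ∀ b ∈ D, ¬ Commute a b → orderOf (a * b) = k := by
      intro a ha b hb hab
      obtain ⟨g, rfl⟩ := hconjC a1 ha1 a ha
      have h1 : ¬ Commute (g * a1 * g⁻¹) (g * b1 * g⁻¹) :=
        fun h => hab1 (by simpa [mul_assoc] using commute_conj g⁻¹ h)
      obtain ⟨l, hl, rfl⟩ := htr _ ha _ (hcj b1 hb1 g) b hb h1 hab
      rw [hk, show g * a1 * g⁻¹ * (l * (g * b1 * g⁻¹) * l⁻¹) = l * (g * (a1 * b1) * g⁻¹) * l⁻¹ by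
        rw [show g * a1 * g⁻¹ = l * (g * a1 * g⁻¹) * l⁻¹ by rw [hl.eq, mul_inv_cancel_right]]
        group]
      rw [← MulAut.conj_apply, MulEquiv.orderOf_eq, ← MulAut.conj_apply, MulEquiv.orderOf_eq]
    have hpow : ∀ i : ℕ, k ∣ 2 * i ∨ k.Coprime i := fun i => by
      have hv := refl_mem' hsq hcj ha1 hb1 i
      have e : (a1 * b1) ^ i * a1 * a1 = (a1 * b1) ^ i := by rw [mul_assoc, hsq a1 ha1, mul_one]
      by_cases h : Commute ((a1 * b1) ^ i * a1) a1
      · refine Or.inl ?_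
        have h2 := (hcomm_sq hv ha1).1 h
        rw [e, ← pow_mul, mul_comm i 2] at h2
        exact orderOf_dvd_of_pow_eq_one h2
      · refine Or.inr ?_
        have h2 := hord _ hv _ ha1 h
        rw [e, orderOf_pow, ← hk] at h2
        have hkpos : 0 < k := orderOf_pos _
        rcases Nat.div_eq_self.1 h2 with e' | e'
        · omega
        · exact e'
    have hk2 : ¬ k ∣ 2 := fun h => hab1 ((hcomm_sq ha1 hb1).2 (orderOf_dvd_iff_pow_eq_one.1 h))
    by_cases heven : 2 ∣ k
    · exfalso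
      have hk4 : k ∣ 4 := (hpow 2).resolve_right fun h =>
        absurd (Nat.eq_one_of_dvd_coprimes h heven dvd_rfl) (by norm_num)
      haveI : Fact (Nat.Prime 2) := ⟨Nat.prime_two⟩
      have hmem : d0 ∈ Cfsg.pCore 2 G := CfsgLib.Invol.mem_pCore_of_pairs d0 fun g => by
        refine isPGroup_pair (hsq d0 hd0) (hsq _ (hcj d0 hd0 g)) ?_
        by_cases h : Commute d0 (g * d0 * g⁻¹)
        · exact (orderOf_dvd_of_pow_eq_one ((hcomm_sq hd0 (hcj d0 hd0 g)).1 h)).trans (by norm_num)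
        · rwa [hord _ hd0 _ (hcj d0 hd0 g) h]
      rw [pGroup_eq_bot hsol inferInstance (CfsgLib.Comp.pCore_isPGroup' 2), Subgroup.mem_bot] at hmem
      have := hinv d0 hd0
      rw [hmem, orderOf_one] at this
      norm_num at this
    have hk1 : k ≠ 1 := fun e => hk2 (e ▸ one_dvd 2)
    have hkp : k.Prime := by
      refine Nat.prime_def.2 ⟨by have := orderOf_pos (a1 * b1); omega, fun m hm => ?_⟩
      rcases hpow m with h | h
      · refine Or.inr (Nat.dvd_antisymm hm ?_)
        exact ((Nat.prime_two.coprime_iff_not_dvd.2 heven).symm).dvd_of_dvd_mul_left h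
      · exact Or.inl (Nat.eq_one_of_dvd_coprimes h hm dvd_rfl)
    by_cases hk3 : k = 3
    · intro a ha b hb
      by_cases h : Commute a b
      · exact Or.inl ((hcomm_sq ha hb).1 h)
      · exact Or.inr (by rw [← hk3, ← hord a ha b hb h, pow_orderOf_eq_one])
    exfalso
    have hk5 : 5 ≤ k := by
      have := hkp.two_le
      by_contra h
      interval_cases k <;> simp_all (config := { decide := true })
    exact pure_false ⟨hkp, hk5, hsq, hcj, fun a ha b hb h => by rw [← hord a ha b hb h, pow_orderOf_eq_one]⟩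
      hsol hconjC hgen hcx hncx htr ⟨d0, hd0⟩
  -- no commuting pairs
  exfalso
  push Not at hpair
  obtain ⟨y0, hy0, -, -, hy0x, -, -⟩ := htwo d0 hd0
  set x := d0 with hxdef
  have hiso : Cfsg.IsIsolatedInvolution x := ⟨hinv x hd0, fun g hg => by
    by_contra hne
    exact hpair x hd0 _ (hcj x hd0 g) (fun e => hne e.symm) hg⟩
  obtain ⟨N, hN, hodd, hNc⟩ := CfsgLib.ZStar.zstar hiso
  have hxi : x⁻¹ = x := hi hd0
  have hxN : ∀ w ∈ D, x * w ∈ N := fun w hw => by
    obtain ⟨c, rfl⟩ := hconjC x hd0 w hw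
    have h := hNc c
    rw [hxi] at h
    simpa only [mul_assoc] using h |> fun h => (show x * (c * x * c⁻¹) ∈ N by simpa only [mul_assoc] using h)
  have hcover : ∀ g : G, g ∈ N ∨ g * x ∈ N := by
    have hwx : ∀ w ∈ D, w * x ∈ N := fun w hw => hN.mem_comm (hxN w hw)
    have hc : ∀ v : G, x * (x * v) = v := fun v => by rw [← mul_assoc, hsq x hd0, one_mul]
    have hn : ∀ v ∈ N, x * v * x ∈ N := fun v hv => by
      have := hN.conj_mem v hv x
      rwa [hxi] at this
    intro g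
    induction (hgen ▸ Subgroup.mem_top g : g ∈ Subgroup.closure D) using Subgroup.closure_induction with
    | mem w hw => exact Or.inr (hwx w hw)
    | one => exact Or.inl (one_mem _)
    | mul a b _ _ ha hb =>
      rcases ha with ha | ha <;> rcases hb with hb | hb
      · exact Or.inl (mul_mem ha hb)
      · exact Or.inr (by rw [mul_assoc]; exact mul_mem ha hb)
      · refine Or.inr ?_
        have := mul_mem ha (hn b hb)
        simpa only [mul_assoc, hc] using this
      · refine Or.inl ?_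
        have := mul_mem ha (hn _ hb)
        simpa only [mul_assoc, hc, hsq x hd0, mul_one] using this
    | inv a _ ha =>
      rcases ha with ha | ha
      · exact Or.inl (inv_mem ha)
      · refine Or.inr ?_
        have := hn _ (inv_mem ha)
        simpa only [mul_inv_rev, hxi, mul_assoc, hc] using this
  let O : OddInv N :=
    { σ := MulAut.conjNormal x
      invol := fun k => Subtype.ext (by
        rw [MulAut.conjNormal_apply, MulAut.conjNormal_apply, hxi, ← mul_assoc, ← mul_assoc, hsq x hd0,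
          one_mul, mul_assoc, hsq x hd0, mul_one])
      odd := hodd }
  have hσ : ∀ k : N, ((O.σ k : N) : G) = x * k * x := fun k => by
    show ((MulAut.conjNormal x k : N) : G) = _
    rw [MulAut.conjNormal_apply, hxi]
  -- inverted elements and members
  have hback : ∀ h : N, O.σ h = h⁻¹ → x * (h : G) ∈ D := by
    intro h hh
    set r := oddRoot h with hr
    have h1 : x * (r : G) * x = (r : G)⁻¹ := by
      have := congrArg Subtype.val (O.root_inv hh)
      rwa [hσ] at this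
    have h2 : (r : G) * r = h := congrArg Subtype.val (O.root_sq h)
    have h3 := hcj x hd0 (r : G)⁻¹
    rwa [inv_inv, ← h1, show x * (r : G) * x * x * r = x * ((r : G) * r) by
      rw [mul_assoc (x * (r : G)) x x, hsq x hd0, mul_one, mul_assoc], h2] at h3
  have hto : ∀ w, (hw : w ∈ D) → O.σ ⟨x * w, hxN w hw⟩ = (⟨x * w, hxN w hw⟩ : N)⁻¹ := fun w hw =>
    Subtype.ext (by
      rw [hσ, InvMemClass.coe_inv]
      show x * (x * w) * x = (x * w)⁻¹
      rw [mul_inv_rev, hi hw, hxi, ← mul_assoc, hsq x hd0, one_mul])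
  let rel : N → N → Prop := fun h h' => ∃ c, O.σ c = c ∧ (c * h * c⁻¹ = h' ∨ c * h * c⁻¹ = h'⁻¹)
  have hrel_ord : ∀ {h h'}, rel h h' → orderOf h = orderOf h' := by
    rintro h h' ⟨c, -, e | e⟩
    · rw [← e, ← MulAut.conj_apply, MulEquiv.orderOf_eq]
    · rw [← orderOf_inv h', ← e, ← MulAut.conj_apply, MulEquiv.orderOf_eq]
  have three : ∀ a b c : N, O.σ a = a⁻¹ → O.σ b = b⁻¹ → O.σ c = c⁻¹ → a ≠ 1 → b ≠ 1 → c ≠ 1 →
      rel a b ∨ rel a c ∨ rel b c := by
    intro a b c ha hb hc a1 b1 c1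
    have hne : ∀ h : N, h ≠ 1 → x * (h : G) ≠ x := fun h h1 e => h1 (Subtype.ext (mul_eq_left.1 e))
    have key : ∀ s t : N, O.σ s = s⁻¹ → (∃ g, Commute g x ∧ g * (x * (s : G)) * g⁻¹ = x * (t : G)) → rel s t := by
      rintro s t hs ⟨g, hg, e⟩
      have e' : g * (s : G) * g⁻¹ = t := by
        have h1 : g * (x * (s : G)) * g⁻¹ = x * (g * (s : G) * g⁻¹) := by
          rw [← mul_assoc g, hg.eq]; simp only [mul_assoc]
        exact mul_left_cancel (h1.symm.trans e)
      rcases hcover g with hgN | hgN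
      · exact ⟨⟨g, hgN⟩, Subtype.ext (by
          rw [hσ]; show x * g * x = g
          rw [← hg.eq, mul_assoc, hsq x hd0, mul_one]), Or.inl (Subtype.ext e')⟩
      · refine ⟨⟨g * x, hgN⟩, Subtype.ext (by
          rw [hσ]; show x * (g * x) * x = g * x
          rw [mul_assoc x, mul_assoc g, hsq x hd0, mul_one, hg.eq]), Or.inr (Subtype.ext ?_)⟩
        show g * x * (s : G) * (g * x)⁻¹ = (t : G)⁻¹
        have h2 : x * (s : G) * x = (s : G)⁻¹ := by
          have := congrArg Subtype.val hs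
          rwa [hσ] at this
        rw [mul_inv_rev, hxi, show g * x * (s : G) * (x * g⁻¹) = g * (x * s * x) * g⁻¹ by simp only [mul_assoc],
          h2, ← conj_inv, e']
    rcases two x hd0 _ (hback a ha) _ (hback b hb) _ (hback c hc) (hne a a1) (hne b b1) (hne c c1) with h | h | h
    · exact Or.inl (key a b ha h)
    · exact Or.inr (Or.inl (key a c ha h))
    · exact Or.inr (Or.inr (key b c hb h))
  -- powers of prime order
  have hprime : ∀ h : N, O.σ h = h⁻¹ → ∀ r : ℕ, r.Prime → r ∣ orderOf h →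
      ∃ g : N, O.σ g = g⁻¹ ∧ orderOf g = r := fun h hh r hr hd =>
    ⟨h ^ (orderOf h / r), by rw [map_pow, hh, inv_pow],
      orderOf_pow_orderOf_div (orderOf_pos h).ne' hd⟩
  have ne1 : ∀ {g : N} {r : ℕ}, r.Prime → orderOf g = r → g ≠ 1 := fun hr e h1 => by
    rw [h1, orderOf_one] at e; exact hr.one_lt.ne e
  set h0 : N := ⟨x * y0, hxN y0 hy0⟩ with hh0
  have h01 : h0 ≠ 1 := fun e => hy0x (by
    have h1 : x * y0 = 1 := congrArg Subtype.val e
    rw [← hxi]; exact eq_inv_of_mul_eq_one_right h1)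
  obtain ⟨r, hr, hrd⟩ := Nat.exists_prime_and_dvd (n := orderOf h0) (fun e => h01 (orderOf_eq_one_iff.1 e))
  obtain ⟨gr, hgr, hgro⟩ := hprime h0 (hto y0 hy0) r hr hrd
  by_cases htwoP : ∃ h : N, O.σ h = h⁻¹ ∧ ∃ s : ℕ, s.Prime ∧ s ∣ orderOf h ∧ s ≠ r
  · obtain ⟨h, hh, s, hs, hsd, hsr⟩ := htwoP
    obtain ⟨gs, hgs, hgso⟩ := hprime h hh s hs hsd
    have cases2 : ∀ g : N, O.σ g = g⁻¹ → g ≠ 1 → orderOf g = r ∨ orderOf g = s := by
      intro g hg g1
      rcases three g gr gs hg hgr hgs g1 (ne1 hr hgro) (ne1 hs hgso) with e | e | e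
      · exact Or.inl ((hrel_ord e).trans hgro)
      · exact Or.inr ((hrel_ord e).trans hgso)
      · exact absurd ((hgro.symm.trans (hrel_ord e)).trans hgso) (Ne.symm hsr)
    let T : TwoPrime N :=
      { O with
        p := r, q := s, hp := hr, hq := hs, hpq := Ne.symm hsr
        ord := fun g hg => by
          by_cases g1 : g = 1
          · exact Or.inl (by rw [g1, one_pow])
          rcases cases2 g hg g1 with e | e
          · exact Or.inl (e ▸ pow_orderOf_eq_one g)
          · exact Or.inr (e ▸ pow_orderOf_eq_one g)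
        exP := ⟨gr, hgr, hgro⟩
        exQ := ⟨gs, hgs, hgso⟩
        transP := fun a b ha hb hao hbo => by
          rcases three a b gs ha hb hgs (ne1 hr hao) (ne1 hr hbo) (ne1 hs hgso) with e | e | e
          · exact e
          · exact absurd ((hao.symm.trans (hrel_ord e)).trans hgso) (Ne.symm hsr)
          · exact absurd ((hbo.symm.trans (hrel_ord e)).trans hgso) (Ne.symm hsr)
        transQ := fun a b ha hb hao hbo => by
          rcases three a b gr ha hb hgr (ne1 hs hao) (ne1 hs hbo) (ne1 hr hgro) with e | e | e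
          · exact e
          · exact absurd ((hao.symm.trans (hrel_ord e)).trans hgro) hsr
          · exact absurd ((hbo.symm.trans (hrel_ord e)).trans hgro) hsr }
    haveI := Fact.mk hr
    haveI := Fact.mk hs
    exact T.two_prime_false (fun M hM hp => pCore_eq_bot_of_normal hsol hM hp)
      (fun M hM hp => pCore_eq_bot_of_normal hsol hM hp)
  push Not at htwoP
  haveI := Fact.mk hr
  have hr2 : r ≠ 2 := by
    rintro rfl
    exact (Nat.not_even_iff_odd.2 hodd) (even_iff_two_dvd.2 (hgro ▸ orderOf_dvd_natCard gr))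
  have hprod : ∀ a ∈ D, ∀ b ∈ D, a ≠ b → ∃ k : ℕ, orderOf (a * b) = r ^ k := by
    intro a ha b hb _
    obtain ⟨g, rfl⟩ := hconjC x hd0 a ha
    have hw := hcj b hb g⁻¹
    refine ⟨(orderOf (⟨x * (g⁻¹ * b * g⁻¹⁻¹), hxN _ hw⟩ : N)).primeFactorsList.length, ?_⟩
    rw [← Nat.eq_prime_pow_of_unique_prime_dvd (orderOf_pos _).ne' fun {d} hd hdd => htwoP _ (hto _ hw) d hd hdd,
      Subgroup.orderOf_mk]
    rw [show g * x * g⁻¹ * b = g * (x * (g⁻¹ * b * g⁻¹⁻¹)) * g⁻¹ by group, ← MulAut.conj_apply,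
      MulEquiv.orderOf_eq]
  have hC := CfsgLib.ThreeT.isPGroup_commutator_of_prime_pow_products r hr hr2 hinv ⟨d0, hd0, hD⟩ hgen hprod
  have hbot := pGroup_eq_bot hsol inferInstance hC
  refine hpair x hd0 y0 hy0 (Ne.symm hy0x) ?_
  have h1 : x * y0 * x⁻¹ * y0⁻¹ ∈ commutator G :=
    Subgroup.commutator_mem_commutator (Subgroup.mem_top x) (Subgroup.mem_top y0)
  rw [hbot, Subgroup.mem_bot] at h1
  exact mul_inv_eq_iff_eq_mul.1 (mul_inv_eq_one.1 h1)

end CfsgLib.RankThreeInv
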