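import Cfsg.Agent.RankThreeInv.Counts

/-!
The adjacency matrices of the two relations and their skew refinements.
-/

set_option autoImplicit false
set_option linter.unusedSectionVars false
set_option linter.style.haveILetI false

namespace CfsgLib.RankThreeInv

open CfsgLib.Recog Matrix

universe u

/-- The trace of a scaled idempotent integer matrix is a natural multiple of the scale. -/
theorem exists_trace_of_sq {ι : Type*} [Fintype ι] [DecidableEq ι] (E : Matrix ι ι ℤ) {c : ℤ} (hc : c ≠ 0)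
    (h : E * E = c • E) : ∃ f : ℕ, E.trace = f * c := by
  set P : Matrix ι ι ℚ := (c : ℚ)⁻¹ • E.map (Int.cast : ℤ → ℚ) with hP
  have hc' : (c : ℚ) ≠ 0 := Int.cast_ne_zero.2 hc
  have hE : E.map (Int.cast : ℤ → ℚ) * E.map (Int.cast : ℤ → ℚ) = (c : ℚ) • E.map (Int.cast : ℤ → ℚ) := by
    have h1 := congrArg (fun M : Matrix ι ι ℤ => M.map (Int.castRingHom ℚ)) h
    simp only [Matrix.map_mul] at h1
    refine h1.trans ?_
    ext i j
    simp only [Matrix.map_apply, Matrix.smul_apply, smul_eq_mul, map_mul, eq_intCast]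
  have hPP : P * P = P := by
    rw [hP, Matrix.smul_mul, Matrix.mul_smul, hE, smul_smul, smul_smul]
    congr 1
    field_simp
  have hproj : LinearMap.IsProj (Matrix.toLin' P).range (Matrix.toLin' P) :=
    ⟨fun x => LinearMap.mem_range_self _ x, fun x hx => by
      obtain ⟨y, rfl⟩ := hx
      rw [← LinearMap.comp_apply, ← Matrix.toLin'_mul, hPP]⟩
  refine ⟨Module.finrank ℚ (Matrix.toLin' P).range, ?_⟩
  have h2 := hproj.trace
  rw [Matrix.trace_toLin'_eq, hP, trace_smul] at h2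
  have h3 : ((E.trace : ℤ) : ℚ) = (E.map (Int.cast : ℤ → ℚ)).trace := by
    simp [Matrix.trace]
  rw [← h3, smul_eq_mul, inv_mul_eq_iff_eq_mul₀ hc'] at h2
  apply Int.cast_injective (α := ℚ)
  rw [h2, Int.cast_mul, Int.cast_natCast, mul_comm]

namespace TwoPrime

variable {K : Type u} [Group K] [Finite K] (D : TwoPrime K)
include D

/-- The points. -/
abbrev Pt := {i : K // i ∈ D.inv ⊤}

noncomputable instance : Fintype D.Pt := Fintype.ofFinite _

noncomputable instance : DecidableEq D.Pt := Classical.decEq _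

/-- The base point. -/
def base : D.Pt := ⟨1, D.one_mem_inv ⊤⟩

/-- Translation. -/
noncomputable def trE (k : K) : D.Pt ≃ D.Pt where
  toFun i := ⟨D.act k i, trivial, D.act_inverted i.2.2⟩
  invFun i := ⟨D.act k⁻¹ i, trivial, D.act_inverted i.2.2⟩
  left_inv i := Subtype.ext (by simp [D.act_act])
  right_inv i := Subtype.ext (by simp [D.act_act])

/-- Inversion. -/
noncomputable def invE : D.Pt ≃ D.Pt where
  toFun i := ⟨(i : K)⁻¹, D.inv_inv_mem i.2⟩
  invFun i := ⟨(i : K)⁻¹, D.inv_inv_mem i.2⟩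
  left_inv i := Subtype.ext (inv_inv _)
  right_inv i := Subtype.ext (inv_inv _)

/-- Invariance under translations, and parity `ε` under inversion. -/
def Par (ε : ℤ) (M : Matrix D.Pt D.Pt ℤ) : Prop :=
  (∀ k, M.submatrix (D.trE k) (D.trE k) = M) ∧ M.submatrix D.invE D.invE = ε • M

section

variable {D}

theorem Par.mul {ε ε' : ℤ} {M N : Matrix D.Pt D.Pt ℤ} (hM : D.Par ε M) (hN : D.Par ε' N) :
    D.Par (ε * ε') (M * N) := by
  refine ⟨fun k => ?_, ?_⟩
  · rw [← submatrix_mul_equiv M N (D.trE k) (D.trE k) (D.trE k), hM.1, hN.1]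
  · rw [← submatrix_mul_equiv M N D.invE D.invE D.invE, hM.2, hN.2, Matrix.smul_mul, Matrix.mul_smul,
      smul_smul]

theorem Par.apply_act {ε : ℤ} {M : Matrix D.Pt D.Pt ℤ} (hM : D.Par ε M) (k : K) (i j : D.Pt) :
    M (D.trE k i) (D.trE k j) = M i j := congrFun (congrFun (hM.1 k) i) j

theorem Par.apply_inv {ε : ℤ} {M : Matrix D.Pt D.Pt ℤ} (hM : D.Par ε M) (i j : D.Pt) :
    M (D.invE i) (D.invE j) = ε * M i j := congrFun (congrFun hM.2 i) j

variable (D) in
theorem trE_root (i : D.Pt) : D.trE (oddRoot (i : K))⁻¹ i = D.base := Subtype.ext (D.sq_root i.2.2).2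

theorem Par.apply_base {ε : ℤ} {M : Matrix D.Pt D.Pt ℤ} (hM : D.Par ε M) (i j : D.Pt) :
    M i j = M D.base (D.trE (oddRoot (i : K))⁻¹ j) := by
  rw [← D.trE_root i, hM.apply_act]

theorem Par.transpose {ε : ℤ} {M : Matrix D.Pt D.Pt ℤ} (hM : D.Par ε M) : Mᵀ = ε • M := by
  have key : ∀ j, M j D.base = ε * M D.base j := by
    intro j
    have e : D.trE (oddRoot (j : K))⁻¹ D.base = D.invE j := by
      refine Subtype.ext ?_
      have hs : D.σ (oddRoot (j : K))⁻¹ = (oddRoot (j : K))⁻¹⁻¹ := by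
        rw [map_inv, D.root_inv j.2.2]
      show D.act (oddRoot (j : K))⁻¹ 1 = (j : K)⁻¹
      rw [D.act_inv hs, mul_one, ← _root_.mul_inv_rev, D.root_sq]
    have eb : D.invE D.base = D.base := Subtype.ext inv_one
    rw [hM.apply_base j, e]
    nth_rw 1 [← eb]
    exact hM.apply_inv _ _
  ext i j
  rw [transpose_apply, Matrix.smul_apply, smul_eq_mul, ← hM.apply_act (oddRoot (i : K))⁻¹ j i,
    ← hM.apply_act (oddRoot (i : K))⁻¹ i j, D.trE_root, key]

theorem Par.comm {ε ε' : ℤ} {M N : Matrix D.Pt D.Pt ℤ} (hM : D.Par ε M) (hN : D.Par ε' N)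
    (hε : ε * ε = 1) (hε' : ε' * ε' = 1) : M * N = N * M := by
  have h := (hM.mul hN).transpose
  rw [transpose_mul, hM.transpose, hN.transpose, Matrix.smul_mul, Matrix.mul_smul,
    smul_smul] at h
  have := congrArg (fun M : Matrix D.Pt D.Pt ℤ => (ε * ε') • M) h
  simp only [smul_smul, show ε * ε' * (ε' * ε) = (ε * ε) * (ε' * ε') by ring,
    show ε * ε' * (ε * ε') = (ε * ε) * (ε' * ε') by ring, hε, hε', one_mul,
    one_smul] at this
  exact this.symm

end

/-- The relation of order `r`. -/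
noncomputable def adj (r : ℕ) : Matrix D.Pt D.Pt ℤ :=
  fun i j => if orderOf ((i : K)⁻¹ * j) = r then 1 else 0

theorem adj_par (r : ℕ) : D.Par 1 (D.adj r) := by
  refine ⟨fun k => ?_, ?_⟩
  · ext i j
    simp [adj, trE, D.orderOf_rel_act]
  · ext i j
    rw [one_smul, submatrix_apply]
    simp only [adj, invE, Equiv.coe_fn_mk, D.orderOf_rel_inv]

/-- The all-ones matrix. -/
def allOne : Matrix D.Pt D.Pt ℤ := fun _ _ => 1

theorem one_par : D.Par 1 1 :=
  ⟨fun k => submatrix_one_equiv _, by rw [one_smul]; exact submatrix_one_equiv _⟩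

theorem allOne_par : D.Par 1 D.allOne :=
  ⟨fun _ => rfl, by rw [one_smul]; rfl⟩

theorem allOne_eq : D.allOne = 1 + D.adj D.p + D.adj D.q := by
  ext i j
  simp only [allOne, Matrix.add_apply, adj]
  rcases D.rel_cases i.2.2 j.2.2 with h | h | h
  · obtain rfl := Subtype.ext h
    simp [D.hp.one_lt.ne, D.hq.one_lt.ne]
  · rw [one_apply_ne (fun e => ?_), if_pos h, if_neg (by rw [h]; exact D.hpq)]
    · ring
    · subst e; rw [inv_mul_cancel, orderOf_one] at h; exact D.hp.one_lt.ne h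
  · rw [one_apply_ne (fun e => ?_), if_pos h, if_neg (by rw [h]; exact D.hpq.symm)]
    · ring
    · subst e; rw [inv_mul_cancel, orderOf_one] at h; exact D.hq.one_lt.ne h

variable {D} in
/-- Invariant even matrices are combinations of the three basic ones. -/
theorem Par.span {M : Matrix D.Pt D.Pt ℤ} (hM : D.Par 1 M) :
    ∃ a b c : ℤ, M = a • (1 : Matrix D.Pt D.Pt ℤ) + b • D.adj D.p + c • D.adj D.q ∧ a = M D.base D.base := by
  obtain ⟨h, hh, ho⟩ := D.exP
  obtain ⟨g, hg, hgo⟩ := D.exQ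
  refine ⟨_, M D.base ⟨h, trivial, hh⟩, M D.base ⟨g, trivial, hg⟩, ?_, rfl⟩
  have const : ∀ {h : K} (hh : D.σ h = h⁻¹) (j : D.Pt),
      (∃ c, D.σ c = c ∧ (c * (j : K) * c⁻¹ = h ∨ c * (j : K) * c⁻¹ = h⁻¹)) →
      M D.base j = M D.base ⟨h, trivial, hh⟩ := by
    rintro h hh j ⟨c, hc, e⟩
    have eb : D.trE c D.base = D.base := Subtype.ext (D.act_one_eq_one.2 hc)
    rw [← hM.apply_act c, eb]
    rcases e with e | e
    · congr 1; exact Subtype.ext ((D.act_fix hc).trans e)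
    · have ej : D.trE c j = D.invE ⟨h, trivial, hh⟩ := Subtype.ext ((D.act_fix hc).trans e)
      have eb' : D.invE D.base = D.base := Subtype.ext inv_one
      rw [ej]
      nth_rw 1 [← eb']
      rw [hM.apply_inv, one_mul]
  ext i j
  set j' := D.trE (oddRoot (i : K))⁻¹ j with hj'
  have hrel : orderOf ((i : K)⁻¹ * j) = orderOf (j' : K) := by
    have := D.orderOf_rel_act (oddRoot (i : K))⁻¹ (i : K) j
    rw [(D.sq_root i.2.2).2, inv_one, one_mul] at this
    exact this.symm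
  simp only [Matrix.add_apply, Matrix.smul_apply, adj, smul_eq_mul, hrel]
  rw [hM.apply_base i j, ← hj']
  rcases D.ord_cases j'.2.2 with e | e | e
  · have hij : i = j := (D.trE (oddRoot (i : K))⁻¹).injective
      ((D.trE_root i).trans (Subtype.ext e).symm)
    subst hij
    have : j' = D.base := Subtype.ext e
    rw [this, one_apply_eq]
    simp [base, D.hp.one_lt.ne, D.hq.one_lt.ne]
  · rw [const hh j' (D.transP _ _ j'.2.2 hh e ho), one_apply_ne, if_pos e, if_neg (by rw [e]; exact D.hpq)]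
    · ring
    · rintro rfl
      rw [hj', D.trE_root] at e
      exact D.hp.one_lt.ne (orderOf_one.symm.trans e)
  · rw [const hg j' (D.transQ _ _ j'.2.2 hg e hgo), one_apply_ne, if_pos e,
      if_neg (by rw [e]; exact D.hpq.symm)]
    · ring
    · rintro rfl
      rw [hj', D.trE_root] at e
      exact D.hq.one_lt.ne (orderOf_one.symm.trans e)

/-- The signed relation. -/
noncomputable def sgn (h : K) : Matrix D.Pt D.Pt ℤ := fun i j =>
  haveI := Classical.dec (IsConj h ((i : K)⁻¹ * j))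
  haveI := Classical.dec (IsConj h⁻¹ ((i : K)⁻¹ * j))
  if IsConj h ((i : K)⁻¹ * j) then 1 else if IsConj h⁻¹ ((i : K)⁻¹ * j) then -1 else 0

open Classical in
theorem sgn_apply (h : K) (i j : D.Pt) : D.sgn h i j =
    if IsConj h ((i : K)⁻¹ * j) then 1 else if IsConj h⁻¹ ((i : K)⁻¹ * j) then -1 else 0 := by
  simp only [sgn]

theorem not_conj_inv {h : K} (h1 : h ≠ 1) : ¬ IsConj h h⁻¹ := by
  rw [isConj_iff]
  rintro ⟨c, hc⟩
  exact h1 (D.eq_one_of_conj_inv hc)

theorem sgn_par {h : K} (h1 : h ≠ 1) : D.Par (-1) (D.sgn h) := by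
  classical
  have hinv : ∀ {a b : K}, IsConj a b ↔ IsConj a⁻¹ b⁻¹ := fun {a b} => by
    simp only [isConj_iff]
    refine exists_congr fun c => ?_
    rw [← conj_inv, _root_.inv_inj]
  refine ⟨fun k => ?_, ?_⟩
  · ext i j
    have e : ∀ x, IsConj x ((D.act k i)⁻¹ * D.act k j) ↔ IsConj x ((i : K)⁻¹ * j) := fun x => by
      rw [D.act_rel]
      have hc : IsConj ((i : K)⁻¹ * j) (D.σ k * ((i : K)⁻¹ * j) * (D.σ k)⁻¹) := isConj_iff.2 ⟨_, rfl⟩
      exact ⟨fun h => h.trans hc.symm, fun h => h.trans hc⟩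
    simp only [submatrix_apply, sgn, trE, Equiv.coe_fn_mk, e]
  · ext i j
    have hc : IsConj ((i : K)⁻¹ * j)⁻¹ ((i : K)⁻¹⁻¹ * (j : K)⁻¹) :=
      isConj_iff.2 ⟨(i : K), by group⟩
    have e1 : IsConj h ((i : K)⁻¹⁻¹ * (j : K)⁻¹) ↔ IsConj h⁻¹ ((i : K)⁻¹ * j) := by
      refine Iff.trans ⟨fun h => h.trans hc.symm, fun h => h.trans hc⟩ ?_
      exact hinv.trans (by rw [_root_.inv_inv ((i : K)⁻¹ * j)])
    have e2 : IsConj h⁻¹ ((i : K)⁻¹⁻¹ * (j : K)⁻¹) ↔ IsConj h ((i : K)⁻¹ * j) := by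
      rw [hinv (a := h) (b := (i : K)⁻¹ * j)]
      exact ⟨fun h => h.trans hc.symm, fun h => h.trans hc⟩
    rw [submatrix_apply, Matrix.smul_apply, smul_eq_mul, sgn_apply, sgn_apply]
    show (if IsConj h ((i : K)⁻¹⁻¹ * (j : K)⁻¹) then (1 : ℤ)
      else if IsConj h⁻¹ ((i : K)⁻¹⁻¹ * (j : K)⁻¹) then -1 else 0) = _
    by_cases a1 : IsConj h ((i : K)⁻¹ * j)
    · have a2 : ¬ IsConj h⁻¹ ((i : K)⁻¹ * j) := fun a2 => D.not_conj_inv h1 (a1.trans a2.symm)
      rw [if_pos a1, if_neg (mt e1.1 a2), if_pos (e2.2 a1)]; rfl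
    · by_cases a2 : IsConj h⁻¹ ((i : K)⁻¹ * j)
      · rw [if_neg a1, if_pos a2, if_pos (e1.2 a2)]; rfl
      · rw [if_neg a1, if_neg a2, if_neg (mt e1.1 a2), if_neg (mt e2.1 a1)]; rfl

theorem sgn_sq {h : K} {r : ℕ} (hh : D.σ h = h⁻¹) (ho : orderOf h = r)
    (ht : ∀ g g', D.σ g = g⁻¹ → D.σ g' = g'⁻¹ → orderOf g = r → orderOf g' = r →
      ∃ c, D.σ c = c ∧ (c * g * c⁻¹ = g' ∨ c * g * c⁻¹ = g'⁻¹)) (i : D.Pt) :
    D.sgn h D.base i * D.sgn h D.base i = D.adj r D.base i := by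
  classical
  simp only [sgn, adj, base, inv_one, one_mul]
  by_cases e : orderOf (i : K) = r
  · obtain ⟨c, -, h1 | h1⟩ := ht h i hh i.2.2 ho e
    · rw [if_pos (isConj_iff.2 ⟨c, h1⟩), if_pos e]; rfl
    · have : IsConj h⁻¹ (i : K) := isConj_iff.2 ⟨c, by rw [← conj_inv, h1, inv_inv]⟩
      rw [if_pos e]
      split_ifs <;> rfl
  · have e1 : ∀ x : K, orderOf x = r → ¬ IsConj x (i : K) := fun x hx hc => by
      obtain ⟨c, hcc⟩ := isConj_iff.1 hc
      exact e (by rw [← hcc, ← MulAut.conj_apply, MulEquiv.orderOf_eq, hx])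
    rw [if_neg (e1 h ho), if_neg (e1 h⁻¹ (by rw [orderOf_inv, ho])), if_neg e]; rfl

theorem adj_row (r : ℕ) (i : D.Pt) :
    ∑ j, D.adj r i j = Nat.card {h : K // D.σ h = h⁻¹ ∧ orderOf h = r} := by
  classical
  rw [show (∑ j, D.adj r i j) = ∑ j, D.adj r D.base j from Fintype.sum_equiv (D.trE (oddRoot (i : K))⁻¹)
    _ _ fun j => (D.adj_par r).apply_base i j]
  simp only [adj, base, inv_one, one_mul, Finset.sum_boole]
  rw [Nat.cast_inj]
  rw [← Fintype.card_subtype, ← Nat.card_eq_fintype_card]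
  exact Nat.card_congr
    { toFun := fun j => ⟨(j : D.Pt), j.1.2.2, j.2⟩
      invFun := fun h => ⟨⟨(h : K), trivial, h.2.1⟩, h.2.2⟩
      left_inv := fun j => rfl
      right_inv := fun j => rfl }

theorem card_Pt : Fintype.card D.Pt = D.n * D.m := by
  rw [← Nat.card_eq_fintype_card]; exact D.card_top

theorem adj_mul_allOne (r : ℕ) :
    D.adj r * D.allOne = (Nat.card {h : K // D.σ h = h⁻¹ ∧ orderOf h = r} : ℤ) • D.allOne := by
  ext i j
  simp [mul_apply, allOne, ← D.adj_row r i]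

theorem allOne_sq : D.allOne * D.allOne = ((D.n * D.m : ℕ) : ℤ) • D.allOne := by
  ext i j
  simp [mul_apply, allOne, D.card_Pt]

theorem sgn_mul_allOne {h : K} (h1 : h ≠ 1) : D.sgn h * D.allOne = 0 := by
  have hp := (D.sgn_par h1).mul D.allOne_par
  have hrow : ∀ i j, (D.sgn h * D.allOne) i j = (D.sgn h * D.allOne) D.base D.base := fun i j => by
    rw [hp.apply_base i j]
    simp [mul_apply, allOne]
  have h0 := hp.apply_inv D.base D.base
  rw [hrow] at h0
  ext i j
  rw [hrow]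
  simp only [Matrix.zero_apply]
  omega

/-- The adjacency count in the base cliques. -/
theorem adj_sum_X (v : D.Pt) :
    ∑ x : D.Pt, D.adj D.p v x * (haveI := Classical.dec ((x : K) ∈ D.X); if (x : K) ∈ D.X then 1 else 0) =
      (Nat.card (D.pnbr v) : ℤ) := by
  classical
  simp only [adj, mul_ite, mul_one, mul_zero, ← ite_and, Finset.sum_boole]
  rw [Nat.cast_inj, ← Fintype.card_subtype, ← Nat.card_eq_fintype_card]
  exact Nat.card_congr
    { toFun := fun x => ⟨(x : D.Pt), x.2.1, x.2.2⟩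
      invFun := fun x => ⟨⟨(x : K), trivial, x.2.1.2⟩, x.2.1, x.2.2⟩
      left_inv := fun x => rfl
      right_inv := fun x => rfl }

theorem adj_sum_Y (v : D.Pt) :
    ∑ x : D.Pt, D.adj D.p v x *
        (haveI := Classical.dec ((x : K) ∈ D.swap.X); if (x : K) ∈ D.swap.X then 1 else 0) =
      (Nat.card (D.swap.qnbr v) : ℤ) := by
  classical
  simp only [adj, mul_ite, mul_one, mul_zero, ← ite_and, Finset.sum_boole]
  rw [Nat.cast_inj, ← Fintype.card_subtype, ← Nat.card_eq_fintype_card]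
  exact Nat.card_congr
    { toFun := fun x => ⟨(x : D.Pt), x.2.1, x.2.2⟩
      invFun := fun x => ⟨⟨(x : K), trivial, x.2.1.2⟩, x.2.1, x.2.2⟩
      left_inv := fun x => rfl
      right_inv := fun x => rfl }

end TwoPrime

end CfsgLib.RankThreeInv
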